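import Groth.Agent.DCat.RFTri
import Groth.Agent.DCat.RFBasic
import Groth.Agent.DCat.DerivedAdj
import Groth.Agent.DCat.KInjRes
import Groth.Agent.DCat.ModulesGrothendieck
import Mathlib.Algebra.Homology.DerivedCategory.ExactFunctor
import Mathlib.CategoryTheory.Adjunction.Restrict

/-! An exact left adjoint on derived categories is left adjoint to the derived right adjoint. -/

set_option autoImplicit false
set_option backward.isDefEq.respectTransparency false
set_option backward.defeqAttrib.useBackward true
set_option linter.style.haveILetI false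

universe w w' v v' u u'

open CategoryTheory CategoryTheory.Limits
open Groth.Agent.DCat

namespace Groth.Agent.SiteDer16

theorem enoughKInj (A : Type u) [Category.{v} A] [Abelian A] [IsGrothendieckAbelian.{v} A] : EnoughKInj A := fun M => by
  obtain ⟨I, f, hI, hf, -, -⟩ := exists_kInj_res M
  exact ⟨I, f, hI, hf⟩

theorem enoughKInj_sheafOfModules {C : Type u} [SmallCategory C] {J : GrothendieckTopology C}
    (R : Sheaf J RingCat.{u}) : EnoughKInj (SheafOfModules.{u} R) :=
  haveI := sheafOfModules_isGrothendieckAbelian J R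
  enoughKInj _

variable {A : Type u} [Category.{v} A] [Abelian A] {B : Type u'} [Category.{v'} B] [Abelian B]
  [HasDerivedCategory.{w} A] [HasDerivedCategory.{w'} B]
  {G : A ⥤ B} {F : B ⥤ A} [G.Additive] [F.Additive] [PreservesFiniteLimits G] [PreservesFiniteColimits G]
  [(F.mapHomotopyCategory (ComplexShape.up ℤ) ⋙ DerivedCategory.Qh).HasRightDerivedFunctor
    (HomotopyCategory.quasiIso B (ComplexShape.up ℤ))]

/-- `G` exact, left adjoint to `F`: then `G ⊣ RF` on derived categories. -/
noncomputable def adjRF (adj : G ⊣ F) (hA : EnoughKInj A) (hB : EnoughKInj B) :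
    G.mapDerivedCategory ⊣
      (F.mapHomotopyCategory (ComplexShape.up ℤ) ⋙ DerivedCategory.Qh).totalRightDerived DerivedCategory.Qh
        (HomotopyCategory.quasiIso B (ComplexShape.up ℤ)) :=
  let F' := F.mapHomotopyCategory (ComplexShape.up ℤ)
  haveI : ∀ Y, IsIso ((rhoAdj hA).unit.app ((rho hB ⋙ F').obj Y)) := fun Y =>
    isIso_rhoAdj_unit hA (X := (rho hB ⋙ F').obj Y) (by
      haveI : CochainComplex.IsKInjective ((rho hB).obj Y).as := kInj_rho hB Y
      exact isKInjective_map_of_adj adj ((rho hB).obj Y).as)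
  haveI : IsIso (Functor.whiskerLeft (rho hB ⋙ F') (rhoAdj hA).unit) :=
    haveI : ∀ Y, IsIso ((Functor.whiskerLeft (rho hB ⋙ F') (rhoAdj hA).unit).app Y) := fun Y => by
      simp only [Functor.whiskerLeft_app]
      infer_instance
    NatIso.isIso_of_isIso_app _
  (((adjHot (ComplexShape.up ℤ) adj).comp (rhoAdj hB)).restrictFullyFaithful
      ((rhoAdj hA).fullyFaithfulROfIsIsoCounit) (Functor.FullyFaithful.id _)
      (L := G.mapDerivedCategory) (R := (rho hB ⋙ F') ⋙ DerivedCategory.Qh)
      (Functor.isoWhiskerLeft (rho hA) G.mapDerivedCategoryFactorsh.symm ≪≫ (Functor.associator _ _ _).symm ≪≫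
        Functor.isoWhiskerRight (asIso (rhoAdj hA).counit) _ ≪≫ Functor.leftUnitor _ ≪≫
        (Functor.rightUnitor _).symm)
      (Functor.leftUnitor _ ≪≫ (Functor.rightUnitor _).symm ≪≫
        asIso (Functor.whiskerLeft (rho hB ⋙ F') (rhoAdj hA).unit) ≪≫ (Functor.associator _ _ _).symm)).ofNatIsoRight
    ((Functor.associator _ _ _) ≪≫
      (rfIso hB (F.mapHomotopyCategory (ComplexShape.up ℤ) ⋙ DerivedCategory.Qh)).symm)

end Groth.Agent.SiteDer16
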