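import Groth.Agent.SiteCoh.TotallyAcyclic
import Mathlib.Algebra.Category.ModuleCat.Sheaf.Abelian
import Mathlib.Algebra.Category.ModuleCat.Presheaf.Free
import Mathlib.Algebra.Category.ModuleCat.Presheaf.Abelian
import Mathlib.CategoryTheory.Preadditive.Injective.Basic

/-! Injective modules are totally acyclic as abelian sheaves. -/

set_option autoImplicit false
set_option backward.isDefEq.respectTransparency false

universe u

open CategoryTheory CategoryTheory.Limits Opposite AlgebraicTopology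
open scoped Simplicial
open Groth.Agent.SiteCoh

namespace Groth.Agent.SiteDer16.ModAcyclic

variable {C : Type u} [SmallCategory C] {J : GrothendieckTopology C}
variable (R : Cᵒᵖ ⥤ RingCat.{u}) {K' K : Sheaf J (Type u)} (f : K' ⟶ K)

/-- The presheaves of free modules on the Čech nerve. -/
noncomputable abbrev freePreO : SimplicialObject (PresheafOfModules.{u} R) :=
  ((SimplicialObject.whiskering _ _).obj (sheafToPresheaf J (Type u) ⋙ PresheafOfModules.free R)).obj
    (Arrow.mk f).cechNerve

/-- Its alternating complex. -/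
noncomputable abbrev cxO : ChainComplex (PresheafOfModules.{u} R) ℕ :=
  AlternatingFaceMapComplex.obj (freePreO R f)

theorem d_app_freeMk (n : ℕ) (V : Cᵒᵖ) (x : Nerve.T f V (n + 1)) :
    ((cxO R f).d (n + 1) n).app V (ModuleCat.freeMk x) =
      ∑ i : Fin (n + 2), (-1 : ℤ) ^ (i : ℕ) • (ModuleCat.freeMk (Nerve.face f V i x) :
        (ModuleCat.free (R.obj V)).obj (Nerve.T f V n)) := by
  let Φ : ((cxO R f).X (n + 1) ⟶ (cxO R f).X n) →+ (ModuleCat.free (R.obj V)).obj (Nerve.T f V n) :=
    AddMonoidHom.mk' (fun m => m.app V (ModuleCat.freeMk x)) fun _ _ => rfl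
  change Φ ((cxO R f).d (n + 1) n) = _
  rw [AlternatingFaceMapComplex.obj_d_eq]
  erw [map_sum Φ]
  refine Finset.sum_congr rfl fun i _ => ?_
  erw [map_zsmul Φ]
  exact congrArg ((-1 : ℤ) ^ (i : ℕ) • ·) (ModuleCat.free_map_apply _ x)

theorem exact_pre_succ (n : ℕ) :
    (ShortComplex.mk _ _ ((cxO R f).d_comp_d (n + 2) (n + 1) n)).Exact := by
  rw [← ShortComplex.exact_map_iff_of_faithful _ (PresheafOfModules.toPresheaf R)]
  refine Nerve.exact_of_eval fun V => (ShortComplex.ab_exact_iff _).2 ?_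
  intro (x : (ModuleCat.free (R.obj V)).obj (Nerve.T f V (n + 1))) hx
  have hx' : ((cxO R f).d (n + 1) n).app V x = 0 := hx
  rcases isEmpty_or_nonempty (K'.obj.obj V) with h | h
  · have : IsEmpty (Nerve.T f V (n + 1)) := ⟨fun t => h.false (Nerve.proj f V 0 t)⟩
    have hs : Subsingleton ((ModuleCat.free (R.obj V)).obj (Nerve.T f V (n + 1))) :=
      inferInstanceAs (Subsingleton (Nerve.T f V (n + 1) →₀ R.obj V))
    exact ⟨(0 : (ModuleCat.free (R.obj V)).obj (Nerve.T f V (n + 2))),
      (map_zero (((cxO R f).d (n + 2) (n + 1)).app V).hom).trans (hs.elim 0 x)⟩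
  · let h₁ := (ModuleCat.free (R.obj V)).map (↾(Nerve.cone f V (n := n + 1)))
    let h₀ := (ModuleCat.free (R.obj V)).map (↾(Nerve.cone f V (n := n)))
    let dA : (ModuleCat.free (R.obj V)).obj (Nerve.T f V (n + 2)) ⟶ (ModuleCat.free (R.obj V)).obj (Nerve.T f V (n + 1)) :=
      ((cxO R f).d (n + 2) (n + 1)).app V
    let dB : (ModuleCat.free (R.obj V)).obj (Nerve.T f V (n + 1)) ⟶ (ModuleCat.free (R.obj V)).obj (Nerve.T f V n) :=
      ((cxO R f).d (n + 1) n).app V
    have key : h₁ ≫ dA + dB ≫ h₀ = 𝟙 _ := by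
      refine ModuleCat.free_hom_ext fun t => ?_
      show dA (h₁ (ModuleCat.freeMk t)) + h₀ (dB (ModuleCat.freeMk t)) = ModuleCat.freeMk t
      have eA : ∀ t, dA (ModuleCat.freeMk t) = ∑ i : Fin (n + 3), (-1 : ℤ) ^ (i : ℕ) •
          (ModuleCat.freeMk (Nerve.face f V i t) : (ModuleCat.free (R.obj V)).obj (Nerve.T f V (n + 1))) :=
        d_app_freeMk R f (n + 1) V
      have eB : ∀ t, dB (ModuleCat.freeMk t) = ∑ i : Fin (n + 2), (-1 : ℤ) ^ (i : ℕ) •
          (ModuleCat.freeMk (Nerve.face f V i t) : (ModuleCat.free (R.obj V)).obj (Nerve.T f V n)) :=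
        d_app_freeMk R f n V
      have e₁ : h₁ (ModuleCat.freeMk t) = ModuleCat.freeMk (Nerve.cone f V t) := ModuleCat.free_map_apply _ t
      have e₂ : ∀ s, h₀ (ModuleCat.freeMk s) = ModuleCat.freeMk (Nerve.cone f V s) := fun s =>
        ModuleCat.free_map_apply _ s
      rw [e₁, eA, eB, map_sum, Fin.sum_univ_succ (n := n + 2), Nerve.face_zero_cone,
        Fin.val_zero, pow_zero, one_zsmul, add_assoc, ← Finset.sum_add_distrib, Finset.sum_eq_zero, add_zero]
      intro i _
      rw [map_zsmul, e₂, Nerve.face_succ_cone, Fin.val_succ, pow_succ', neg_one_mul, neg_zsmul, neg_add_cancel]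
    refine ⟨h₁ x, ?_⟩
    have := ConcreteCategory.congr_hom key x
    change dA (h₁ x) + h₀ (dB x) = x at this
    rw [show dB x = 0 from hx', map_zero, add_zero] at this
    exact this

variable (M : PresheafOfModules.{u} R) [Injective M]

theorem exists_cochain (q : ℕ) (x : (AlternatingFaceMapComplex.obj (Nerve.freePre f)).X (q + 1) ⟶ M.presheaf)
    (hx : (AlternatingFaceMapComplex.obj (Nerve.freePre f)).d (q + 2) (q + 1) ≫ x = 0) :
    ∃ y : (AlternatingFaceMapComplex.obj (Nerve.freePre f)).X q ⟶ M.presheaf,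
      (AlternatingFaceMapComplex.obj (Nerve.freePre f)).d (q + 1) q ≫ y = x := by
  let φ : (cxO R f).X (q + 1) ⟶ M := PresheafOfModules.freeObjDesc
    (F := ((Arrow.mk f).cechNerve.obj (op ⦋q + 1⦌)).obj)
    { app := fun V => ↾(fun s : Nerve.T f V (q + 1) => x.app V (FreeAbelianGroup.of s))
      naturality := fun V W g => by
        ext s
        exact (congrArg (x.app W) (FreeAbelianGroup.map_of_apply s).symm).trans
          (NatTrans.naturality_apply x g (FreeAbelianGroup.of s)) }
  have hφs : ∀ (V : Cᵒᵖ) (s : Nerve.T f V (q + 1)),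
      φ.app V (ModuleCat.freeMk s) = x.app V (FreeAbelianGroup.of s) := fun V s =>
    ModuleCat.freeDesc_apply _ s
  have hφ : (cxO R f).d (q + 2) (q + 1) ≫ φ = 0 := by
    ext1 V
    refine ModuleCat.free_hom_ext fun t => ?_
    show φ.app V (((cxO R f).d (q + 2) (q + 1)).app V (ModuleCat.freeMk t)) = 0
    rw [d_app_freeMk, map_sum]
    have := ConcreteCategory.congr_hom (NatTrans.congr_app hx V) (FreeAbelianGroup.of t)
    change x.app V (Nerve.D f V (q + 1) (FreeAbelianGroup.of t)) = 0 at this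
    rw [Nerve.d_app_of, map_sum] at this
    refine Eq.trans (Finset.sum_congr rfl fun i _ => ?_) this
    rw [map_zsmul, map_zsmul, hφs]
  haveI : Mono (cokernel.desc ((cxO R f).d (q + 2) (q + 1)) ((cxO R f).d (q + 1) q)
      ((cxO R f).d_comp_d _ _ _)) := (exact_pre_succ R f q).mono_cokernelDesc
  let ψ : (cxO R f).X q ⟶ M := Injective.factorThru (cokernel.desc _ φ hφ)
    (cokernel.desc ((cxO R f).d (q + 2) (q + 1)) ((cxO R f).d (q + 1) q) ((cxO R f).d_comp_d _ _ _))
  have hψ : (cxO R f).d (q + 1) q ≫ ψ = φ :=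
    (congrArg (· ≫ ψ) (cokernel.π_desc ((cxO R f).d (q + 2) (q + 1)) _ ((cxO R f).d_comp_d _ _ _)).symm).trans
      ((Category.assoc _ _ _).trans ((congrArg (cokernel.π _ ≫ ·) (Injective.comp_factorThru _ _)).trans
        (cokernel.π_desc _ _ _)))
  refine ⟨{ app := fun V => AddCommGrpCat.ofHom
              (FreeAbelianGroup.lift fun s : Nerve.T f V q => ψ.app V (ModuleCat.freeMk s))
            naturality := fun V W g => ?_ }, ?_⟩
  · apply AddCommGrpCat.hom_ext
    refine FreeAbelianGroup.lift_ext _ _ fun s => ?_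
    show FreeAbelianGroup.lift (fun s => ψ.app W (ModuleCat.freeMk s)) (FreeAbelianGroup.map _ (FreeAbelianGroup.of s)) =
      M.presheaf.map g (FreeAbelianGroup.lift (fun s => ψ.app V (ModuleCat.freeMk s)) (FreeAbelianGroup.of s))
    rw [FreeAbelianGroup.map_of_apply, FreeAbelianGroup.lift_apply_of, FreeAbelianGroup.lift_apply_of]
    refine Eq.trans ?_ (PresheafOfModules.naturality_apply ψ g (ModuleCat.freeMk s))
    exact congrArg (ψ.app W) (show ((cxO R f).X q).map g (ModuleCat.freeMk s) = _ from ModuleCat.freeDesc_apply _ s).symm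
  · ext1; funext V
    apply AddCommGrpCat.hom_ext
    refine FreeAbelianGroup.lift_ext _ _ fun t => ?_
    show FreeAbelianGroup.lift (fun s => ψ.app V (ModuleCat.freeMk s)) (Nerve.D f V q (FreeAbelianGroup.of t)) =
      x.app V (FreeAbelianGroup.of t)
    rw [Nerve.d_app_of, map_sum, ← hφs, ← hψ]
    refine Eq.trans ?_ (congrArg (ψ.app V) (d_app_freeMk R f q V t)).symm
    rw [map_sum]
    refine Finset.sum_congr rfl fun i _ => ?_
    rw [map_zsmul, map_zsmul, FreeAbelianGroup.lift_apply_of]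

theorem nerveAcyclic_toSheaf (S : Sheaf J RingCat.{u}) (I : SheafOfModules.{u} S) [Injective I] :
    NerveAcyclic ((SheafOfModules.toSheaf S).obj I) := by
  intro K' K f _ q
  haveI : Injective I.val :=
    Injective.injective_of_adjoint (PresheafOfModules.sheafificationAdjunction (𝟙 S.obj)) I
  rw [isZero_cechNerveCx_iff]
  intro x hx
  let adj := sheafificationAdjunction J AddCommGrpCat.{u}
  let e := fun n => adj.homEquiv ((AlternatingFaceMapComplex.obj (Nerve.freePre f)).X n) ((SheafOfModules.toSheaf S).obj I)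
  have he : ∀ n (z : (Nerve.freeCx f).X n ⟶ (SheafOfModules.toSheaf S).obj I),
      e (n + 1) ((Nerve.freeCx f).d (n + 1) n ≫ z) =
        (AlternatingFaceMapComplex.obj (Nerve.freePre f)).d (n + 1) n ≫ e n z := fun n z => by
    rw [Nerve.d_eq_sheafify]
    exact adj.homEquiv_naturality_left _ _
  obtain ⟨y, hy⟩ := exists_cochain S.obj f I.val q (e (q + 1) x) (by
    refine (he (q + 1) x).symm.trans ((congrArg (e (q + 2)) hx).trans ?_)
    show adj.homEquiv _ _ 0 = 0
    rw [Adjunction.homEquiv_unit, Functor.map_zero, comp_zero])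
  refine ⟨(e q).symm y, (e (q + 1)).injective ?_⟩
  exact (he q _).trans ((congrArg _ ((e q).apply_symm_apply y)).trans hy)

/-- Injective modules are totally acyclic. -/
theorem isTotallyAcyclic_toSheaf (S : Sheaf J RingCat.{u}) (I : SheafOfModules.{u} S) [Injective I] :
    CohCx.IsTotallyAcyclic ((SheafOfModules.toSheaf S).obj I) :=
  isTotallyAcyclic_of_nerveAcyclic (nerveAcyclic_toSheaf S I)

end Groth.Agent.SiteDer16.ModAcyclic
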