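import Groth.Agent.SiteDer16.LocalHom
import Groth.Agent.SiteDer16.ModAcyclic
import Groth.Agent.Coherent.ModulesExact
import Groth.Agent.SiteCoh.Sections
import Groth.Agent.SiteCoh.Basics
import Groth.Agent.S0864
import Groth.Agent.DCat.ModulesGrothendieck
import Groth.Prelude.Def_ModSite
import Mathlib.CategoryTheory.Sites.EpiMono
import Mathlib.Algebra.Category.ModuleCat.Presheaf.Free

/-! Sections of abelian sheaves and of sheaves of modules as morphisms out of free objects. -/

set_option autoImplicit false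
set_option backward.isDefEq.respectTransparency false
set_option backward.defeqAttrib.useBackward true

universe w v u u'

open CategoryTheory CategoryTheory.Limits Opposite

namespace Groth.Agent.SiteDer16

variable {C : Type u'} [SmallCategory C] {J : GrothendieckTopology C}

/-- Sections from a sections functor to abelian sheaves. -/
def Sections.ofSheafValued {A : Type u} [Category.{v} A] [Abelian A]
    (Γ : A ⥤ Sheaf J AddCommGrpCat.{u'}) [Γ.Additive] [Γ.Faithful] [Γ.PreservesEpimorphisms]
    (P : C ⥤ A) (e : ∀ (V : C) (F : A), (P.obj V ⟶ F) ≃+ (Γ.obj F).obj.obj (op V))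
    (he₁ : ∀ {W V : C} (g : W ⟶ V) {F : A} (x : P.obj V ⟶ F),
      e W F (P.map g ≫ x) = (Γ.obj F).obj.map g.op (e V F x))
    (he₂ : ∀ {V : C} {F G : A} (x : P.obj V ⟶ F) (f : F ⟶ G),
      e V G (x ≫ f) = (Γ.map f).hom.app (op V) (e V F x)) :
    Sections J A where
  P := P
  sep {V F} x T hT hx := by
    apply (e V F).injective
    rw [map_zero]
    apply (((isSheaf_iff_isSheaf_of_type _ _).1
      ((sheafCompose J (forget AddCommGrpCat.{u'})).obj (Γ.obj F)).2).isSeparated _ hT).ext
    intro W g hg
    show (Γ.obj F).obj.map g.op (e V F x) = (Γ.obj F).obj.map g.op 0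
    rw [← he₁, hx g hg, map_zero, map_zero]
  lift {V F G} p _ x := by
    haveI : Sheaf.IsLocallySurjective (Γ.map p) := (Sheaf.isLocallySurjective_iff_epi' _ (Γ.map p)).2 inferInstance
    refine ⟨_, Presheaf.imageSieve_mem J (Γ.map p).hom (e V G x), fun W g ⟨s, hs⟩ => ⟨(e W F).symm s, ?_⟩⟩
    apply (e W G).injective
    rw [he₂, AddEquiv.apply_symm_apply, he₁]
    exact hs
  gen {F} h := by
    rw [IsZero.iff_id_eq_zero]
    apply Γ.map_injective
    rw [Γ.map_zero, Γ.map_id]
    ext V s
    obtain ⟨y, rfl⟩ := (e V.unop F).surjective s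
    simp [h V.unop y]

/-- Vanishing is tested on any family of objects covering everything. -/
theorem Sections.isZero_of_cover {A : Type u} [Category.{v} A] [Abelian A] (S : Sections J A) (B : Set C)
    (hB : ∀ U : C, ∃ (ι : Type u') (Y : ι → C) (f : ∀ i, Y i ⟶ U), Sieve.ofArrows Y f ∈ J U ∧ ∀ i, Y i ∈ B)
    {F : A} (h : ∀ V ∈ B, ∀ x : S.P.obj V ⟶ F, x = 0) : IsZero F := by
  refine S.gen fun V x => ?_
  obtain ⟨ι, Y, f, hf, hY⟩ := hB V
  refine S.sep x _ hf ?_
  rintro W g ⟨_, a, _, ⟨i⟩, rfl⟩
  rw [Functor.map_comp, Category.assoc, h _ (hY i) (S.P.map (f i) ≫ x), comp_zero]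

section Ab

variable (J)

/-- Sections of abelian sheaves. -/
noncomputable def abSections : Sections J (Sheaf J AddCommGrpCat.{u'}) :=
  Sections.ofSheafValued (𝟭 _) (SiteCoh.freeFunctor J) (fun V F => SiteCoh.homEquiv V F)
    (fun g _ x => SiteCoh.homEquiv_precomp g x) (fun x f => SiteCoh.homEquiv_postcomp x f)

end Ab

section Mod

variable (O : Sheaf J CommRingCat.{u'})

/-- The free sheaves of modules on representables. -/
noncomputable def modFree : C ⥤ ModSite.Mod O :=
  yoneda ⋙ PresheafOfModules.free.{u'} (ModSite.ringSh O).obj ⋙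
    PresheafOfModules.sheafification.{u'} (𝟙 (ModSite.ringSh O).obj)

/-- Morphisms out of a free sheaf of modules are sections. -/
noncomputable def modHomEquiv₀ (V : C) (F : ModSite.Mod O) :
    ((modFree O).obj V ⟶ F) ≃ ((SheafOfModules.toSheaf _).obj F).obj.obj (op V) :=
  ((PresheafOfModules.sheafificationAdjunction.{u'} (𝟙 (ModSite.ringSh O).obj)).homEquiv _ F).trans
    (((PresheafOfModules.freeAdjunction.{u'} (ModSite.ringSh O).obj).homEquiv _ _).trans yonedaEquiv)

theorem modHomEquiv₀_postcomp {V : C} {F G : ModSite.Mod O} (x : (modFree O).obj V ⟶ F) (f : F ⟶ G) :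
    modHomEquiv₀ O V G (x ≫ f) =
      ((SheafOfModules.toSheaf _).map f).hom.app (op V) (modHomEquiv₀ O V F x) := by
  dsimp only [modHomEquiv₀, Equiv.trans_apply]
  erw [Adjunction.homEquiv_naturality_right, Adjunction.homEquiv_naturality_right, yonedaEquiv_comp]

theorem modHomEquiv₀_precomp {W V : C} (g : W ⟶ V) {F : ModSite.Mod O} (x : (modFree O).obj V ⟶ F) :
    modHomEquiv₀ O W F ((modFree O).map g ≫ x) =
      ((SheafOfModules.toSheaf _).obj F).obj.map g.op (modHomEquiv₀ O V F x) := by
  dsimp only [modHomEquiv₀, Equiv.trans_apply]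
  have key : ∀ (G : PresheafOfModules.{u'} (ModSite.ringSh O).obj)
      (z : (PresheafOfModules.free.{u'} (ModSite.ringSh O).obj).obj (yoneda.obj V) ⟶ G),
      yonedaEquiv ((PresheafOfModules.freeAdjunction.{u'} (ModSite.ringSh O).obj).homEquiv _ _
        ((PresheafOfModules.free.{u'} (ModSite.ringSh O).obj).map (yoneda.map g) ≫ z)) =
      G.presheaf.map g.op (yonedaEquiv ((PresheafOfModules.freeAdjunction.{u'} (ModSite.ringSh O).obj).homEquiv _ _ z)) := by
    intro G z
    rw [Adjunction.homEquiv_naturality_left]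
    exact (yonedaEquiv_naturality _ g).symm
  exact ((congrArg (fun z => yonedaEquiv ((PresheafOfModules.freeAdjunction.{u'} (ModSite.ringSh O).obj).homEquiv _ _ z))
    ((PresheafOfModules.sheafificationAdjunction.{u'} (𝟙 (ModSite.ringSh O).obj)).homEquiv_naturality_left
      ((PresheafOfModules.free.{u'} (ModSite.ringSh O).obj).map (yoneda.map g)) x))).trans (key _ _)

/-- Morphisms out of a free sheaf of modules are sections, additively. -/
noncomputable def modHomEquiv (V : C) (F : ModSite.Mod O) :
    ((modFree O).obj V ⟶ F) ≃+ ((SheafOfModules.toSheaf _).obj F).obj.obj (op V) :=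
  AddEquiv.mk' (modHomEquiv₀ O V F) fun x y => by
    have h : ∀ z : (modFree O).obj V ⟶ F, modHomEquiv₀ O V F z =
        ((SheafOfModules.toSheaf _).map z).hom.app (op V) (modHomEquiv₀ O V _ (𝟙 _)) := fun z => by
      rw [← modHomEquiv₀_postcomp, Category.id_comp]
    rw [h, h x, h y, Functor.map_add]
    rfl

/-- Sections of sheaves of modules. -/
noncomputable def modSections : Sections J (ModSite.Mod O) :=
  Sections.ofSheafValued (SheafOfModules.toSheaf.{u'} (ModSite.ringSh O)) (modFree O) (modHomEquiv O)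
    (fun g _ x => modHomEquiv₀_precomp O g x) (fun x f => modHomEquiv₀_postcomp O x f)

/-- Vanishing of the cohomology of the underlying abelian sheaf gives vanishing of Ext out of free modules. -/
theorem subsingleton_ext_modFree [HasExt.{u'} (ModSite.Mod O)] (W : C) (k : ℕ) :
    ∀ (F : ModSite.Mod O), Subsingleton (ModSite.HU O F k W) →
      Subsingleton (Abelian.Ext.{u'} ((modFree O).obj W) F k) := by
  induction k with
  | zero =>
    intro F hF
    haveI : Subsingleton (Abelian.Ext.{u'} (CohCx.freeSheaf J W) ((SheafOfModules.toSheaf _).obj F) 0) := hF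
    haveI : Subsingleton (((SheafOfModules.toSheaf _).obj F).obj.obj (op W)) :=
      ((SiteCoh.homEquiv W ((SheafOfModules.toSheaf _).obj F)).symm.toEquiv.trans
        Abelian.Ext.homEquiv₀.symm).subsingleton
    exact (Abelian.Ext.homEquiv₀.trans (modHomEquiv O W F).toEquiv).subsingleton
  | succ n ih =>
    intro F hF
    let S := SiteCoh.injEmbed F
    have hS : S.ShortExact := SiteCoh.injEmbed_shortExact F
    haveI : Injective S.X₂ := inferInstanceAs (Injective (Injective.under F))
    have h₂ : ∀ m, Subsingleton (Abelian.Ext.{u'} ((modFree O).obj W) S.X₂ (m + 1)) := fun m =>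
      ⟨fun x y => (Abelian.Ext.eq_zero_of_injective x).trans (Abelian.Ext.eq_zero_of_injective y).symm⟩
    have hS' : (S.map (SheafOfModules.toSheaf.{u'} (ModSite.ringSh O))).ShortExact := by
      haveI := hS.mono_f
      haveI := hS.epi_g
      haveI : Mono (S.map (SheafOfModules.toSheaf.{u'} (ModSite.ringSh O))).f :=
        inferInstanceAs (Mono ((SheafOfModules.toSheaf.{u'} (ModSite.ringSh O)).map S.f))
      haveI : Epi (S.map (SheafOfModules.toSheaf.{u'} (ModSite.ringSh O))).g :=
        inferInstanceAs (Epi ((SheafOfModules.toSheaf.{u'} (ModSite.ringSh O)).map S.g))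
      exact { exact := hS.exact.map_of_mono_of_preservesKernel _ hS.mono_f inferInstance }
    have hI : ∀ m, Subsingleton (CohSite.HU ((SheafOfModules.toSheaf _).obj S.X₂) (m + 1) W) := fun m =>
      S0864.result _ (ModAcyclic.isTotallyAcyclic_toSheaf (ModSite.ringSh O) S.X₂) W m
    rcases n with _ | n
    · refine SiteCoh.subsingleton_ext_one hS (h₂ 0) fun x => ?_
      obtain ⟨s, hs⟩ := SiteCoh.surjective_sections_of_subsingleton hS' W hF (modHomEquiv O W S.X₃ x)
      refine ⟨(modHomEquiv O W S.X₂).symm s, (modHomEquiv O W S.X₃).injective ?_⟩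
      show modHomEquiv₀ O W S.X₃ _ = _
      rw [modHomEquiv₀_postcomp]
      refine Eq.trans ?_ hs
      exact congrArg _ ((modHomEquiv O W S.X₂).apply_symm_apply s)
    · exact SiteCoh.subsingleton_ext_X₁ hS _
        (ih _ (SiteCoh.subsingleton_ext_X₃ hS' _ (hI n) hF)) (h₂ _)

/-- The same in any universe of Ext groups. -/
theorem subsingleton_ext_modFree' [HasExt.{w} (ModSite.Mod O)] [HasExt.{u'} (ModSite.Mod O)] (W : C) (k : ℕ)
    (F : ModSite.Mod O) (h : Subsingleton (ModSite.HU O F k W)) :
    Subsingleton (Abelian.Ext.{w} ((modFree O).obj W) F k) :=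
  @Equiv.subsingleton _ _
    (show Abelian.Ext.{w} ((modFree O).obj W) F k ≃ Abelian.Ext.{u'} ((modFree O).obj W) F k from Abelian.Ext.chgUniv)
    (subsingleton_ext_modFree O W k F h)

end Mod

end Groth.Agent.SiteDer16
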