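import Groth.Agent.SiteDer16.EventuallyConst
import Groth.Agent.SiteDer16.SectionsInst
import Groth.Agent.SiteDer16.Adjunction
import Mathlib.Data.Int.Interval

/-! Eventually constant systems of modules with bounded dimension. -/

set_option autoImplicit false
set_option backward.isDefEq.respectTransparency false
set_option linter.style.haveILetI false

universe u

open CategoryTheory CategoryTheory.Limits DerivedCategory

namespace Groth.Agent.SiteDer16

variable {C : Type u} [SmallCategory C] {J : GrothendieckTopology C} (O : Sheaf J CommRingCat.{u})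
  [HasDerivedCategory.{u + 1} (ModSite.Mod O)] (A : ObjectProperty (ModSite.Mod O)) [WSerre.IsWeakSerre A]
  (B : Set C)
  (hB : ∀ U : C, ∃ (ι : Type u) (Y : ι → C) (g : ∀ i, Y i ⟶ U), Sieve.ofArrows Y g ∈ J U ∧ ∀ i, Y i ∈ B)
  (hA : ∀ V ∈ B, ∃ d : ℕ, ∀ T ∈ J V, ∃ (ι : Type u) (Y : ι → C) (g : ∀ i, Y i ⟶ V),
    (∀ i, T.arrows (g i)) ∧ Sieve.ofArrows Y g ∈ J V ∧
    ∀ (i : ι) (F : ModSite.Mod O), A F → ∀ k : ℕ, d < k → Subsingleton (ModSite.HU O F k (Y i)))
  {L : DerivedCategory (ModSite.Mod O)} {K : ℕ → DerivedCategory (ModSite.Mod O)}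
  (t : ∀ n, K (n + 1) ⟶ K n) [HasProduct K] {a : ∀ n, L ⟶ K n} (hL : CohCx.IsRlimVia K t L a)
  (hK : ∀ n, WSerre.cohInPlus A (K n))

include hB hA hL hK in
theorem isIso_homology_of_eventually_constant
    (hconst : ∀ j : ℤ, ∃ n₀ : ℕ, ∀ n, n₀ ≤ n → IsIso ((homologyFunctor (ModSite.Mod O) j).map (t n))) (j : ℤ) :
    ∃ n₀ : ℕ, ∀ n, n₀ ≤ n → IsIso ((homologyFunctor (ModSite.Mod O) j).map (a n)) := by
  haveI : HasExt.{u + 1} (ModSite.Mod O) := hasExt_of_hasDerivedCategory _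
  haveI : HasExt.{u} (ModSite.Mod O) := inferInstance
  choose n₀ hn₀ using hconst
  refine ⟨n₀ j, isIso_homology_of_local (modSections O) (enoughKInj_sheafOfModules _) t hL B hB j (n₀ j) (hn₀ j)
    fun V hV => ?_⟩
  obtain ⟨d, hd⟩ := hA V hV
  refine ⟨n₀ j + (Finset.Icc (j - 1 - d) (j + 1)).sup n₀, Nat.le_add_right _ _, fun T hT => ?_⟩
  obtain ⟨ι, W, f, h1, h2, h3⟩ := hd T hT
  refine ⟨ι, W, f, h1, h2, fun i n hn Z g δ hT' k hk y => ?_⟩
  refine eq_zero_cone (modSections O) A (t n) (hK (n + 1)) (hK n) (W i) k d (fun q h4 h5 => ?_)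
    (fun F hF e he => ?_) Z g δ hT' y
  · exact hn₀ q n (le_trans (le_trans (Finset.le_sup (Finset.mem_Icc.2 (by omega))) (Nat.le_add_left _ _)) hn)
  · skip
    exact (show Abelian.Ext.{u + 1} ((modSections O).P.obj (W i)) F e ≃ Abelian.Ext.{u} ((modSections O).P.obj (W i)) F e from Abelian.Ext.chgUniv) |> fun eq => @Equiv.subsingleton _ _ eq (subsingleton_ext_modFree O (W i) e F (h3 i F hF e he))

end Groth.Agent.SiteDer16
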