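import Groth.Agent.SiteDer16.TruncTower
import Groth.Agent.SiteDer16.SectionsInst
import Groth.Agent.SiteDer16.Adjunction
import Groth.Prelude.Def_CohTop

/-! Derived limits of truncations on sites and on spaces. -/

set_option autoImplicit false
set_option backward.isDefEq.respectTransparency false

universe w u

open CategoryTheory CategoryTheory.Limits Opposite TopologicalSpace

namespace Groth.Agent.SiteDer16

variable {C : Type u} [SmallCategory C] {J : GrothendieckTopology C}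

/-- Covers can be refined by objects of a covering family. -/
theorem exists_refinement (B : Set C)
    (hB : ∀ U : C, ∃ (ι : Type u) (Y : ι → C) (f : ∀ i, Y i ⟶ U), Sieve.ofArrows Y f ∈ J U ∧ ∀ i, Y i ∈ B)
    {V : C} (T : Sieve V) (hT : T ∈ J V) :
    ∃ (ι : Type u) (Y : ι → C) (f : ∀ i, Y i ⟶ V),
      (∀ i, T.arrows (f i)) ∧ Sieve.ofArrows Y f ∈ J V ∧ ∀ i, Y i ∈ B := by
  choose ι Y f hf hY using hB
  let K := Σ a : {a : Σ W : C, (W ⟶ V) // T.arrows a.2}, ι a.1.1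
  refine ⟨K, fun k => Y _ k.2, fun k => f _ k.2 ≫ k.1.1.2, fun k => T.downward_closed k.1.2 _, ?_,
    fun k => hY _ _⟩
  refine J.transitive hT _ fun W g hg => ?_
  refine J.superset_covering ?_ (hf W)
  rintro Z b ⟨_, a, _, ⟨i⟩, rfl⟩
  exact ⟨_, a, _, ⟨(⟨⟨⟨W, g⟩, hg⟩, i⟩ : K)⟩, (Category.assoc _ _ _).symm⟩

section Mod

variable (O : Sheaf J CommRingCat.{u}) [HasDerivedCategory.{w} (ModSite.Mod O)]
  (E : DerivedCategory (ModSite.Mod O)) [HasProduct (CohCx.truncTower E)]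

/-- Derived limit of truncations for modules under local vanishing. -/
theorem isRlimVia_mod (B : Set C)
    (hB : ∀ U : C, ∃ (ι : Type u) (Y : ι → C) (f : ∀ i, Y i ⟶ U), Sieve.ofArrows Y f ∈ J U ∧ ∀ i, Y i ∈ B)
    (h : ∀ V ∈ B, ∃ p : ℤ → ℤ, ∀ T ∈ J V, ∃ (ι : Type u) (Y : ι → C) (f : ∀ i, Y i ⟶ V),
      (∀ i, T.arrows (f i)) ∧ Sieve.ofArrows Y f ∈ J V ∧
      ∀ (i : ι) (m : ℤ) (k : ℕ), p m < k →
        Subsingleton (ModSite.HU O ((DerivedCategory.homologyFunctor (ModSite.Mod O) (m - k)).obj E) k (Y i))) :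
    CohCx.IsRlimVia (CohCx.truncTower E) (CohCx.truncTowerMap E) E (CohCx.toTruncTower E) := by
  haveI : HasExt.{w} (ModSite.Mod O) := hasExt_of_hasDerivedCategory _
  haveI : HasExt.{u} (ModSite.Mod O) := inferInstance
  refine isRlimVia_truncTower (modSections O) E (enoughKInj_sheafOfModules _) B
    (fun hz => (modSections O).isZero_of_cover B hB hz) fun V hV => ?_
  obtain ⟨p, hp⟩ := h V hV
  refine ⟨PUnit, fun _ => p, fun T hT => ?_⟩
  obtain ⟨ι, Y, f, h1, h2, h3⟩ := hp (T ⟨⟩) (hT _)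
  exact ⟨ι, Y, f, h2, fun i => ⟨⟨⟩, h1 i, fun m k hk => subsingleton_ext_modFree'.{w, u} O (Y i) k _ (h3 i m k hk)⟩⟩

end Mod

section Ab

variable [HasDerivedCategory.{u} (Sheaf J AddCommGrpCat.{u})]
  (E : DerivedCategory (Sheaf J AddCommGrpCat.{u})) [HasProduct (CohCx.truncTower E)]

/-- Derived limit of truncations for abelian sheaves under local vanishing. -/
theorem isRlimVia_ab (B : Set C)
    (hB : ∀ U : C, ∃ (ι : Type u) (Y : ι → C) (f : ∀ i, Y i ⟶ U), Sieve.ofArrows Y f ∈ J U ∧ ∀ i, Y i ∈ B)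
    (h : ∀ V ∈ B, ∃ p : ℤ → ℤ, ∀ T ∈ J V, ∃ (ι : Type u) (Y : ι → C) (f : ∀ i, Y i ⟶ V),
      (∀ i, T.arrows (f i)) ∧ Sieve.ofArrows Y f ∈ J V ∧
      ∀ (i : ι) (m : ℤ) (k : ℕ), p m < k → Subsingleton (CohSite.HU (CohCx.HD E (m - k)) k (Y i))) :
    CohCx.IsRlimVia (CohCx.truncTower E) (CohCx.truncTowerMap E) E (CohCx.toTruncTower E) :=
  isRlimVia_truncTower (abSections J) E (enoughKInj _) B
    (fun hz => (abSections J).isZero_of_cover B hB hz) fun V hV => by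
      obtain ⟨p, hp⟩ := h V hV
      refine ⟨PUnit, fun _ => p, fun T hT => ?_⟩
      obtain ⟨ι, Y, f, h1, h2, h3⟩ := hp (T ⟨⟩) (hT _)
      exact ⟨ι, Y, f, h2, fun i => ⟨⟨⟩, h1 i, h3 i⟩⟩

end Ab

section Top

variable {X : TopCat.{u}} [HasDerivedCategory.{u} (CohTop.Ab X)] (E : DerivedCategory (CohTop.Ab X))
  [HasProduct (CohCx.truncTower E)]

/-- Derived limit of truncations on a space, with vanishing on arbitrarily small neighbourhoods. -/
theorem isRlimVia_top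
    (h : ∀ x : X, ∃ p : ℤ → ℤ, ∀ V : Opens X, x ∈ V → ∃ U : Opens X, x ∈ U ∧ U ≤ V ∧
      ∀ (m : ℤ) (k : ℕ), p m < k → Subsingleton (CohTop.HU (CohCx.HD E (m - k)) k U)) :
    CohCx.IsRlimVia (CohCx.truncTower E) (CohCx.truncTowerMap E) E (CohCx.toTruncTower E) := by
  haveI : HasExt.{u} (CohTop.Ab X) := hasExt_of_hasDerivedCategory _
  refine isRlimVia_truncTower (abSections _) E (enoughKInj _) Set.univ ?_ fun V _ => ?_
  · intro F hz
    exact (abSections _).gen fun V x => hz V trivial x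
  · choose p hp using h
    refine ⟨{x : X // x ∈ V}, fun x => p x.1, fun T hT => ?_⟩
    choose W g hg hxW using fun x : {x : X // x ∈ V} => hT x x.1 x.2
    choose U hxU hU hvan using fun x : {x : X // x ∈ V} => hp x.1 (W x) (hxW x)
    refine ⟨{x : X // x ∈ V}, U, fun x => homOfLE (hU x) ≫ g x, fun y hy => ?_,
      fun x => ⟨x, (T x).downward_closed (hg x) _, hvan x⟩⟩
    exact ⟨U ⟨y, hy⟩, homOfLE (hU ⟨y, hy⟩) ≫ g ⟨y, hy⟩, Sieve.ofArrows_mk _ _ (⟨y, hy⟩ : {x : X // x ∈ V}),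
      hxU ⟨y, hy⟩⟩

end Top

end Groth.Agent.SiteDer16
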