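import Groth.Agent.SiteDer16.RpushRlim
import Groth.Agent.SiteDer16.ModEvConst
import Groth.Agent.SiteDer16.RlimSites
import Groth.Agent.DCat.RFBasic
import Groth.Agent.DCat.DerivedLimits
import Groth.Agent.SpecSeq.MapExtend
import Mathlib.CategoryTheory.Abelian.Injective.Extend

/-! Derived direct images of truncations. -/

set_option autoImplicit false
set_option backward.isDefEq.respectTransparency false
set_option backward.defeqAttrib.useBackward true
set_option linter.style.haveILetI false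

universe w v u u' v' w'

open CategoryTheory CategoryTheory.Limits CategoryTheory.Pretriangulated DerivedCategory
open Groth.Agent.DCat

namespace Groth.Agent.SiteDer16

section

variable {A : Type u} [Category.{v} A] [Abelian A] [HasDerivedCategory.{w} A]
  {B : Type u'} [Category.{v'} B] [Abelian B] [HasDerivedCategory.{w'} B] (hA : EnoughKInj A)
  (F : A ⥤ B) [F.Additive]
  [(F.mapHomotopyCategory (ComplexShape.up ℤ) ⋙ Qh).HasRightDerivedFunctor
    (HomotopyCategory.quasiIso A (ComplexShape.up ℤ))]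

set_option quotPrecheck false in
local notation "RF" => (F.mapHomotopyCategory (ComplexShape.up ℤ) ⋙ Qh).totalRightDerived Qh
  (HomotopyCategory.quasiIso A (ComplexShape.up ℤ))

include hA in
theorem isGE_totalRightDerived [EnoughInjectives A] (Y : DerivedCategory A) (n : ℤ) [Y.IsGE n] :
    ((RF).obj Y).IsGE n :=
  haveI := isGE_rf hA F Y n
  (DerivedCategory.TStructure.t).isGE_of_iso
    ((rfIso hA (F.mapHomotopyCategory (ComplexShape.up ℤ) ⋙ Qh)).app Y).symm n

include hA in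
theorem nonempty_iso_homology_single [HasInjectiveResolutions A] (M : A) (p : ℕ) :
    Nonempty ((homologyFunctor B (p : ℤ)).obj ((RF).obj ((singleFunctor A 0).obj M)) ≅ (F.rightDerived p).obj M) := by
  let R := injectiveResolution M
  let I := R.cochainComplex
  haveI hI : I.IsKInjective := CochainComplex.isKInjective_of_injective I 0
  haveI : IsIso (Q.map R.ι') := (isIso_Q_map_iff_quasiIso _ R.ι').2 inferInstance
  let e : Q.obj I ≅ (singleFunctor A 0).obj M :=
    (asIso (Q.map R.ι')).symm ≪≫ ((singleFunctorIsoCompQ A 0).app M).symm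
  exact ⟨(homologyFunctor B (p : ℤ)).mapIso
      ((rfIso hA (F.mapHomotopyCategory (ComplexShape.up ℤ) ⋙ Qh)).app _ ≪≫ rfObjIso hA F I e) ≪≫
    (homologyFunctorFactors B (p : ℤ)).app _ ≪≫
    (HomologicalComplex.homologyFunctor B _ (p : ℤ)).mapIso
      (SpecSeq.mapExtendIso F R.cocomplex ComplexShape.embeddingUpNat) ≪≫
    ((F.mapHomologicalComplex (ComplexShape.up ℕ)).obj R.cocomplex).extendHomologyIso ComplexShape.embeddingUpNat
      (show ComplexShape.embeddingUpNat.f p = (p : ℤ) from rfl) ≪≫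
    (R.isoRightDerivedObj F p).symm⟩

end

attribute [local instance] HasDerivedCategory.standard

variable {C : Type u} [SmallCategory C] {J : GrothendieckTopology C}
  {D : Type u} [SmallCategory D] {K : GrothendieckTopology D}
  {O_C : Sheaf J CommRingCat.{u}} {O_D : Sheaf K CommRingCat.{u}} (f : ModSite.RMor O_C O_D)
  [HasInjectiveResolutions (ModSite.Mod O_C)] [SiteCmp.HasRpushD f]

theorem isGE_rpushD (Y : DerivedCategory (ModSite.Mod O_C)) (n : ℤ) (hY : Y.IsGE n) :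
    ((SiteCmp.RpushD f).obj Y).IsGE n :=
  haveI := hY
  isGE_totalRightDerived (enoughKInj_sheafOfModules _) f.push Y n

theorem nonempty_iso_homology_rpushD (M : ModSite.Mod O_C) (p : ℕ) :
    Nonempty ((homologyFunctor (ModSite.Mod O_D) (p : ℤ)).obj ((SiteCmp.RpushD f).obj (SiteCmp.inD O_C M)) ≅
      (f.Rpush p).obj M) :=
  nonempty_iso_homology_single (enoughKInj_sheafOfModules _) f.push M p

/-- Cohomology of a derived direct image of a sheaf in `A`. -/
theorem isZero_homology_rpushD (M : ModSite.Mod O_C) (N i : ℤ) (hi : N < i)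
    (h4 : ∀ p : ℕ, N < (p : ℤ) → IsZero ((f.Rpush p).obj M)) :
    IsZero ((homologyFunctor (ModSite.Mod O_D) i).obj ((SiteCmp.RpushD f).obj (SiteCmp.inD O_C M))) := by
  rcases lt_or_ge i 0 with h | h
  · exact isZero_of_isGE _ 0 i h (hX := isGE_rpushD f _ 0 inferInstance)
  · obtain ⟨p, rfl⟩ := Int.eq_ofNat_of_zero_le h
    obtain ⟨e⟩ := nonempty_iso_homology_rpushD f M p
    exact (h4 p hi).of_iso e

theorem cohIn_rpushD_single (A' : ObjectProperty (ModSite.Mod O_D)) [WSerre.IsWeakSerre A'] (M : ModSite.Mod O_C)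
    (h3 : ∀ p : ℕ, A' ((f.Rpush p).obj M)) :
    WSerre.cohIn A' ((SiteCmp.RpushD f).obj (SiteCmp.inD O_C M)) := fun i => by
  rcases lt_or_ge i 0 with h | h
  · obtain ⟨Z, hZ, hAZ⟩ := A'.exists_prop_of_containsZero
    exact A'.prop_of_iso (hZ.iso (isZero_of_isGE _ 0 i h (hX := isGE_rpushD f _ 0 inferInstance))) hAZ
  · obtain ⟨p, rfl⟩ := Int.eq_ofNat_of_zero_le h
    obtain ⟨e⟩ := nonempty_iso_homology_rpushD f M p
    exact A'.prop_of_iso e.symm (h3 p)

section

variable (A : ObjectProperty (ModSite.Mod O_C)) [WSerre.IsWeakSerre A] (N : ℤ)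
  (h4 : ∀ F : ModSite.Mod O_C, A F → ∀ p : ℕ, N < (p : ℤ) → IsZero ((f.Rpush p).obj F))
  (X : DerivedCategory (ModSite.Mod O_C)) (hX : WSerre.cohIn A X)

include h4 hX in
theorem isIso_homology_rpushD_truncTowerMap (m : ℕ) (j : ℤ) (hj : N - (m : ℤ) ≤ j) :
    IsIso ((homologyFunctor (ModSite.Mod O_D) j).map ((SiteCmp.RpushD f).map (CohCx.truncTowerMap X m))) := by
  obtain ⟨_, _⟩ := exists_commShift_rpushD f
  obtain ⟨Z, g, d, hT, hge, hz, ⟨e⟩⟩ := exists_cone_truncTowerMap X m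
  let c : ℤ := -(m : ℤ) - 2
  haveI : Z.IsGE c := hge
  haveI : Z.IsLE c := (DerivedCategory.isLE_iff _ _).2 fun q hq => hz q (by omega)
  obtain ⟨M, ⟨eM⟩⟩ := exists_iso_singleFunctor_obj_of_isGE_of_isLE Z c
  have hM : A M := A.prop_of_iso
    (e.symm ≪≫ (homologyFunctor (ModSite.Mod O_C) c).mapIso eM ≪≫ (singleFunctorCompHomologyFunctorIso _ c).app M)
    (hX _)
  have hzero : ∀ i, N < i - c → IsZero ((homologyFunctor (ModSite.Mod O_D) i).obj ((SiteCmp.RpushD f).obj Z)) := by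
    intro i hi
    exact (isZero_homology_rpushD f M N (i - c) hi (h4 M hM)).of_iso
      ((homologyFunctor _ i).mapIso ((SiteCmp.RpushD f).mapIso (eM ≪≫ WayOut.singleIso M c) ≪≫
          ((SiteCmp.RpushD f).commShiftIso (-c)).app _) ≪≫
        (Functor.shiftIso (homologyFunctor (ModSite.Mod O_D) 0) (-c) i (i - c) (by omega)).app _)
  exact WayOut.isIso_map_of_vanishing₃ (SiteCmp.RpushD f) hT j (hzero j (by omega)) (hzero (j - 1) (by omega))

end

theorem isIso_fac_descend {T : Type u'} [Category.{v'} T] {L : T} {M : ℕ → T} (a : ∀ n, L ⟶ M n)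
    (t : ∀ n, M (n + 1) ⟶ M n) (hat : ∀ n, a (n + 1) ≫ t n = a n) (N₀ n₀ : ℕ)
    (ht : ∀ n, N₀ ≤ n → IsIso (t n)) (ha : ∀ n, n₀ ≤ n → IsIso (a n)) : ∀ n, N₀ ≤ n → IsIso (a n) := by
  suffices ∀ (k n : ℕ), n₀ ≤ n + k → N₀ ≤ n → IsIso (a n) from fun n hn => this n₀ n (by omega) hn
  intro k
  induction k with
  | zero => intro n h _; exact ha n (by omega)
  | succ k ih =>
    intro n h hn
    haveI := ih (n + 1) (by omega) (by omega)
    haveI := ht n hn
    rw [← hat n]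
    infer_instance

variable (A : ObjectProperty (ModSite.Mod O_C)) [WSerre.IsWeakSerre A] (B : Set C)
  (hB : ∀ U : C, ∃ (ι : Type u) (Y : ι → C) (g : ∀ i, Y i ⟶ U), Sieve.ofArrows Y g ∈ J U ∧ ∀ i, Y i ∈ B)
  (hA : ∀ V ∈ B, ∃ d : ℕ, ∀ T ∈ J V, ∃ (ι : Type u) (Y : ι → C) (g : ∀ i, Y i ⟶ V),
    (∀ i, T.arrows (g i)) ∧ Sieve.ofArrows Y g ∈ J V ∧
    ∀ (i : ι) (F : ModSite.Mod O_C), A F → ∀ k : ℕ, d < k → Subsingleton (ModSite.HU O_C F k (Y i)))
  (N : ℤ) (h4 : ∀ F : ModSite.Mod O_C, A F → ∀ p : ℕ, N < (p : ℤ) → IsZero ((f.Rpush p).obj F))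
  (X : DerivedCategory (ModSite.Mod O_C)) (hX : WSerre.cohIn A X)

/-- The truncations have products. -/
theorem hasProduct_mod {O : Sheaf J CommRingCat.{u}} (E : ℕ → DerivedCategory (ModSite.Mod O)) : HasProduct E := by
  haveI := hasProductsOfShape_derived (A := ModSite.Mod O) (enoughKInj_sheafOfModules _) ℕ
  infer_instance

include hB hA hX in
/-- An object with cohomology of bounded dimension is the derived limit of its truncations. -/
theorem isRlimVia_of_bounded [HasProduct (CohCx.truncTower X)] :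
    CohCx.IsRlimVia (CohCx.truncTower X) (CohCx.truncTowerMap X) X (CohCx.toTruncTower X) :=
  isRlimVia_mod O_C X B hB fun V hV => by
    obtain ⟨d, hd⟩ := hA V hV
    refine ⟨fun _ => d, fun T hT => ?_⟩
    obtain ⟨ι, Y, g, h1, h2, h3⟩ := hd T hT
    exact ⟨ι, Y, g, h1, h2, fun i m k hk => h3 i _ (hX _) k (by have h' : (d : ℤ) < k := hk; exact_mod_cast h')⟩

include hB hA h4 hX in
/-- Bounded cohomological dimension downstairs. -/
theorem rpushD_cohIn_and_isIso (A' : ObjectProperty (ModSite.Mod O_D)) [WSerre.IsWeakSerre A'] (B' : Set D)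
    (hB' : ∀ U : D, ∃ (ι : Type u) (Y : ι → D) (g : ∀ i, Y i ⟶ U), Sieve.ofArrows Y g ∈ K U ∧ ∀ i, Y i ∈ B')
    (hA' : ∀ V ∈ B', ∃ d : ℕ, ∀ T ∈ K V, ∃ (ι : Type u) (Y : ι → D) (g : ∀ i, Y i ⟶ V),
      (∀ i, T.arrows (g i)) ∧ Sieve.ofArrows Y g ∈ K V ∧
      ∀ (i : ι) (F : ModSite.Mod O_D), A' F → ∀ k : ℕ, d < k → Subsingleton (ModSite.HU O_D F k (Y i)))
    (h3 : ∀ F : ModSite.Mod O_C, A F → ∀ p : ℕ, A' ((f.Rpush p).obj F)) :
    WSerre.cohIn A' ((SiteCmp.RpushD f).obj X) ∧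
      ∀ (n : ℕ) (j : ℤ), N - (n : ℤ) ≤ j →
        IsIso ((homologyFunctor (ModSite.Mod O_D) j).map
          ((SiteCmp.RpushD f).map ((DerivedCategory.TStructure.t.truncGEπ (-(n : ℤ))).app X))) := by
  obtain ⟨_, _⟩ := exists_commShift_rpushD f
  haveI := hasProduct_mod (CohCx.truncTower X)
  haveI := hasProduct_mod fun n => (SiteCmp.RpushD f).obj (CohCx.truncTower X n)
  have hL := isRlimVia_rpushD f _ _ X _ (isRlimVia_of_bounded A B hB hA X hX)
  have hP : ∀ Z : ModSite.Mod O_C, IsZero Z → A Z := fun Z hZ => by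
    obtain ⟨Z', hZ', hAZ'⟩ := A.exists_prop_of_containsZero
    exact A.prop_of_iso (hZ'.iso hZ) hAZ'
  have hK : ∀ n : ℕ, WSerre.cohInPlus A' ((SiteCmp.RpushD f).obj (CohCx.truncTower X n)) := fun n => by
    have hge : (CohCx.truncTower X n).IsGE (-(n : ℤ)) := inferInstance
    exact ⟨cohIn_obj_of_boundedBelow (SiteCmp.RpushD f) A A' (fun M hM => cohIn_rpushD_single f A' M (h3 M hM))
        (fun Y m hY => isGE_rpushD f Y m hY) _ (-(n : ℤ)) (WayOut.prop_homology_truncGE A hP X _ hX),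
      _, isGE_rpushD f _ (-(n : ℤ)) hge⟩
  have hstep := fun (j : ℤ) (m : ℕ) (hm : (N - j).toNat ≤ m) =>
    isIso_homology_rpushD_truncTowerMap f A N h4 X hX m j (by omega)
  have hconst : ∀ j : ℤ, ∃ n₀ : ℕ, ∀ n, n₀ ≤ n → IsIso ((homologyFunctor (ModSite.Mod O_D) j).map
      ((SiteCmp.RpushD f).map (CohCx.truncTowerMap X n))) := fun j => ⟨(N - j).toNat, hstep j⟩
  have hev := isIso_homology_of_eventually_constant O_D A' B' hB' hA'
    (fun n => (SiteCmp.RpushD f).map (CohCx.truncTowerMap X n)) hL hK hconst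
  have hcomp := comp_eq_of_isRlimVia _ _ hL
  refine ⟨fun j => ?_, fun n j hj => ?_⟩
  · obtain ⟨n₀, hn₀⟩ := hev j
    haveI := hn₀ n₀ le_rfl
    exact A'.prop_of_iso (asIso ((homologyFunctor (ModSite.Mod O_D) j).map
      ((SiteCmp.RpushD f).map (CohCx.toTruncTower X n₀)))).symm ((hK n₀).1 j)
  · obtain ⟨n₀, hn₀⟩ := hev j
    exact isIso_fac_descend (fun m => (homologyFunctor (ModSite.Mod O_D) j).map
        ((SiteCmp.RpushD f).map (CohCx.toTruncTower X m)))
      (fun m => (homologyFunctor (ModSite.Mod O_D) j).map ((SiteCmp.RpushD f).map (CohCx.truncTowerMap X m)))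
      (fun m => ((homologyFunctor (ModSite.Mod O_D) j).map_comp _ _).symm.trans (congrArg _ (hcomp m)))
      (N - j).toNat n₀ (hstep j) hn₀ n (by omega)

include hB hA h4 hX in
/-- Bounded cohomological dimension upstairs. -/
theorem isIso_homology_rpushD_truncGEπ (B' : Set D)
    (hB' : ∀ U : D, ∃ (ι : Type u) (Y : ι → D) (g : ∀ i, Y i ⟶ U), Sieve.ofArrows Y g ∈ K U ∧ ∀ i, Y i ∈ B')
    (hA' : ∀ V ∈ B', ∃ d : ℕ, ∀ T ∈ K V, ∃ (ι : Type u) (Y : ι → D) (g : ∀ i, Y i ⟶ V),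
      (∀ i, T.arrows (g i)) ∧ Sieve.ofArrows Y g ∈ K V ∧
      ∀ (i : ι) (F : ModSite.Mod O_C), A F → ∀ k : ℕ, d < k → Subsingleton (ModSite.HU O_C F k (f.fn.obj (Y i))))
    (n : ℕ) (j : ℤ) (hj : N - (n : ℤ) ≤ j) :
    IsIso ((homologyFunctor (ModSite.Mod O_D) j).map
      ((SiteCmp.RpushD f).map ((DerivedCategory.TStructure.t.truncGEπ (-(n : ℤ))).app X))) := by
  obtain ⟨_, _⟩ := exists_commShift_rpushD f
  haveI : HasExt.{u + 1} (ModSite.Mod O_C) := hasExt_of_hasDerivedCategory _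
  haveI : HasExt.{u} (ModSite.Mod O_C) := inferInstance
  haveI := hasProduct_mod (CohCx.truncTower X)
  haveI := hasProduct_mod fun n => (SiteCmp.RpushD f).obj (CohCx.truncTower X n)
  have hL := isRlimVia_rpushD f _ _ X _ (isRlimVia_of_bounded A B hB hA X hX)
  have hstep : ∀ m, (N - j).toNat ≤ m → IsIso ((homologyFunctor (ModSite.Mod O_D) j).map
      ((fun m => (SiteCmp.RpushD f).map (CohCx.truncTowerMap X m)) m)) :=
    fun m hm => isIso_homology_rpushD_truncTowerMap f A N h4 X hX m j (by omega)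
  let tt : ∀ m : ℕ, (SiteCmp.RpushD f).obj (CohCx.truncTower X (m + 1)) ⟶
      (SiteCmp.RpushD f).obj (CohCx.truncTower X m) := fun m => (SiteCmp.RpushD f).map (CohCx.truncTowerMap X m)
  refine isIso_homology_of_local (K := fun m => (SiteCmp.RpushD f).obj (CohCx.truncTower X m)) (modSections O_D)
    (enoughKInj_sheafOfModules _) tt hL B' hB' j (N - j).toNat hstep (fun V hV => ?_) n (by omega)
  obtain ⟨d, hd⟩ := hA' V hV
  refine ⟨(N - j).toNat + d + j.natAbs + 3, by omega, fun T hT => ?_⟩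
  obtain ⟨ι, W, g, h1, h2, h3⟩ := hd T hT
  refine ⟨ι, W, g, h1, h2, fun i m hm Z' g' δ' hT' k hk y => ?_⟩
  obtain ⟨Z, g₀, δ₀, hT₀, hge, hz, ⟨e⟩⟩ := exists_cone_truncTowerMap X m
  let eZ := Triangle.π₃.mapIso (isoTriangleOfIso₁₂ _ _ hT' ((SiteCmp.RpushD f).map_distinguished _ hT₀)
    (Iso.refl _) (Iso.refl _) (by simp [tt]))
  obtain ⟨η, hη⟩ := exists_bijective_rpushD f (W i) (-k)
  obtain ⟨φ, hφ⟩ := (hη Z).2 (y ≫ eZ.hom)
  haveI : Z.IsGE (-(m : ℤ) - 2) := hge
  have hφ0 : φ = 0 := by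
    refine (modSections O_C).eq_zero_of_boundedBelow (f.fn.obj (W i)) k Z (-(m : ℤ) - 2) (fun q e' he' => ?_) φ
    by_cases hq : q = -(m : ℤ) - 2
    · subst hq
      haveI : Subsingleton (Abelian.Ext.{u + 1} ((modSections O_C).P.obj (f.fn.obj (W i)))
          ((homologyFunctor (ModSite.Mod O_C) (-(m : ℤ) - 1)).obj X) e') :=
        subsingleton_ext_modFree'.{u + 1, u} O_C (f.fn.obj (W i)) e' _
          (h3 i _ (hX (-(m : ℤ) - 1)) e' (by omega))
      exact subsingleton_ext_of_iso'.{u + 1} _ e e'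
    · exact subsingleton_ext_of_isZero.{u + 1} _ (hz q hq) e'
  rw [← cancel_mono eZ.hom, zero_comp]
  exact hφ.symm.trans (by simp [hφ0])

end Groth.Agent.SiteDer16
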