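import Mathlib.Algebra.Category.ModuleCat.Sheaf.Abelian
import Mathlib.Algebra.Category.ModuleCat.Presheaf.Free
import Mathlib.Algebra.Category.Grp.Adjunctions
import Mathlib.CategoryTheory.Adjunction.Whiskering
import Groth.Prelude.Def_ModSite
import Groth.Agent.Coherent.ModulesExact
import Mathlib.CategoryTheory.Abelian.Exact

/-! Morphisms out of free sheaves of modules and out of free abelian sheaves. -/

set_option autoImplicit false
set_option backward.isDefEq.respectTransparency false

universe u

open CategoryTheory CategoryTheory.Limits Opposite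

namespace Groth.Agent.SiteDer16

variable {C : Type u} [SmallCategory C] {J : GrothendieckTopology C} (R : Sheaf J RingCat.{u})
  (K : Cᵒᵖ ⥤ Type u)

/-- Passing to the underlying abelian sheaf is exact. -/
theorem preservesFiniteColimits_toSheaf : PreservesFiniteColimits (SheafOfModules.toSheaf.{u} R) :=
  ((SheafOfModules.toSheaf.{u} R).preservesFiniteColimits_iff_forall_exact_map_and_epi).2 fun S hS => by
    haveI := hS.mono_f
    haveI := hS.epi_g
    exact ⟨hS.exact.map_of_mono_of_preservesKernel _ hS.mono_f inferInstance,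
      inferInstanceAs (Epi ((SheafOfModules.toSheaf.{u} R).map S.g))⟩

/-- The free sheaf of modules on a presheaf of sets. -/
noncomputable abbrev freeModSheaf : SheafOfModules.{u} R :=
  (PresheafOfModules.sheafification.{u} (𝟙 R.obj)).obj ((PresheafOfModules.free.{u} R.obj).obj K)

/-- The free abelian sheaf on a presheaf of sets. -/
noncomputable abbrev freeAbSheaf : Sheaf J AddCommGrpCat.{u} :=
  (presheafToSheaf J AddCommGrpCat.{u}).obj (K ⋙ AddCommGrpCat.free.{u})

/-- Morphisms out of the free abelian sheaf on a presheaf of sets. -/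
noncomputable def freeAbHomEquiv (G : Sheaf J AddCommGrpCat.{u}) :
    (freeAbSheaf K ⟶ G) ≃ (K ⟶ G.obj ⋙ forget AddCommGrpCat.{u}) :=
  ((sheafificationAdjunction J AddCommGrpCat.{u}).homEquiv _ G).trans
    ((AddCommGrpCat.adj.{u}.whiskerRight Cᵒᵖ).homEquiv K G.obj)

theorem freeAbHomEquiv_comp {G H : Sheaf J AddCommGrpCat.{u}} (x : freeAbSheaf K ⟶ G) (f : G ⟶ H) :
    freeAbHomEquiv K H (x ≫ f) = freeAbHomEquiv K G x ≫ Functor.whiskerRight f.hom (forget AddCommGrpCat.{u}) :=
  (congrArg _ ((sheafificationAdjunction J AddCommGrpCat.{u}).homEquiv_naturality_right x f)).trans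
    ((AddCommGrpCat.adj.{u}.whiskerRight Cᵒᵖ).homEquiv_naturality_right _ f.hom)

/-- Morphisms out of the free sheaf of modules on a presheaf of sets. -/
noncomputable def freeModHomEquiv (F : SheafOfModules.{u} R) :
    (freeModSheaf R K ⟶ F) ≃ (K ⟶ ((SheafOfModules.toSheaf.{u} R).obj F).obj ⋙ forget AddCommGrpCat.{u}) :=
  ((PresheafOfModules.sheafificationAdjunction.{u} (𝟙 R.obj)).homEquiv _ F).trans
    ((PresheafOfModules.freeAdjunction.{u} R.obj).homEquiv _ _)

theorem freeModHomEquiv_comp {F G : SheafOfModules.{u} R} (x : freeModSheaf R K ⟶ F) (f : F ⟶ G) :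
    freeModHomEquiv R K G (x ≫ f) =
      freeModHomEquiv R K F x ≫ Functor.whiskerRight ((SheafOfModules.toSheaf.{u} R).map f).hom (forget AddCommGrpCat.{u}) :=
  (congrArg _ ((PresheafOfModules.sheafificationAdjunction.{u} (𝟙 R.obj)).homEquiv_naturality_right x f)).trans
    ((PresheafOfModules.freeAdjunction.{u} R.obj).homEquiv_naturality_right _ _)

/-- Morphisms out of a free sheaf of modules are morphisms out of the free abelian sheaf. -/
noncomputable def freeHomEquiv (F : SheafOfModules.{u} R) :
    (freeModSheaf R K ⟶ F) ≃ (freeAbSheaf K ⟶ (SheafOfModules.toSheaf.{u} R).obj F) :=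
  (freeModHomEquiv R K F).trans (freeAbHomEquiv K _).symm

theorem freeHomEquiv_comp {F G : SheafOfModules.{u} R} (x : freeModSheaf R K ⟶ F) (f : F ⟶ G) :
    freeHomEquiv R K G (x ≫ f) = freeHomEquiv R K F x ≫ (SheafOfModules.toSheaf.{u} R).map f := by
  apply (freeAbHomEquiv K _).injective
  rw [freeAbHomEquiv_comp]
  simp only [freeHomEquiv, Equiv.trans_apply, Equiv.apply_symm_apply, freeModHomEquiv_comp]

end Groth.Agent.SiteDer16
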