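import Groth.Agent.SiteCoh.ExtAcyclic
import Mathlib.Algebra.Homology.DerivedCategory.Ext.Map

/-! Comparison of `Ext` groups along an exact functor. -/

set_option autoImplicit false
set_option backward.isDefEq.respectTransparency false

universe w w' v v' u u'

open CategoryTheory CategoryTheory.Limits CategoryTheory.Abelian

namespace Groth.Agent.SiteDer16

variable {A : Type u} [Category.{v} A] [Abelian A] [HasExt.{w} A] [EnoughInjectives A]
  {B : Type u'} [Category.{v'} B] [Abelian B] [HasExt.{w'} B]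
  (G : A ⥤ B) [G.Additive] [PreservesFiniteLimits G] [PreservesFiniteColimits G]
  {P : A} {Q : B} (η : Q ⟶ G.obj P)

/-- Apply the functor, then compose with the unit. -/
noncomputable def extCompare (F : A) (n : ℕ) : Ext.{w} P F n →+ Ext.{w'} Q (G.obj F) n :=
  ((Ext.mk₀ η).precomp (G.obj F) (zero_add n)).comp (G.mapExtAddHom P F n)

theorem extCompare_apply (F : A) (n : ℕ) (x : Ext.{w} P F n) :
    extCompare G η F n x = (Ext.mk₀ η).comp (x.mapExactFunctor G) (zero_add n) := rfl

/-- If the functor represents morphisms out of `P` by morphisms out of `Q` and sends injectives to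
objects acyclic for `Q`, then it represents all the `Ext` groups out of `P`. -/
theorem bijective_extCompare (h0 : ∀ F, Function.Bijective fun f : P ⟶ F => η ≫ G.map f)
    (hI : ∀ (I : A), Injective I → ∀ m, Subsingleton (Ext.{w'} Q (G.obj I) (m + 1))) (n : ℕ) :
    ∀ F : A, Function.Bijective (extCompare G η F n) := by
  induction n with
  | zero =>
    intro F
    have h : ∀ f : P ⟶ F, extCompare G η F 0 (Ext.mk₀ f) = Ext.mk₀ (η ≫ G.map f) := fun f => by
      rw [extCompare_apply, Ext.mapExactFunctor_mk₀, Ext.mk₀_comp_mk₀]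
    refine ⟨fun x y hxy => ?_, fun x => ?_⟩
    · obtain ⟨f, rfl⟩ := (Ext.mk₀_bijective _ _).2 x
      obtain ⟨g, rfl⟩ := (Ext.mk₀_bijective _ _).2 y
      rw [h, h] at hxy
      rw [(h0 F).1 ((Ext.mk₀_bijective _ _).1 hxy)]
    · obtain ⟨f, rfl⟩ := (Ext.mk₀_bijective _ _).2 x
      obtain ⟨g, rfl⟩ := (h0 F).2 f
      exact ⟨Ext.mk₀ g, h g⟩
  | succ n ih =>
    intro F
    let S := SiteCoh.injEmbed F
    have hS : S.ShortExact := SiteCoh.injEmbed_shortExact F
    haveI hInj : Injective S.X₂ := inferInstanceAs (Injective (Injective.under F))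
    have hGS : (S.map G).ShortExact := hS.map_of_exact G
    have hδ : ∀ y : Ext.{w} P S.X₃ n, extCompare G η F (n + 1) (y.comp hS.extClass rfl) =
        (extCompare G η S.X₃ n y).comp hGS.extClass rfl := fun y => by
      rw [extCompare_apply, extCompare_apply, Ext.mapExactFunctor_comp, Ext.mapExactFunctor_extClass]
      exact (Ext.comp_assoc _ _ _ (zero_add n) rfl (by omega)).symm
    have hg : ∀ w₁ : Ext.{w} P S.X₂ n, extCompare G η S.X₃ n (w₁.comp (Ext.mk₀ S.g) (add_zero n)) =
        (extCompare G η S.X₂ n w₁).comp (Ext.mk₀ (G.map S.g)) (add_zero n) := fun w₁ => by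
      rw [extCompare_apply, extCompare_apply, Ext.mapExactFunctor_comp, Ext.mapExactFunctor_mk₀]
      exact (Ext.comp_assoc_of_third_deg_zero _ _ _ _).symm
    refine ⟨(injective_iff_map_eq_zero _).2 fun z hz => ?_, fun x => ?_⟩
    · obtain ⟨y, rfl⟩ := Ext.covariant_sequence_exact₁ P hS z (Ext.eq_zero_of_injective _) rfl
      erw [hδ] at hz
      obtain ⟨w₀, hw⟩ := Ext.covariant_sequence_exact₃ _ hGS _ rfl hz
      obtain ⟨w₁, rfl⟩ := (ih S.X₂).2 w₀
      have hy : y = w₁.comp (Ext.mk₀ S.g) (add_zero n) := (ih S.X₃).1 ((hg w₁).trans hw).symm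
      subst hy
      rw [Ext.comp_assoc_of_second_deg_zero]
      erw [hS.comp_extClass]
      exact Ext.comp_zero w₁ _ _ _ _
    · haveI : Subsingleton (Ext.{w'} Q (S.map G).X₂ (n + 1)) := hI S.X₂ hInj n
      obtain ⟨y, hy⟩ := Ext.covariant_sequence_exact₁ Q hGS x (Subsingleton.elim _ _) rfl
      obtain ⟨y', rfl⟩ := (ih S.X₃).2 y
      exact ⟨y'.comp hS.extClass rfl, (hδ y').trans hy⟩

/-- The same, from a natural bijection of morphisms. -/
theorem nonempty_ext_equiv (e : ∀ F : A, (P ⟶ F) ≃ (Q ⟶ G.obj F))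
    (he : ∀ {F F' : A} (x : P ⟶ F) (f : F ⟶ F'), e F' (x ≫ f) = e F x ≫ G.map f)
    (hI : ∀ (I : A), Injective I → ∀ m, Subsingleton (Ext.{w'} Q (G.obj I) (m + 1))) (F : A) (n : ℕ) :
    Nonempty (Ext.{w} P F n ≃+ Ext.{w'} Q (G.obj F) n) := by
  refine ⟨AddEquiv.ofBijective (extCompare G (e P (𝟙 P)) F n) (bijective_extCompare G _ (fun F' => ?_) hI n F)⟩
  have : (fun f : P ⟶ F' => e P (𝟙 P) ≫ G.map f) = e F' := funext fun f => by
    rw [← he, Category.id_comp]
  rw [this]
  exact (e F').bijective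

end Groth.Agent.SiteDer16
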