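import Groth.Agent.DCat.WayOut
import Groth.Prelude.Def_WeakSerre
import Mathlib.CategoryTheory.Triangulated.Adjunction
import Mathlib.Algebra.Homology.DerivedCategory.ExactFunctor

/-! Dévissage along bounded below objects for an exact functor and its derived right adjoint. -/

set_option autoImplicit false
set_option backward.isDefEq.respectTransparency false
set_option backward.defeqAttrib.useBackward true
set_option linter.style.haveILetI false

universe w w' v v' u u'

open CategoryTheory CategoryTheory.Limits CategoryTheory.Pretriangulated DerivedCategory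
open Groth.Agent.DCat

namespace Groth.Agent.SiteDer16

variable {A : Type u} [Category.{v} A] [Abelian A]

/-- The middle term of a five-term exact sequence lies in a weak Serre class with the other four. -/
theorem prop_fiveTerm (P : ObjectProperty A) [WSerre.IsWeakSerre P] {X₀ X₁ X₂ X₃ X₄ : A}
    (d : X₀ ⟶ X₁) (f : X₁ ⟶ X₂) (g : X₂ ⟶ X₃) (d' : X₃ ⟶ X₄)
    (w₁ : d ≫ f = 0) (w₂ : f ≫ g = 0) (w₃ : g ≫ d' = 0)
    (h₁ : (ShortComplex.mk d f w₁).Exact) (h₂ : (ShortComplex.mk f g w₂).Exact)
    (h₃ : (ShortComplex.mk g d' w₃).Exact) (p₀ : P X₀) (p₁ : P X₁) (p₃ : P X₃) (p₄ : P X₄) : P X₂ := by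
  have w : cokernel.desc d f w₁ ≫ kernel.lift d' g w₃ = 0 := by
    ext
    simp [w₂]
  haveI : Mono (cokernel.desc d f w₁) := h₁.mono_cokernelDesc
  haveI : Epi (kernel.lift d' g w₃) := h₃.epi_kernelLift
  let S₁ := ShortComplex.mk (cokernel.desc d f w₁) g (by ext; simp [w₂])
  let φ : ShortComplex.mk f g w₂ ⟶ S₁ :=
    { τ₁ := cokernel.π d
      τ₂ := 𝟙 _
      τ₃ := 𝟙 _ }
  haveI : Epi φ.τ₁ := (inferInstance : Epi (cokernel.π d))
  haveI : IsIso φ.τ₂ := (inferInstance : IsIso (𝟙 X₂))
  haveI : Mono φ.τ₃ := (inferInstance : Mono (𝟙 X₃))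
  have e₁ : S₁.Exact := (ShortComplex.exact_iff_of_epi_of_isIso_of_mono φ).1 h₂
  let ψ : ShortComplex.mk (cokernel.desc d f w₁) (kernel.lift d' g w₃) w ⟶ S₁ :=
    { τ₁ := 𝟙 _
      τ₂ := 𝟙 _
      τ₃ := kernel.ι d' }
  haveI : Epi ψ.τ₁ := (inferInstance : Epi (𝟙 (cokernel d)))
  haveI : IsIso ψ.τ₂ := (inferInstance : IsIso (𝟙 X₂))
  haveI : Mono ψ.τ₃ := (inferInstance : Mono (kernel.ι d'))
  exact P.prop_X₂_of_shortExact
    (ShortComplex.ShortExact.mk' ((ShortComplex.exact_iff_of_epi_of_isIso_of_mono ψ).2 e₁) inferInstance inferInstance)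
    (P.prop_of_isColimit_cokernelCofork (k := CokernelCofork.ofπ (cokernel.π d) (cokernel.condition d))
      (cokernelIsCokernel d) p₀ p₁)
    (P.prop_of_isLimit_kernelFork (k := KernelFork.ofι (kernel.ι d') (kernel.condition d'))
      (kernelIsKernel d') p₃ p₄)

variable [HasDerivedCategory.{w} A]

theorem cohIn_obj₂ (P : ObjectProperty A) [WSerre.IsWeakSerre P] {T : Triangle (DerivedCategory A)}
    (hT : T ∈ distTriang _) (h₁ : WSerre.cohIn P T.obj₁) (h₃ : WSerre.cohIn P T.obj₃) : WSerre.cohIn P T.obj₂ :=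
  fun i => prop_fiveTerm P _ _ _ _ _ _ _ (HomologySequence.exact₁ T hT (i - 1) i (by omega))
    (HomologySequence.exact₂ T hT i) (HomologySequence.exact₃ T hT i (i + 1) rfl) (h₃ _) (h₁ _) (h₃ _) (h₁ _)

theorem cohIn_zero (P : ObjectProperty A) [WSerre.IsWeakSerre P] {X : DerivedCategory A} (hX : IsZero X) :
    WSerre.cohIn P X := fun i => by
  obtain ⟨Z, hZ, hPZ⟩ := P.exists_prop_of_containsZero
  exact P.prop_of_iso (hZ.iso ((homologyFunctor A i).map_isZero hX)) hPZ

theorem cohIn_of_iso (P : ObjectProperty A) [WSerre.IsWeakSerre P] {X Y : DerivedCategory A} (e : X ≅ Y)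
    (h : WSerre.cohIn P X) : WSerre.cohIn P Y := fun i => P.prop_of_iso ((homologyFunctor A i).mapIso e) (h i)

theorem cohIn_shift (P : ObjectProperty A) [WSerre.IsWeakSerre P] {X : DerivedCategory A} (n : ℤ)
    (h : WSerre.cohIn P X) : WSerre.cohIn P (X⟦n⟧) := fun i =>
  P.prop_of_iso ((Functor.shiftIso (homologyFunctor A 0) n i (n + i) rfl).app X).symm (h (n + i))

variable {B : Type u'} [Category.{v'} B] [Abelian B] [HasDerivedCategory.{w'} B]

section

variable (R : DerivedCategory A ⥤ DerivedCategory B) [R.CommShift ℤ] [R.IsTriangulated]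
  (P : ObjectProperty A) [WSerre.IsWeakSerre P] (Q : ObjectProperty B) [WSerre.IsWeakSerre Q]
  (hR : ∀ M : A, P M → WSerre.cohIn Q (R.obj ((singleFunctor A 0).obj M)))

include hR

theorem cohIn_obj_of_bounded (X : DerivedCategory A) (a b : ℤ) [X.IsGE a] [X.IsLE b]
    (hX : WSerre.cohIn P X) : WSerre.cohIn Q (R.obj X) := by
  have hP : ∀ Z : A, IsZero Z → P Z := fun Z hZ => by
    obtain ⟨Z', hZ', hPZ'⟩ := P.exists_prop_of_containsZero
    exact P.prop_of_iso (hZ'.iso hZ) hPZ'
  suffices ∀ (n : ℕ) (Y : DerivedCategory A), Y.IsGE a → Y.IsLE (a + n - 1) →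
      WSerre.cohIn P Y → WSerre.cohIn Q (R.obj Y) from
    this (b - a + 1).toNat X inferInstance (DerivedCategory.TStructure.t.isLE_of_le X b _ (by omega)) hX
  intro n
  induction n with
  | zero =>
    intro Y _ _ _
    exact cohIn_zero Q (R.map_isZero (WayOut.isZero_of_isGE_of_isLE Y a (a + ((0 : ℕ) : ℤ) - 1) (by omega)))
  | succ n ih =>
    intro Y _ hle hY
    let t : Triangulated.TStructure (DerivedCategory A) := DerivedCategory.TStructure.t
    let c : ℤ := a + n
    refine cohIn_obj₂ Q (R.map_distinguished _ (t.triangleLTGE_distinguished c Y))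
      (ih (t.truncLT c |>.obj Y) inferInstance (t.isLE_truncLT_obj _ _ _ (by omega))
        (WayOut.prop_homology_truncLT P hP Y c hY)) ?_
    have : Y.IsLE c := t.isLE_of_le Y (a + (n + 1 : ℕ) - 1) _ (by omega)
    obtain ⟨M, ⟨e⟩⟩ := exists_iso_singleFunctor_obj_of_isGE_of_isLE (t.truncGE c |>.obj Y) c
    refine cohIn_of_iso Q (R.mapIso (e ≪≫ WayOut.singleIso M c) ≪≫ (R.commShiftIso (-c)).app _).symm
      (cohIn_shift Q (-c) (hR M ?_))
    exact P.prop_of_iso (((homologyFunctor A c).mapIso e) ≪≫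
      (singleFunctorCompHomologyFunctorIso A c).app M) (WayOut.prop_homology_truncGE P hP Y c hY c)

theorem cohIn_obj_of_boundedBelow (hge : ∀ (Y : DerivedCategory A) (n : ℤ), Y.IsGE n → (R.obj Y).IsGE n)
    (X : DerivedCategory A) (a : ℤ) [X.IsGE a]
    (hX : WSerre.cohIn P X) : WSerre.cohIn Q (R.obj X) := fun q => by
  have hP : ∀ Z : A, IsZero Z → P Z := fun Z hZ => by
    obtain ⟨Z', hZ', hPZ'⟩ := P.exists_prop_of_containsZero
    exact P.prop_of_iso (hZ'.iso hZ) hPZ'
  let t : Triangulated.TStructure (DerivedCategory A) := DerivedCategory.TStructure.t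
  let c := q + 2
  have hle : (t.truncLT c |>.obj X).IsLE (c - 1) := t.isLE_truncLT_obj _ _ _ (by omega)
  have h1 := cohIn_obj_of_bounded R P Q hR (t.truncLT c |>.obj X) a (c - 1)
    (WayOut.prop_homology_truncLT P hP X c hX) q
  have hz := hge (t.truncGE c |>.obj X) c inferInstance
  haveI : IsIso ((homologyFunctor B q).map (R.map ((t.truncLTι c).app X))) :=
    WayOut.isIso_map_of_vanishing₃ R (t.triangleLTGE_distinguished c X) q
      (isZero_of_isGE _ c _ (by omega) (hX := hz)) (isZero_of_isGE _ c _ (by omega) (hX := hz))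
  exact Q.prop_of_iso (asIso ((homologyFunctor B q).map (R.map ((t.truncLTι c).app X)))) h1

end

section Exact

variable (G : A ⥤ B) [G.Additive] [PreservesFiniteLimits G] [PreservesFiniteColimits G]

/-- Cohomology commutes with exact functors. -/
noncomputable def homologyMapIso (K : DerivedCategory A) (i : ℤ) :
    (homologyFunctor B i).obj (G.mapDerivedCategory.obj K) ≅ G.obj ((homologyFunctor A i).obj K) :=
  (homologyFunctor B i).mapIso
    (G.mapDerivedCategory.mapIso (Q.objObjPreimageIso K).symm ≪≫ G.mapDerivedCategoryFactors.app (Q.objPreimage K)) ≪≫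
    (homologyFunctorFactors B i).app _ ≪≫
    ((Q.objPreimage K).sc i).mapHomologyIso G ≪≫
    G.mapIso (((homologyFunctorFactors A i).app _).symm ≪≫ (homologyFunctor A i).mapIso (Q.objObjPreimageIso K))

theorem isGE_map {Y : DerivedCategory A} {n : ℤ} [Y.IsGE n] : (G.mapDerivedCategory.obj Y).IsGE n :=
  (DerivedCategory.isGE_iff _ n).2 fun i hi => (G.map_isZero (isZero_of_isGE Y n i hi)).of_iso (homologyMapIso G Y i)

theorem isLE_map {Y : DerivedCategory A} {n : ℤ} [Y.IsLE n] : (G.mapDerivedCategory.obj Y).IsLE n :=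
  (DerivedCategory.isLE_iff _ n).2 fun i hi => (G.map_isZero (isZero_of_isLE Y n i hi)).of_iso (homologyMapIso G Y i)

theorem cohIn_map (P : ObjectProperty A) (P' : ObjectProperty B) [P'.IsClosedUnderIsomorphisms]
    (h : ∀ M : A, P M → P' (G.obj M)) {Y : DerivedCategory A} (hY : WSerre.cohIn P Y) :
    WSerre.cohIn P' (G.mapDerivedCategory.obj Y) := fun i =>
  P'.prop_of_iso (homologyMapIso G Y i).symm (h _ (hY i))

variable {G} {R : DerivedCategory B ⥤ DerivedCategory A} (adj : G.mapDerivedCategory ⊣ R)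

include adj in
theorem isGE_obj (X : DerivedCategory B) (n : ℤ) [X.IsGE n] : (R.obj X).IsGE n :=
  ((DerivedCategory.TStructure.t).isGE_iff_orthogonal (n - 1) n (by omega) _).2 fun Y f hY => by
    haveI : Y.IsLE (n - 1) := hY
    haveI : (G.mapDerivedCategory.obj Y).IsLE (n - 1) := isLE_map G
    exact (adj.homEquiv Y X).symm.injective
      (((DerivedCategory.TStructure.t).zero _ (n - 1) n (by omega)).trans
        ((DerivedCategory.TStructure.t).zero _ (n - 1) n (by omega)).symm)

theorem isIso_unit_of_boundedBelow (Y : DerivedCategory A) (a : ℤ) [Y.IsGE a]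
    (h : ∀ q, IsIso (adj.unit.app ((singleFunctor A 0).obj ((homologyFunctor A q).obj Y)))) :
    IsIso (adj.unit.app Y) := by
  letI := adj.rightAdjointCommShift ℤ
  haveI := adj.commShift_of_leftAdjoint ℤ
  haveI := adj.isTriangulated_rightAdjoint
  let P : ObjectProperty A := fun M => IsIso (adj.unit.app ((singleFunctor A 0).obj M))
  haveI : P.IsClosedUnderIsomorphisms :=
    ⟨fun e hM => (NatTrans.isIso_app_iff_of_iso adj.unit ((singleFunctor A 0).mapIso e)).1 hM⟩
  refine WayOut.isIso_of_boundedBelow adj.unit P (fun n => ⟨n, fun _ h => h⟩) (fun n => ⟨n, fun Y' hY' => ?_⟩)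
    (fun M hM => hM) Y a h
  haveI : (G.mapDerivedCategory.obj Y').IsGE n := isGE_map G
  exact isGE_obj adj _ n

theorem isIso_counit_of_boundedBelow (X : DerivedCategory B) (a : ℤ) [X.IsGE a]
    (h : ∀ q, IsIso (adj.counit.app ((singleFunctor B 0).obj ((homologyFunctor B q).obj X)))) :
    IsIso (adj.counit.app X) := by
  letI := adj.rightAdjointCommShift ℤ
  haveI := adj.commShift_of_leftAdjoint ℤ
  haveI := adj.isTriangulated_rightAdjoint
  let P : ObjectProperty B := fun M => IsIso (adj.counit.app ((singleFunctor B 0).obj M))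
  haveI : P.IsClosedUnderIsomorphisms :=
    ⟨fun e hM => (NatTrans.isIso_app_iff_of_iso adj.counit ((singleFunctor B 0).mapIso e)).1 hM⟩
  refine WayOut.isIso_of_boundedBelow adj.counit P (fun n => ⟨n, fun X' hX' => ?_⟩) (fun n => ⟨n, fun _ h => h⟩)
    (fun M hM => hM) X a h
  haveI : (R.obj X').IsGE n := isGE_obj adj _ n
  exact isGE_map G

end Exact

end Groth.Agent.SiteDer16

namespace Groth.Agent.SiteDer16

variable {A : Type u} [Category.{v} A] [Abelian A] [HasDerivedCategory.{w} A]
  {B : Type u'} [Category.{v'} B] [Abelian B] [HasDerivedCategory.{w'} B]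

theorem cohIn_single (P : ObjectProperty A) [WSerre.IsWeakSerre P] (M : A) (hM : P M) :
    WSerre.cohIn P ((singleFunctor A 0).obj M) := fun i => by
  by_cases hi : i = 0
  · subst hi
    exact P.prop_of_iso ((singleFunctorCompHomologyFunctorIso A 0).app M).symm hM
  · obtain ⟨Z, hZ, hPZ⟩ := P.exists_prop_of_containsZero
    refine P.prop_of_iso (hZ.iso ?_) hPZ
    rcases lt_or_gt_of_ne hi with h | h
    · exact isZero_of_isGE ((singleFunctor A 0).obj M) 0 i h
    · exact isZero_of_isLE ((singleFunctor A 0).obj M) 0 i h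

/-- The equivalence of bounded below objects with cohomology in corresponding weak Serre classes. -/
theorem equivalence_cohInPlus {G : A ⥤ B} [G.Additive] [PreservesFiniteLimits G] [PreservesFiniteColimits G]
    {R : DerivedCategory B ⥤ DerivedCategory A} (adj : G.mapDerivedCategory ⊣ R)
    (P : ObjectProperty B) [WSerre.IsWeakSerre P] (P' : ObjectProperty A) [WSerre.IsWeakSerre P']
    (h2a : ∀ F' : A, P' F' → P (G.obj F')) (h2c : ∀ F : B, P F → ∃ F' : A, P' F' ∧ Nonempty (G.obj F' ≅ F))
    (h3 : ∀ F' : A, P' F' → IsIso (adj.unit.app ((singleFunctor A 0).obj F'))) :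
    (∀ Y : DerivedCategory A, WSerre.cohInPlus P' Y →
      WSerre.cohInPlus P (G.mapDerivedCategory.obj Y) ∧ IsIso (adj.unit.app Y)) ∧
    (∀ X : DerivedCategory B, WSerre.cohInPlus P X →
      WSerre.cohInPlus P' (R.obj X) ∧ IsIso (adj.counit.app X)) := by
  constructor
  · rintro Y ⟨hY, a, ha⟩
    haveI : Y.IsGE a := ha
    exact ⟨⟨cohIn_map G P' P h2a hY, a, isGE_map G⟩, isIso_unit_of_boundedBelow adj Y a fun q => h3 _ (hY q)⟩
  · rintro X ⟨hX, a, ha⟩
    haveI : X.IsGE a := ha
    have hε : ∀ F : B, P F → IsIso (adj.counit.app ((singleFunctor B 0).obj F)) := fun F hF => by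
      obtain ⟨F', hF', ⟨e⟩⟩ := h2c F hF
      haveI := h3 F' hF'
      have h : IsIso (adj.counit.app (G.mapDerivedCategory.obj ((singleFunctor A 0).obj F'))) := by
        haveI : IsIso (G.mapDerivedCategory.map (adj.unit.app ((singleFunctor A 0).obj F')) ≫
            adj.counit.app (G.mapDerivedCategory.obj ((singleFunctor A 0).obj F'))) := by
          refine Eq.symm (adj.left_triangle_components ((singleFunctor A 0).obj F')) ▸ ?_
          exact ⟨𝟙 _, Category.id_comp _, Category.id_comp _⟩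
        exact IsIso.of_isIso_comp_left (G.mapDerivedCategory.map (adj.unit.app ((singleFunctor A 0).obj F'))) _
      exact (NatTrans.isIso_app_iff_of_iso adj.counit
        ((G.mapDerivedCategorySingleFunctor 0).app F' ≪≫ (singleFunctor B 0).mapIso e)).1 h
    refine ⟨⟨?_, a, isGE_obj adj X a⟩, isIso_counit_of_boundedBelow adj X a fun q => hε _ (hX q)⟩
    letI := adj.rightAdjointCommShift ℤ
    haveI := adj.commShift_of_leftAdjoint ℤ
    haveI := adj.isTriangulated_rightAdjoint
    refine cohIn_obj_of_boundedBelow R P P' (fun F hF => ?_)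
      (fun Y n hY => by haveI := hY; exact isGE_obj adj Y n) X a hX
    obtain ⟨F', hF', ⟨e⟩⟩ := h2c F hF
    haveI := h3 F' hF'
    exact cohIn_of_iso P' (asIso (adj.unit.app ((singleFunctor A 0).obj F')) ≪≫
      R.mapIso ((G.mapDerivedCategorySingleFunctor 0).app F' ≪≫ (singleFunctor B 0).mapIso e))
      (cohIn_single P' F' hF')

end Groth.Agent.SiteDer16
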