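import Groth.Agent.SiteDer16.LocalHom
import Groth.Agent.SiteDer16.Devissage
import Groth.Prelude.Def_CohCx
import Mathlib.Algebra.Homology.DerivedCategory.Ext.Basic
import Mathlib.Algebra.Category.Grp.Limits

/-! Derived limits with eventually constant hypercohomology. -/

set_option autoImplicit false
set_option backward.isDefEq.respectTransparency false
set_option backward.defeqAttrib.useBackward true

universe w v u w'

open CategoryTheory CategoryTheory.Limits CategoryTheory.Pretriangulated DerivedCategory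
open Groth.Agent.DCat

namespace Groth.Agent.SiteDer16

section Tri

variable {T : Type u} [Category.{v} T] [Preadditive T] [HasZeroObject T] [HasShift T ℤ]
  [∀ n : ℤ, (shiftFunctor T n).Additive] [Pretriangulated T]

theorem injective_comp_of_triangle {Tr : Triangle T} (h : Tr ∈ distTriang T) (X : T)
    (h₃ : ∀ g : X⟦(1 : ℤ)⟧ ⟶ Tr.obj₃, g = 0) : Function.Injective (fun f : X ⟶ Tr.obj₁ => f ≫ Tr.mor₁) := by
  intro f f' hff
  rw [← sub_eq_zero]
  apply (shiftFunctor T (1 : ℤ)).map_injective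
  rw [Functor.map_zero]
  obtain ⟨g, hg⟩ := Triangle.coyoneda_exact₁ _ h ((shiftFunctor T (1 : ℤ)).map (f - f')) (by
    rw [← Functor.map_comp, Preadditive.sub_comp, sub_eq_zero.2 hff, Functor.map_zero])
  rw [hg, h₃ g, zero_comp]

theorem surjective_comp_of_triangle {Tr : Triangle T} (h : Tr ∈ distTriang T) (X : T)
    (h₃ : ∀ g : X ⟶ Tr.obj₃, g = 0) : Function.Surjective (fun f : X ⟶ Tr.obj₁ => f ≫ Tr.mor₁) := fun y => by
  obtain ⟨g, hg⟩ := Triangle.coyoneda_exact₂ _ h y (h₃ _)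
  exact ⟨g, hg.symm⟩

variable (K : ℕ → T) (t : ∀ n, K (n + 1) ⟶ K n) [HasProduct K]

theorem comp_eq_of_isRlimVia {L : T} {a : ∀ n, L ⟶ K n} (hL : CohCx.IsRlimVia K t L a) (n : ℕ) :
    a (n + 1) ≫ t n = a n := by
  obtain ⟨c, hc⟩ := hL
  have h : Pi.lift a ≫ (Pi.lift fun n => Pi.π K n - Pi.π K (n + 1) ≫ t n) = 0 := comp_distTriang_mor_zero₁₂ _ hc
  have := h =≫ Pi.π K n
  simp only [Category.assoc, Pi.lift_π, zero_comp, Preadditive.comp_sub, Pi.lift_π_assoc] at this
  exact (sub_eq_zero.1 this).symm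

omit [HasZeroObject T] [HasShift T ℤ] [∀ n : ℤ, (shiftFunctor T n).Additive] [Pretriangulated T] [HasProduct K] in
/-- The difference equation of an inverse system with eventually surjective transition maps is solvable. -/
theorem exists_difference (X : T) (N : ℕ) (hs : ∀ n, N ≤ n → Function.Surjective (fun f : X ⟶ K (n + 1) => f ≫ t n))
    (z : ∀ n, X ⟶ K n) : ∃ w : ∀ n, X ⟶ K n, ∀ n, w n - w (n + 1) ≫ t n = z n := by
  induction N generalizing K with
  | zero =>
    choose s hs' using fun n => hs n (Nat.zero_le n)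
    let w : ∀ n, X ⟶ K n := fun n => Nat.rec (motive := fun n => X ⟶ K n) 0 (fun n wn => s n (wn - z n)) n
    refine ⟨w, fun n => ?_⟩
    have : w (n + 1) ≫ t n = w n - z n := hs' n (w n - z n)
    rw [this, sub_sub_cancel]
  | succ N ih =>
    obtain ⟨w', hw'⟩ := ih (fun n => K (n + 1)) (fun n => t (n + 1)) (fun n hn => hs (n + 1) (by omega))
      (fun n => z (n + 1))
    refine ⟨fun n => Nat.casesOn (motive := fun n => X ⟶ K n) n (z 0 + w' 0 ≫ t 0) w', fun n => ?_⟩
    rcases n with _ | n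
    · exact add_sub_cancel_right (z 0) (w' 0 ≫ t 0)
    · exact hw' n

omit [Preadditive T] [HasZeroObject T] [HasShift T ℤ] [HasProduct K] in
/-- Compatible families through a given element. -/
theorem exists_compatible (X : T) (N : ℕ) (hs : ∀ n, N ≤ n → Function.Surjective (fun f : X ⟶ K (n + 1) => f ≫ t n))
    (y : X ⟶ K N) : ∃ v : ∀ n, X ⟶ K n, v N = y ∧ ∀ n, v (n + 1) ≫ t n = v n := by
  induction N generalizing K with
  | zero =>
    choose s hs' using fun n => hs n (Nat.zero_le n)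
    exact ⟨fun n => Nat.rec (motive := fun n => X ⟶ K n) y (fun n vn => s n vn) n, rfl, fun n => hs' n _⟩
  | succ N ih =>
    obtain ⟨v', hv', hvt⟩ := ih (fun n => K (n + 1)) (fun n => t (n + 1)) (fun n hn => hs (n + 1) (by omega)) y
    refine ⟨fun n => Nat.casesOn (motive := fun n => X ⟶ K n) n (v' 0 ≫ t 0) v', hv', fun n => ?_⟩
    rcases n with _ | n
    · rfl
    · exact hvt n

variable (X : T) (N : ℕ)

theorem bijective_comp_of_isRlimVia {L : T} {a : ∀ n, L ⟶ K n} (hL : CohCx.IsRlimVia K t L a)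
    (hb : ∀ n, N ≤ n → Function.Bijective (fun f : X ⟶ K (n + 1) => f ≫ t n))
    (hs : ∀ n, N ≤ n → Function.Surjective (fun f : X⟦(1 : ℤ)⟧ ⟶ K (n + 1) => f ≫ t n)) :
    Function.Bijective (fun f : X ⟶ L => f ≫ a N) := by
  have hcomp := comp_eq_of_isRlimVia K t hL
  obtain ⟨c, hc⟩ := hL
  let D : (∏ᶜ K) ⟶ ∏ᶜ K := Pi.lift fun n => Pi.π K n - Pi.π K (n + 1) ≫ t n
  have hD : ∀ {Y : T} (g : Y ⟶ ∏ᶜ K) (n : ℕ), (g ≫ D) ≫ Pi.π K n = g ≫ Pi.π K n - (g ≫ Pi.π K (n + 1)) ≫ t n :=
    fun g n => by simp [D, Preadditive.comp_sub]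
  constructor
  · refine fun φ φ' h => ?_
    rw [← sub_eq_zero]
    have h0 : (φ - φ') ≫ a N = 0 := by rw [Preadditive.sub_comp, sub_eq_zero]; exact h
    have hle : ∀ k n, n + k = N → (φ - φ') ≫ a n = 0 := by
      intro k
      induction k with
      | zero => intro n hn; obtain rfl : n = N := hn; exact h0
      | succ k ih => intro n hn; rw [← hcomp n, ← Category.assoc, ih (n + 1) (by omega), zero_comp]
    have hge : ∀ k, (φ - φ') ≫ a (N + k) = 0 := by
      intro k
      induction k with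
      | zero => exact h0
      | succ k ih =>
        refine (hb (N + k) (Nat.le_add_right _ _)).1 ?_
        show ((φ - φ') ≫ a (N + k + 1)) ≫ t (N + k) = 0 ≫ t (N + k)
        rw [Category.assoc, hcomp, ih, zero_comp]
    have hall : ∀ n, (φ - φ') ≫ a n = 0 := fun n => by
      rcases le_total n N with hn | hn
      · exact hle (N - n) n (by omega)
      · obtain ⟨k, rfl⟩ := Nat.exists_eq_add_of_le hn
        exact hge k
    have hlift : (φ - φ') ≫ Pi.lift a = 0 := Pi.hom_ext _ _ fun n => by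
      rw [Category.assoc, Pi.lift_π, zero_comp, hall n]
    apply (shiftFunctor T (1 : ℤ)).map_injective
    rw [Functor.map_zero]
    obtain ⟨g, hg⟩ := Triangle.coyoneda_exact₁ _ hc ((shiftFunctor T (1 : ℤ)).map (φ - φ')) (by
      exact ((shiftFunctor T (1 : ℤ)).map_comp _ _).symm.trans ((congrArg _ hlift).trans (Functor.map_zero _ _ _)))
    obtain ⟨w, hw⟩ := exists_difference K t (X⟦(1 : ℤ)⟧) N hs (fun n => g ≫ Pi.π K n)
    have hg' : g = Pi.lift w ≫ D := Pi.hom_ext _ _ fun n => by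
      rw [hD, Pi.lift_π, Pi.lift_π, hw n]
    rw [hg, hg', Category.assoc]
    exact (congrArg (Pi.lift w ≫ ·) (comp_distTriang_mor_zero₂₃ _ hc)).trans comp_zero
  · intro y
    obtain ⟨v, hv, hvt⟩ := exists_compatible K t X N (fun n hn => (hb n hn).2) y
    have hu : Pi.lift v ≫ D = 0 := Pi.hom_ext _ _ fun n => by
      rw [hD, Pi.lift_π, Pi.lift_π, hvt n, sub_self, zero_comp]
    obtain ⟨φ, hφ⟩ := Triangle.coyoneda_exact₂ _ hc (Pi.lift v) hu
    exact ⟨φ, by
      have := hφ =≫ Pi.π K N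
      simp only [Category.assoc, Pi.lift_π, Triangle.mk_mor₁] at this
      exact this.symm.trans hv⟩

end Tri

variable {C : Type w'} [SmallCategory C] {J : GrothendieckTopology C}
  {A : Type u} [Category.{v} A] [Abelian A] [HasDerivedCategory.{w} A] (S : Sections J A)

/-- Injective hypercohomology maps on dense families give monomorphisms of cohomology objects. -/
theorem Sections.eq_zero_of_dense (hA : EnoughKInj A) {X : DerivedCategory A} {κ : Type w'}
    {Y : κ → DerivedCategory A} (η : ∀ j, X ⟶ Y j) {V : C}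
    (G : κ → ∀ ⦃W : C⦄, (W ⟶ V) → Prop)
    (hG : ∀ T : κ → Sieve V, (∀ j, T j ∈ J V) → ∃ (ι : Type w') (W : ι → C) (f : ∀ i, W i ⟶ V),
      Sieve.ofArrows W f ∈ J V ∧ ∀ i, ∃ j, (T j).arrows (f i) ∧ G j (f i))
    (hinj : ∀ j ⦃W : C⦄ (f : W ⟶ V), G j f → ∀ y : S.pt.obj W ⟶ X, y ≫ η j = 0 → y = 0)
    (x : S.P.obj V ⟶ (homologyFunctor A 0).obj X) (hx : ∀ j, x ≫ (homologyFunctor A 0).map (η j) = 0) :
    x = 0 := by
  obtain ⟨T, hT, hl⟩ := S.exists_local_lift x
  choose y hy using hl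
  have hz : ∀ (j : κ) ⦃W : C⦄ (g : W ⟶ V) (hg : T g), ∃ U ∈ J W, ∀ ⦃W' : C⦄ (k : W' ⟶ W), U k →
      S.pt.map k ≫ y g hg ≫ η j = 0 := fun j W g hg =>
    S.exists_local_zero hA _ (by rw [S.θ_comp, hy, Category.assoc, hx, comp_zero])
  choose U hU hU' using hz
  obtain ⟨ι, W, f, hcov, hf⟩ := hG (fun j => Sieve.bind T.arrows fun _ g hg => U j g hg)
    (fun j => J.bind_covering hT fun _ g hg => hU j g hg)
  refine S.sep x _ hcov fun W' g hg => ?_
  obtain ⟨Z, k, _, ⟨i⟩, rfl⟩ := hg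
  obtain ⟨j, ⟨Y', k', g', hg', hk', e⟩, hgood⟩ := hf i
  have h0 := hinj j (f i) hgood (S.pt.map k' ≫ y g' hg') (by rw [Category.assoc]; exact hU' j g' hg' k' hk')
  have h1 : S.P.map (f i) ≫ x = 0 := by
    rw [← e, S.P.map_comp, Category.assoc, ← hy g' hg', ← S.θ_map, h0]
    simp [Sections.θ]
  rw [S.P.map_comp, Category.assoc, h1, comp_zero]

/-- Surjective hypercohomology maps give locally surjective maps of cohomology objects. -/
theorem Sections.exists_local_preimage {X Y : DerivedCategory A} (η : X ⟶ Y) {V : C}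
    (G : ∀ ⦃W : C⦄, (W ⟶ V) → Prop)
    (hG : ∀ T ∈ J V, ∃ (ι : Type w') (W : ι → C) (f : ∀ i, W i ⟶ V),
      (∀ i, T.arrows (f i)) ∧ Sieve.ofArrows W f ∈ J V ∧ ∀ i, G (f i))
    (hsurj : ∀ ⦃W : C⦄ (f : W ⟶ V), G f → Function.Surjective (fun y : S.pt.obj W ⟶ X => y ≫ η))
    (x : S.P.obj V ⟶ (homologyFunctor A 0).obj Y) :
    ∃ T ∈ J V, ∀ ⦃W : C⦄ (g : W ⟶ V), T g → ∃ z, z ≫ (homologyFunctor A 0).map η = S.P.map g ≫ x := by
  obtain ⟨T, hT, hl⟩ := S.exists_local_lift x
  obtain ⟨ι, W, f, hf, hcov, hgood⟩ := hG T hT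
  refine ⟨_, hcov, fun W' g hg => ?_⟩
  obtain ⟨Z, k, _, ⟨i⟩, rfl⟩ := hg
  obtain ⟨y, hy⟩ := hl (f i) (hf i)
  obtain ⟨y', hy'⟩ := hsurj (f i) (hgood i) y
  refine ⟨S.P.map k ≫ S.θ y', ?_⟩
  rw [Category.assoc, ← S.θ_comp, show y' ≫ η = y from hy', hy, S.P.map_comp, Category.assoc]

theorem isLE_pt_shift (V : C) (k n : ℤ) (h : k ≤ n) : ((S.pt.obj V)⟦-k⟧).IsLE n := by
  haveI : ((singleFunctor A 0).obj (S.P.obj V)).IsLE 0 := inferInstance
  haveI : (S.pt.obj V).IsLE 0 := (inferInstance : ((singleFunctor A 0).obj (S.P.obj V)).IsLE 0)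
  haveI : ((S.pt.obj V)⟦-k⟧).IsLE k := (DerivedCategory.TStructure.t).isLE_shift _ 0 (-k) k (by omega)
  exact (DerivedCategory.TStructure.t).isLE_of_le _ k n h

/-- Vanishing of hypercohomology of a bounded below object. -/
theorem Sections.eq_zero_of_boundedBelow [HasExt.{w} A] (W : C) (k : ℤ) (X : DerivedCategory A) (a : ℤ) [X.IsGE a]
    (h : ∀ (q : ℤ) (d : ℕ), (d : ℤ) = k - q → Subsingleton (Abelian.Ext.{w} (S.P.obj W) ((homologyFunctor A q).obj X) d))
    (g : (S.pt.obj W)⟦-k⟧ ⟶ X) : g = 0 := by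
  let t : Triangulated.TStructure (DerivedCategory A) := DerivedCategory.TStructure.t
  let V := (S.pt.obj W)⟦-k⟧
  haveI hV : V.IsLE k := isLE_pt_shift S W k k le_rfl
  let P : ObjectProperty (DerivedCategory A) := fun Y => ∀ g : V ⟶ Y, g = 0
  have hsingle : ∀ (q : ℤ) (M : A), q ≤ k → Nonempty (M ≅ (homologyFunctor A q).obj X) →
      P ((singleFunctor A q).obj M) := by
    intro q M hq ⟨eM⟩ g
    obtain ⟨d, hd⟩ := Int.eq_ofNat_of_zero_le (show 0 ≤ k - q by omega)
    haveI := h q d hd.symm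
    haveI : Subsingleton (Abelian.Ext.{w} (S.P.obj W) M d) :=
      ⟨fun x y => by
        have : ∀ x : Abelian.Ext.{w} (S.P.obj W) M d, x = 0 := fun x => by
          have h1 : (x.comp (Abelian.Ext.mk₀ eM.hom) (add_zero d)).comp (Abelian.Ext.mk₀ eM.inv) (add_zero d) = x := by
            simp
          rw [← h1, Subsingleton.elim (x.comp (Abelian.Ext.mk₀ eM.hom) (add_zero d)) 0, Abelian.Ext.zero_comp]
        rw [this x, this y]⟩
    haveI : Subsingleton ((singleFunctor A 0).obj (S.P.obj W) ⟶ ((singleFunctor A 0).obj M)⟦(d : ℤ)⟧) :=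
      (Abelian.Ext.homEquiv (X := S.P.obj W) (Y := M) (n := d)).symm.subsingleton
    let e : ((singleFunctor A q).obj M)⟦k⟧ ≅ ((singleFunctor A 0).obj M)⟦(d : ℤ)⟧ :=
      (shiftFunctor (DerivedCategory A) k).mapIso (WayOut.singleIso M q) ≪≫
        ((shiftFunctorAdd' (DerivedCategory A) (-q) k (d : ℤ) (by omega)).app _).symm
    let eV : ((S.pt.obj W)⟦-k⟧)⟦k⟧ ≅ (singleFunctor A 0).obj (S.P.obj W) :=
      (shiftFunctorCompIsoId (DerivedCategory A) (-k) k (by omega)).app _
    apply (shiftFunctor (DerivedCategory A) k).map_injective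
    rw [Functor.map_zero, ← cancel_epi eV.inv, ← cancel_mono e.hom]
    exact Subsingleton.elim (α := (singleFunctor A 0).obj (S.P.obj W) ⟶ ((singleFunctor A 0).obj M)⟦(d : ℤ)⟧) _ _
  have hhigh : ∀ Y : DerivedCategory A, Y.IsGE (k + 1) → P Y := fun Y hY g => t.zero g k (k + 1) (by omega)
  suffices ∀ (n : ℕ) (Y : DerivedCategory A), Y.IsGE (k + 1 - n) →
      (∀ q, q ≤ k → (IsZero ((homologyFunctor A q).obj Y) ∨ Nonempty ((homologyFunctor A q).obj Y ≅ (homologyFunctor A q).obj X))) →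
      P Y by
    refine this (k + 1 - a).toNat X (t.isGE_of_ge _ _ a (by omega)) (fun q _ => Or.inr ⟨Iso.refl _⟩) g
  intro n
  induction n with
  | zero => intro Y hY _; exact hhigh Y (by simpa using hY)
  | succ n ih =>
    intro Y hY hH g
    let c := k + 1 - n
    let m := k + 1 - ((n + 1 : ℕ) : ℤ)
    have hT := t.triangleLTGE_distinguished c Y
    have hGE := ih (t.truncGE c |>.obj Y) inferInstance (fun q hq => by
      by_cases hqc : q < c
      · exact Or.inl (isZero_of_isGE (t.truncGE c |>.obj Y) c q hqc)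
      · haveI := epi_homology_truncGEπ Y c q
        haveI : Mono ((homologyFunctor A q).map ((t.truncGEπ c).app Y)) := by
          refine (HomologySequence.mono_homologyMap_mor₂_iff _ hT q).2 ?_
          haveI : (t.truncLT c |>.obj Y).IsLE (c - 1) := t.isLE_truncLT_obj _ _ _ (by omega)
          exact (isZero_of_isLE _ (c - 1) q (by omega)).eq_of_src _ _
        haveI := isIso_of_mono_of_epi ((homologyFunctor A q).map ((t.truncGEπ c).app Y))
        let e := asIso ((homologyFunctor A q).map ((t.truncGEπ c).app Y))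
        rcases hH q hq with hz | ⟨⟨e'⟩⟩
        · exact Or.inl (hz.of_iso e.symm)
        · exact Or.inr ⟨e.symm ≪≫ e'⟩) (g ≫ (t.truncGEπ c).app Y)
    obtain ⟨g', hg'⟩ := Triangle.coyoneda_exact₂ _ hT g hGE
    haveI : (t.truncLT c |>.obj Y).IsLE m := t.isLE_truncLT_obj _ _ _ (by omega)
    haveI : Y.IsGE m := hY
    haveI : (t.truncLT c |>.obj Y).IsGE m := inferInstance
    obtain ⟨M, ⟨eM⟩⟩ := exists_iso_singleFunctor_obj_of_isGE_of_isLE (t.truncLT c |>.obj Y) m
    have hM : P ((singleFunctor A m).obj M) := by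
      have e1 : M ≅ (homologyFunctor A m).obj Y := by
        haveI := mono_homology_truncLTι Y c m
        haveI : Epi ((homologyFunctor A m).map ((t.truncLTι c).app Y)) :=
          (HomologySequence.epi_homologyMap_mor₁_iff _ hT m).2
            ((isZero_of_isGE (t.truncGE c |>.obj Y) c m (by omega)).eq_of_tgt _ _)
        haveI := isIso_of_mono_of_epi ((homologyFunctor A m).map ((t.truncLTι c).app Y))
        exact ((singleFunctorCompHomologyFunctorIso A m).app M).symm ≪≫ (homologyFunctor A m).mapIso eM.symm ≪≫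
          asIso ((homologyFunctor A m).map ((t.truncLTι c).app Y))
      rcases hH m (by omega) with hz | ⟨⟨e'⟩⟩
      · intro g'
        exact ((singleFunctor A m).map_isZero (hz.of_iso e1)).eq_of_tgt _ _
      · exact hsingle m M (by omega) ⟨e1 ≪≫ e'⟩
    have : g' = 0 := by
      rw [← cancel_mono eM.hom, zero_comp]
      exact hM _
    rw [hg', this, zero_comp]

end Groth.Agent.SiteDer16
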