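import Groth.Agent.SiteDer16.RpushRlim
import Groth.Agent.SiteDer16.Devissage
import Groth.Agent.SiteDer16.Adjunction
import Groth.Agent.SiteCoh.LeftExactPull
import Groth.Prelude.Def_CohTop
import Mathlib.Topology.Sheaves.SheafCondition.Sites
import Mathlib.CategoryTheory.Sites.Pullback

/-! Negative vanishing of hypercohomology and the sheaf of degree zero classes. -/

set_option autoImplicit false
set_option backward.isDefEq.respectTransparency false
set_option backward.defeqAttrib.useBackward true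
set_option linter.style.haveILetI false

universe w v u u'

open CategoryTheory CategoryTheory.Limits CategoryTheory.Pretriangulated DerivedCategory Opposite TopologicalSpace
open Groth.Agent.DCat

namespace Groth.Agent.SiteDer16

section

variable {C : Type u'} [SmallCategory C] {J : GrothendieckTopology C}
  {A : Type u} [Category.{v} A] [Abelian A] [HasDerivedCategory.{w} A] (S : Sections J A)

/-- Classes of objects concentrated in nonnegative degrees are cohomology sections. -/
theorem Sections.bijective_θ (L : DerivedCategory A) [L.IsGE 0] (V : C) :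
    Function.Bijective (fun y : S.pt.obj V ⟶ L => S.θ y) := by
  let t : Triangulated.TStructure (DerivedCategory A) := DerivedCategory.TStructure.t
  haveI : (t.truncLT 1 |>.obj L).IsLE 0 := t.isLE_truncLT_obj _ _ _ (by omega)
  haveI : (t.truncLT 1 |>.obj L).IsGE 0 := inferInstance
  obtain ⟨M, ⟨eM⟩⟩ := exists_iso_singleFunctor_obj_of_isGE_of_isLE (t.truncLT 1 |>.obj L) 0
  let ι : (singleFunctor A 0).obj M ⟶ L := eM.inv ≫ (t.truncLTι 1).app L
  haveI hι : IsIso ((homologyFunctor A 0).map ι) := by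
    haveI := mono_homology_truncLTι L 1 0
    haveI : Epi ((homologyFunctor A 0).map ((t.truncLTι 1).app L)) :=
      (HomologySequence.epi_homologyMap_mor₁_iff _ (t.triangleLTGE_distinguished 1 L) 0).2
        ((isZero_of_isGE (t.truncGE 1 |>.obj L) 1 0 (by omega)).eq_of_tgt _ _)
    haveI := isIso_of_mono_of_epi ((homologyFunctor A 0).map ((t.truncLTι 1).app L))
    simp only [ι, Functor.map_comp]
    infer_instance
  haveI : (S.pt.obj V).IsLE 0 := (inferInstance : ((singleFunctor A 0).obj (S.P.obj V)).IsLE 0)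
  have hfac : ∀ y : S.pt.obj V ⟶ L, ∃ z : S.pt.obj V ⟶ (singleFunctor A 0).obj M, z ≫ ι = y := fun y => by
    obtain ⟨z, hz⟩ := Triangle.coyoneda_exact₂ _ (t.triangleLTGE_distinguished 1 L) y
      (t.zero (y ≫ (t.truncGEπ 1).app L) 0 1 (by omega))
    exact ⟨z ≫ eM.hom, by simpa [ι] using hz.symm⟩
  let es : S.pt.obj V ≅ (singleFunctor A 0).obj (S.P.obj V) := ((singleFunctorIsoCompQ A 0).app _).symm
  have hθ : ∀ g : (singleFunctor A 0).obj (S.P.obj V) ⟶ (singleFunctor A 0).obj M, ∃ g₀ : S.P.obj V ⟶ M,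
      (singleFunctor A 0).map g₀ = g := fun g => (singleFunctor A 0).map_surjective g
  let c : S.P.obj V ⟶ (homologyFunctor A 0).obj ((singleFunctor A 0).obj (S.P.obj V)) := S.θ es.hom
  haveI hc : IsIso c := by
    dsimp only [c, Sections.θ]
    infer_instance
  let e1 := singleFunctorCompHomologyFunctorIso A 0
  have hval : ∀ g₀ : S.P.obj V ⟶ M, S.θ (es.hom ≫ (singleFunctor A 0).map g₀ ≫ ι) =
      (c ≫ e1.hom.app (S.P.obj V)) ≫ g₀ ≫ e1.inv.app M ≫ (homologyFunctor A 0).map ι := fun g₀ => by
    rw [S.θ_comp, Functor.map_comp]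
    have h := e1.hom.naturality g₀
    dsimp at h
    simp only [Category.assoc]
    rw [← reassoc_of% h, Iso.hom_inv_id_app_assoc]
  refine ⟨fun y₁ y₂ h => ?_, fun x => ?_⟩
  · obtain ⟨z₁, rfl⟩ := hfac y₁
    obtain ⟨z₂, rfl⟩ := hfac y₂
    obtain ⟨g₁, hg₁⟩ := hθ (es.inv ≫ z₁)
    obtain ⟨g₂, hg₂⟩ := hθ (es.inv ≫ z₂)
    obtain rfl : z₁ = es.hom ≫ (singleFunctor A 0).map g₁ := by rw [hg₁, Iso.hom_inv_id_assoc]
    obtain rfl : z₂ = es.hom ≫ (singleFunctor A 0).map g₂ := by rw [hg₂, Iso.hom_inv_id_assoc]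
    dsimp only at h
    rw [Category.assoc, Category.assoc, hval, hval, cancel_epi, ← Category.assoc g₁, ← Category.assoc g₂,
      cancel_mono, cancel_mono] at h
    rw [h]
  · refine ⟨es.hom ≫ (singleFunctor A 0).map (inv (c ≫ e1.hom.app (S.P.obj V)) ≫ x ≫
      inv ((homologyFunctor A 0).map ι) ≫ e1.hom.app M) ≫ ι, ?_⟩
    show S.θ _ = x
    rw [hval]
    simp

/-- Vanishing of negative classes on a basis gives coconnectivity. -/
theorem Sections.isGE_zero_of_negative (L : DerivedCategory A) (B : Set C)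
    (hB : ∀ U : C, ∃ (ι : Type u') (Y : ι → C) (f : ∀ i, Y i ⟶ U), Sieve.ofArrows Y f ∈ J U ∧ ∀ i, Y i ∈ B)
    (h : ∀ V ∈ B, ∀ i : ℤ, i < 0 → ∀ y : S.pt.obj V ⟶ L⟦i⟧, y = 0) : L.IsGE 0 := by
  refine (DerivedCategory.isGE_iff _ _).2 fun q hq => ?_
  refine (S.gen fun V x => ?_).of_iso ((Functor.shiftIso (homologyFunctor A 0) q 0 q (add_zero q)).app L).symm
  obtain ⟨T, hT, hl⟩ := S.exists_local_lift x
  refine S.sep x T hT fun W g hg => ?_
  obtain ⟨y, hy⟩ := hl g hg
  rw [← hy]
  obtain ⟨ι, Yc, k, hk, hY⟩ := hB W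
  refine S.sep _ _ hk ?_
  rintro W' a ⟨_, a', _, ⟨i⟩, rfl⟩
  rw [← S.θ_map, Functor.map_comp, Category.assoc, h _ (hY i) q hq (S.pt.map (k i) ≫ y), comp_zero]
  simp [Sections.θ]

end

section Top

variable {X Y : TopCat.{u}} (f : X ⟶ Y)

/-- Inverse image of abelian sheaves along a continuous map. -/
noncomputable abbrev pullTop : CohTop.Ab Y ⥤ CohTop.Ab X :=
  Functor.sheafPullback (Opens.map f) AddCommGrpCat.{u} (Opens.grothendieckTopology Y) (Opens.grothendieckTopology X)

/-- Morphisms out of the inverse image of a free sheaf. -/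
noncomputable def pullFreeTopNat (V : Opens Y) :
    coyoneda.obj (op (CohCx.freeSheaf (Opens.grothendieckTopology X) ((Opens.map f).obj V))) ≅
      coyoneda.obj (op ((pullTop f).obj (CohCx.freeSheaf (Opens.grothendieckTopology Y) V))) :=
  let adj := (Opens.map f).sheafAdjunctionContinuous AddCommGrpCat.{u} (Opens.grothendieckTopology Y)
    (Opens.grothendieckTopology X)
  NatIso.ofComponents
    (fun F => ((SiteCoh.homEquiv ((Opens.map f).obj V) F).toEquiv.trans
      ((SiteCoh.homEquiv V _).symm.toEquiv.trans (adj.homEquiv _ F).symm)).toIso)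
    (fun {F F'} g => by
      ext x
      show (adj.homEquiv _ F').symm ((SiteCoh.homEquiv V _).symm
          (SiteCoh.homEquiv ((Opens.map f).obj V) F' (x ≫ g))) =
        (adj.homEquiv _ F).symm ((SiteCoh.homEquiv V _).symm (SiteCoh.homEquiv ((Opens.map f).obj V) F x)) ≫ g
      rw [← adj.homEquiv_naturality_right_symm]
      refine congrArg _ ((SiteCoh.homEquiv V _).injective ?_)
      rw [AddEquiv.apply_symm_apply, SiteCoh.homEquiv_postcomp, SiteCoh.homEquiv_postcomp]
      exact congrArg _ ((SiteCoh.homEquiv V (((Opens.map f).sheafPushforwardContinuous AddCommGrpCat.{u}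
        (Opens.grothendieckTopology Y) (Opens.grothendieckTopology X)).obj F)).apply_symm_apply
        (SiteCoh.homEquiv ((Opens.map f).obj V) F x)).symm)

/-- The inverse image of a free sheaf. -/
noncomputable def pullFreeTopIso (V : Opens Y) :
    (pullTop f).obj (CohCx.freeSheaf (Opens.grothendieckTopology Y) V) ≅
      CohCx.freeSheaf (Opens.grothendieckTopology X) ((Opens.map f).obj V) :=
  Iso.unop (Coyoneda.fullyFaithful.preimageIso (pullFreeTopNat f V))

theorem pullFreeTopIso_naturality {W V : Opens Y} (g : W ⟶ V) :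
    (pullTop f).map (CohCx.freeSheafMap _ g) ≫ (pullFreeTopIso f V).hom =
      (pullFreeTopIso f W).hom ≫ CohCx.freeSheafMap _ ((Opens.map f).map g) := by
  let adj := (Opens.map f).sheafAdjunctionContinuous AddCommGrpCat.{u} (Opens.grothendieckTopology Y)
    (Opens.grothendieckTopology X)
  have key : ∀ (V : Opens Y) (F : CohTop.Ab X)
      (x : CohCx.freeSheaf (Opens.grothendieckTopology X) ((Opens.map f).obj V) ⟶ F),
      adj.homEquiv _ F ((pullFreeTopIso f V).hom ≫ x) =
        (SiteCoh.homEquiv V _).symm (SiteCoh.homEquiv ((Opens.map f).obj V) F x) := fun V F x => by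
    have h : (pullFreeTopIso f V).hom ≫ x = (pullFreeTopNat f V).hom.app F x :=
      congrArg (fun t : coyoneda.obj _ ⟶ coyoneda.obj _ => t.app F x)
        (Coyoneda.fullyFaithful.map_preimage (pullFreeTopNat f V).hom)
    rw [h]
    exact (adj.homEquiv _ F).apply_symm_apply _
  apply (adj.homEquiv _ _).injective
  rw [adj.homEquiv_naturality_left]
  have e := key V _ (𝟙 _)
  rw [Category.comp_id] at e
  rw [e, key W]
  apply (SiteCoh.homEquiv W _).injective
  rw [SiteCoh.homEquiv_precomp, AddEquiv.apply_symm_apply, AddEquiv.apply_symm_apply,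
    ← Category.comp_id (CohCx.freeSheafMap _ ((Opens.map f).map g)), SiteCoh.homEquiv_precomp]
  rfl

/-- Degree zero classes on inverse images of opens form a sheaf when negative ones vanish on a basis. -/
theorem negative_vanishing_and_sheaf [HasDerivedCategory.{u} (CohTop.Ab X)] (B : Set (Opens Y)) (hB : Opens.IsBasis B)
    (K : DerivedCategory (CohTop.Ab X))
    (h : ∀ V ∈ B, ∀ i : ℤ, i < 0 → Subsingleton (CohCx.HDU K i ((Opens.map f).obj V))) :
    (∀ (V : Opens Y) (i : ℤ), i < 0 → Subsingleton (CohCx.HDU K i ((Opens.map f).obj V))) ∧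
    Presheaf.IsSheaf (Opens.grothendieckTopology Y) ((Opens.map f).op ⋙ CohCx.HDUPresheaf K 0) := by
  letI : HasDerivedCategory.{u + 1} (CohTop.Ab Y) := HasDerivedCategory.standard _
  haveI : PreservesFiniteLimits ((Opens.map f).sheafPullback (Type u) (Opens.grothendieckTopology Y)
      (Opens.grothendieckTopology X)) :=
    Functor.sheafPullbackConstruction.preservesFiniteLimits (Opens.map f) (Type u) _ _
  haveI : PreservesFiniteLimits (pullTop f) := SiteCoh.sheafPullback_addCommGrp_preservesFiniteLimits _ _ _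
  haveI : PreservesFiniteColimits (pullTop f) :=
    haveI := ((Opens.map f).sheafAdjunctionContinuous AddCommGrpCat.{u} (Opens.grothendieckTopology Y)
      (Opens.grothendieckTopology X)).isLeftAdjoint
    inferInstance
  haveI : (pullTop f).Additive := Functor.additive_of_preserves_binary_products _
  let push := (Opens.map f).sheafPushforwardContinuous AddCommGrpCat.{u} (Opens.grothendieckTopology Y)
    (Opens.grothendieckTopology X)
  haveI : push.Additive :=
    ((Opens.map f).sheafAdjunctionContinuous AddCommGrpCat.{u} (Opens.grothendieckTopology Y)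
      (Opens.grothendieckTopology X)).right_adjoint_additive
  haveI := hasRightDerivedFunctor_of_enoughKInj (enoughKInj (CohTop.Ab X))
    (push.mapHomotopyCategory (ComplexShape.up ℤ) ⋙ Qh (C := CohTop.Ab Y))
  let adj := adjRF ((Opens.map f).sheafAdjunctionContinuous AddCommGrpCat.{u} (Opens.grothendieckTopology Y)
    (Opens.grothendieckTopology X)) (enoughKInj _) (enoughKInj _)
  let R := (push.mapHomotopyCategory (ComplexShape.up ℤ) ⋙ Qh (C := CohTop.Ab Y)).totalRightDerived Qh
    (HomotopyCategory.quasiIso (CohTop.Ab X) (ComplexShape.up ℤ))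
  letI := adj.rightAdjointCommShift ℤ
  haveI : R.Additive := adj.right_adjoint_additive
  let S := abSections (Opens.grothendieckTopology Y)
  let eP : ∀ V : Opens Y, (pullTop f).mapDerivedCategory.obj (S.pt.obj V) ≅
      (singleFunctor (CohTop.Ab X) 0).obj (CohCx.freeSheaf _ ((Opens.map f).obj V)) := fun V =>
    (pullTop f).mapDerivedCategory.mapIso ((singleFunctorIsoCompQ (CohTop.Ab Y) 0).app (CohCx.freeSheaf _ V)).symm ≪≫
      ((pullTop f).mapDerivedCategorySingleFunctor 0).app _ ≪≫ (singleFunctor _ 0).mapIso (pullFreeTopIso f V)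
  let Φ : ∀ (V : Opens Y) (i : ℤ), CohCx.HDU K i ((Opens.map f).obj V) ≃ (S.pt.obj V ⟶ (R.obj K)⟦i⟧) := fun V i =>
    (Iso.homFromEquiv (eP V).symm).trans ((adj.homEquiv _ _).trans (Iso.homToEquiv ((R.commShiftIso i).app K)))
  have hB' : ∀ U : Opens Y, ∃ (ι : Type u) (Yc : ι → Opens Y) (g : ∀ i, Yc i ⟶ U),
      Sieve.ofArrows Yc g ∈ Opens.grothendieckTopology Y U ∧ ∀ i, Yc i ∈ B := fun U => by
    choose W hW hyW hWU using fun y : {y : Y // y ∈ U} => Opens.isBasis_iff_nbhd.1 hB y.2
    refine ⟨{y : Y // y ∈ U}, W, fun y => homOfLE (hWU y), fun y hy => ?_, hW⟩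
    exact ⟨W ⟨y, hy⟩, homOfLE (hWU ⟨y, hy⟩), Sieve.ofArrows_mk _ _ (⟨y, hy⟩ : {y : Y // y ∈ U}), hyW ⟨y, hy⟩⟩
  haveI hL : (R.obj K).IsGE 0 := S.isGE_zero_of_negative _ B hB' fun V hV i hi y => by
    haveI := h V hV i hi
    obtain ⟨a, rfl⟩ := (Φ V i).surjective y
    obtain ⟨b, hb⟩ := (Φ V i).surjective 0
    rw [Subsingleton.elim a b, hb]
  refine ⟨fun V i hi => ?_, ?_⟩
  · haveI : ((R.obj K)⟦i⟧).IsGE 1 :=
      haveI : ((R.obj K)⟦i⟧).IsGE (-i) := (DerivedCategory.TStructure.t).isGE_shift _ 0 i (-i) (by omega)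
      (DerivedCategory.TStructure.t).isGE_of_ge _ 1 (-i) (by omega)
    haveI : (S.pt.obj V).IsLE 0 := (inferInstance : ((singleFunctor (CohTop.Ab Y) 0).obj (S.P.obj V)).IsLE 0)
    haveI : Subsingleton (S.pt.obj V ⟶ (R.obj K)⟦i⟧) :=
      ⟨fun a b => (DerivedCategory.TStructure.t.zero a 0 1 (by omega)).trans
        (DerivedCategory.TStructure.t.zero b 0 1 (by omega)).symm⟩
    exact (Φ V i).subsingleton
  · let z := (shiftFunctorZero (DerivedCategory (CohTop.Ab Y)) ℤ).app (R.obj K)
    let H := (homologyFunctor (CohTop.Ab Y) 0).obj (R.obj K)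
    let Ψ : ∀ V : Opens Y, CohCx.HDU K 0 ((Opens.map f).obj V) ≃ H.obj.obj (op V) := fun V =>
      ((Φ V 0).trans ((Iso.homToEquiv z).trans (Equiv.ofBijective _ (S.bijective_θ (R.obj K) V)))).trans
        (SiteCoh.homEquiv V H).toEquiv
    have hadd : ∀ V a b, Ψ V (a + b) = Ψ V a + Ψ V b := fun V a b => by
      simp [Ψ, Φ, Iso.homFromEquiv, Iso.homToEquiv, Iso.homCongr, Sections.θ, Adjunction.homEquiv_unit,
        Preadditive.add_comp, Preadditive.comp_add, Functor.map_add]
    refine Presheaf.isSheaf_of_iso_iff ?_ |>.2 H.property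
    refine NatIso.ofComponents (fun V => (AddEquiv.mk' (Ψ V.unop) (hadd V.unop)).toAddCommGrpIso) ?_
    intro V W g
    ext a
    change CohCx.HDU K 0 ((Opens.map f).obj V.unop) at a
    show Ψ W.unop ((singleFunctor (CohTop.Ab X) 0).map (CohCx.freeSheafMap _ ((Opens.map f).map g.unop)) ≫ a) =
      H.obj.map g (Ψ V.unop a)
    have hpt : (pullTop f).mapDerivedCategory.map (S.pt.map g.unop) ≫ (eP V.unop).hom =
        (eP W.unop).hom ≫ (singleFunctor (CohTop.Ab X) 0).map (CohCx.freeSheafMap _ ((Opens.map f).map g.unop)) := by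
      have n1 := (singleFunctorIsoCompQ (CohTop.Ab Y) 0).inv.naturality (CohCx.freeSheafMap _ g.unop)
      have n2 := ((pullTop f).mapDerivedCategorySingleFunctor 0).hom.naturality (CohCx.freeSheafMap _ g.unop)
      dsimp at n1 n2
      dsimp only [eP, Iso.trans_hom, Functor.mapIso_hom, Iso.app_hom, Iso.symm_hom, Iso.app_inv]
      rw [← Category.assoc, ← Functor.map_comp]
      erw [n1]
      rw [Functor.map_comp, Category.assoc]
      erw [reassoc_of% n2]
      simp only [Category.assoc, ← Functor.map_comp, pullFreeTopIso_naturality]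
    have hΦ : Φ W.unop 0 ((singleFunctor (CohTop.Ab X) 0).map (CohCx.freeSheafMap _ ((Opens.map f).map g.unop)) ≫ a) =
        S.pt.map g.unop ≫ Φ V.unop 0 a := by
      simp only [Φ, Equiv.trans_apply, Iso.homFromEquiv_apply, Iso.homToEquiv_apply, Iso.symm_inv]
      rw [← Category.assoc, ← hpt, Category.assoc]
      erw [adj.homEquiv_naturality_left]
      simp [Iso.homToEquiv, Iso.homCongr]
    simp only [Ψ, Equiv.trans_apply, hΦ, Iso.homToEquiv_apply, Equiv.ofBijective_apply, Category.assoc, S.θ_map]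
    exact SiteCoh.homEquiv_precomp g.unop _

end Top

end Groth.Agent.SiteDer16
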