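import Groth.Agent.SiteDer16.RlimSites
import Groth.Agent.SiteDer16.NegVanish
import Groth.Agent.DCat.DerivedLimits
import Mathlib.CategoryTheory.Functor.OfSequence

/-! Classes and cohomology sheaves of derived limits. -/

set_option autoImplicit false
set_option backward.isDefEq.respectTransparency false
set_option backward.defeqAttrib.useBackward true
set_option linter.style.haveILetI false

universe w v u u'

open CategoryTheory CategoryTheory.Limits CategoryTheory.Pretriangulated DerivedCategory Opposite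
open Groth.Agent.DCat

namespace Groth.Agent.SiteDer16

section Tri

variable {T : Type u} [Category.{v} T] [Preadditive T] [HasZeroObject T] [HasShift T ℤ]
  [∀ n : ℤ, (shiftFunctor T n).Additive] [Pretriangulated T]
  {K : ℕ → T} {t : ∀ n, K (n + 1) ⟶ K n} [HasProduct K] {L : T} {a : ∀ n, L ⟶ K n}

/-- Compatible classes lift to the derived limit. -/
theorem exists_lift_of_compatible (hL : CohCx.IsRlimVia K t L a) (m : ℤ) {X : T}
    (x : ∀ n, X ⟶ (K n)⟦m⟧) (hx : ∀ n, x (n + 1) ≫ (t n)⟦m⟧' = x n) :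
    ∃ y : X ⟶ L⟦m⟧, ∀ n, y ≫ (a n)⟦m⟧' = x n := by
  obtain ⟨c, hc⟩ := hL
  let adj := (shiftEquiv' T (-m) m (by omega)).toAdjunction
  let x' : ∀ n, X⟦-m⟧ ⟶ K n := fun n => (adj.homEquiv X (K n)).symm (x n)
  have hx' : ∀ n, x' (n + 1) ≫ t n = x' n := fun n =>
    (adj.homEquiv_naturality_right_symm (x (n + 1)) (t n)).symm.trans (congrArg _ (hx n))
  obtain ⟨φ, hφ⟩ := Triangle.coyoneda_exact₂ _ hc (Pi.lift x') (Pi.hom_ext _ _ fun n => by
    simp [Preadditive.comp_sub, hx'])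
  refine ⟨adj.homEquiv X L φ, fun n => ?_⟩
  have h1 : φ ≫ a n = x' n := by
    have := hφ =≫ Pi.π K n
    simp only [Category.assoc, Pi.lift_π, Triangle.mk_mor₁] at this
    exact this.symm
  exact ((adj.homEquiv_naturality_right φ (a n)).symm.trans (congrArg _ h1)).trans
    ((adj.homEquiv X (K n)).apply_symm_apply (x n))

/-- Classes in the derived limit are detected by the tower when the obstruction group vanishes. -/
theorem eq_zero_of_limOne (hL : CohCx.IsRlimVia K t L a) (m : ℤ) {X : T}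
    (hl : ∀ z : ∀ n, X ⟶ (K n)⟦m - 1⟧, ∃ w : ∀ n, X ⟶ (K n)⟦m - 1⟧, ∀ n, w n - w (n + 1) ≫ (t n)⟦m - 1⟧' = z n)
    (y : X ⟶ L⟦m⟧) (hy : ∀ n, y ≫ (a n)⟦m⟧' = 0) : y = 0 := by
  obtain ⟨c, hc⟩ := hL
  let adj := (shiftEquiv' T (-m) m (by omega)).toAdjunction
  let adj' := (shiftEquiv' T (-(m - 1)) (m - 1) (by omega)).toAdjunction
  let e : X⟦-(m - 1)⟧ ≅ (X⟦-m⟧)⟦(1 : ℤ)⟧ := (shiftFunctorAdd' T (-m) 1 (-(m - 1)) (by omega)).app X
  haveI : (shiftEquiv' T (-m) m (by omega)).functor.Additive := inferInstanceAs (shiftFunctor T (-m)).Additive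
  haveI : (shiftEquiv' T (-(m - 1)) (m - 1) (by omega)).functor.Additive :=
    inferInstanceAs (shiftFunctor T (-(m - 1))).Additive
  haveI : (shiftEquiv' T (-m) m (by omega)).inverse.Additive := inferInstanceAs (shiftFunctor T m).Additive
  haveI : (shiftEquiv' T (-(m - 1)) (m - 1) (by omega)).inverse.Additive :=
    inferInstanceAs (shiftFunctor T (m - 1)).Additive
  let φ : X⟦-m⟧ ⟶ L := (adj.homEquiv X L).symm y
  have hφ : ∀ n, φ ≫ a n = 0 := fun n => by
    rw [← adj.homEquiv_naturality_right_symm y (a n)]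
    refine (congrArg _ (hy n)).trans ?_
    exact (adj.homAddEquiv X (K n)).symm.map_zero
  suffices hφ0 : φ = 0 by
    exact ((adj.homEquiv X L).apply_symm_apply y).symm.trans
      ((congrArg _ hφ0).trans (adj.homAddEquiv X L).map_zero)
  have hlift : φ ≫ Pi.lift a = 0 := Pi.hom_ext _ _ fun n => by rw [Category.assoc, Pi.lift_π, zero_comp, hφ n]
  apply (shiftFunctor T (1 : ℤ)).map_injective
  rw [Functor.map_zero]
  obtain ⟨g, hg⟩ := Triangle.coyoneda_exact₁ _ hc ((shiftFunctor T (1 : ℤ)).map φ)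
    ((Functor.map_comp _ _ _).symm.trans ((congrArg _ hlift).trans (Functor.map_zero _ _ _)))
  obtain ⟨w, hw⟩ := hl fun n => adj'.homAddEquiv X (K n) (e.hom ≫ g ≫ Pi.π K n)
  let w' : ∀ n, (X⟦-m⟧)⟦(1 : ℤ)⟧ ⟶ K n := fun n => e.inv ≫ (adj'.homAddEquiv X (K n)).symm (w n)
  have hg' : g = Pi.lift w' ≫ (Pi.lift fun n => Pi.π K n - Pi.π K (n + 1) ≫ t n) := Pi.hom_ext _ _ fun n => by
    have h1 : (adj'.homAddEquiv X (K n)).symm (w n) - (adj'.homAddEquiv X (K (n + 1))).symm (w (n + 1)) ≫ t n =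
        e.hom ≫ g ≫ Pi.π K n := by
      apply (adj'.homAddEquiv X (K n)).injective
      rw [map_sub, AddEquiv.apply_symm_apply, ← hw n]
      congr 1
      exact (adj'.homEquiv_naturality_right _ (t n)).trans
        (congrArg (· ≫ (t n)⟦m - 1⟧') ((adj'.homEquiv X (K (n + 1))).apply_symm_apply _))
    simp only [Category.assoc, Pi.lift_π, Preadditive.comp_sub, Pi.lift_π_assoc, w']
    rw [← Preadditive.comp_sub, h1, Iso.inv_hom_id_assoc]
  rw [hg, hg', Category.assoc]
  exact (congrArg (Pi.lift w' ≫ ·) (comp_distTriang_mor_zero₂₃ _ hc)).trans comp_zero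

end Tri

variable {C : Type u'} [SmallCategory C] {J : GrothendieckTopology C}
  {A : Type (u + 1)} [Category.{u} A] [Abelian A] [HasDerivedCategory.{w} A] (S : Sections J A)

/-- The section of a cohomology object attached to a class of degree `m`. -/
noncomputable def Sections.θm (m : ℤ) (V : C) (X : DerivedCategory A)
    (y : (singleFunctor A 0).obj (S.P.obj V) ⟶ X⟦m⟧) : S.P.obj V ⟶ (homologyFunctor A m).obj X :=
  S.θ (show S.pt.obj V ⟶ X⟦m⟧ from y) ≫ (Functor.shiftIso (homologyFunctor A 0) m 0 m (add_zero m)).hom.app X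

theorem Sections.θm_comp (m : ℤ) {V : C} {X Y : DerivedCategory A}
    (y : (singleFunctor A 0).obj (S.P.obj V) ⟶ X⟦m⟧) (f : X ⟶ Y) :
    S.θm m V Y (y ≫ f⟦m⟧') = S.θm m V X y ≫ (homologyFunctor A m).map f := by
  have h := (Functor.shiftIso (homologyFunctor A 0) m 0 m (add_zero m)).hom.naturality f
  dsimp only [Sections.θm]
  rw [Category.assoc]
  refine Eq.trans ?_ (congrArg (S.θ (show S.pt.obj V ⟶ X⟦m⟧ from y) ≫ ·) h)
  rw [← Category.assoc]
  exact congrArg (· ≫ _) (S.θ_comp (show S.pt.obj V ⟶ X⟦m⟧ from y) (f⟦m⟧'))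

theorem Sections.θm_zero (m : ℤ) (V : C) (X : DerivedCategory A) : S.θm m V X 0 = 0 := by
  simp [Sections.θm, Sections.θ]

theorem Sections.θm_add (m : ℤ) (V : C) (X : DerivedCategory A)
    (y y' : (singleFunctor A 0).obj (S.P.obj V) ⟶ X⟦m⟧) : S.θm m V X (y + y') = S.θm m V X y + S.θm m V X y' := by
  simp [Sections.θm, Sections.θ, Functor.map_add]

theorem Sections.θm_sub (m : ℤ) (V : C) (X : DerivedCategory A)
    (y y' : (singleFunctor A 0).obj (S.P.obj V) ⟶ X⟦m⟧) : S.θm m V X (y - y') = S.θm m V X y - S.θm m V X y' := by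
  simp [Sections.θm, Sections.θ, Functor.map_sub]

theorem Sections.exists_local_liftm (m : ℤ) {V : C} {X : DerivedCategory A}
    (x : S.P.obj V ⟶ (homologyFunctor A m).obj X) :
    ∃ T ∈ J V, ∀ ⦃W : C⦄ (g : W ⟶ V), T g → ∃ y, S.θm m W X y = S.P.map g ≫ x := by
  let σ := (Functor.shiftIso (homologyFunctor A 0) m 0 m (add_zero m))
  obtain ⟨T, hT, hl⟩ := S.exists_local_lift (X := X⟦m⟧) (x ≫ σ.inv.app X)
  refine ⟨T, hT, fun W g hg => ?_⟩
  obtain ⟨y, hy⟩ := hl g hg
  refine ⟨y, ?_⟩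
  show S.θ y ≫ σ.hom.app X = _
  rw [hy, Category.assoc, Category.assoc, Iso.inv_hom_id_app]
  exact congrArg (S.P.map g ≫ ·) (Category.comp_id x)

variable (B : Set C)
  (hB : ∀ U : C, ∃ (ι : Type u') (Y : ι → C) (f : ∀ i, Y i ⟶ U), Sieve.ofArrows Y f ∈ J U ∧ ∀ i, Y i ∈ B)

include hB in
/-- Classes are sections when the members of `B` are acyclic for the cohomology objects. -/
theorem Sections.bijective_θ_of_acyclic [HasExt.{w} A] (hA : EnoughKInj A) (X : DerivedCategory A)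
    [HasProduct (CohCx.truncTower X)]
    (h : ∀ V ∈ B, ∀ (q : ℤ) (d : ℕ), 0 < d → Subsingleton (Abelian.Ext.{w} (S.P.obj V) ((homologyFunctor A q).obj X) d))
    {U : C} (hU : U ∈ B) : Function.Bijective (fun y : S.pt.obj U ⟶ X => S.θ y) := by
  have hR := isRlimVia_truncTower S X hA B (fun hz => S.isZero_of_cover B hB hz) fun V _ =>
    ⟨PUnit, fun _ _ => 0, fun T hT => by
      obtain ⟨ι, Y, f, h1, h2, h3⟩ := exists_refinement B hB (T ⟨⟩) (hT _)
      exact ⟨ι, Y, f, h2, fun i => ⟨⟨⟩, h1 i, fun m k hk => h _ (h3 i) _ k (by simp at hk; omega)⟩⟩⟩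
  have hv : ∀ (k : ℤ) (n : ℕ), (k = 0 ∨ k = -1) → ∀ {Z : DerivedCategory A}, Z.IsGE (-(n : ℤ) - 2) →
      (∀ q, q ≠ -(n : ℤ) - 2 → IsZero ((homologyFunctor A q).obj Z)) →
      Nonempty ((homologyFunctor A (-(n : ℤ) - 2)).obj Z ≅ (homologyFunctor A (-(n : ℤ) - 1)).obj X) →
      ∀ g : (S.pt.obj U)⟦-k⟧ ⟶ Z, g = 0 := by
    intro k n hk Z hge hz ⟨e⟩
    refine S.eq_zero_of_boundedBelow U k Z (-(n : ℤ) - 2) fun q d hd => ?_
    by_cases hq : q = -(n : ℤ) - 2
    · subst hq
      haveI := h U hU (-(n : ℤ) - 1) d (by omega)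
      exact subsingleton_ext_of_iso' _ e d
    · exact subsingleton_ext_of_isZero _ (hz q hq) d
  have hb := bijective_comp_of_isRlimVia (CohCx.truncTower X) (CohCx.truncTowerMap X) (S.pt.obj U) 0 hR
    (fun n _ => by
      obtain ⟨Z, g, d, hT', hge, hz, he⟩ := exists_cone_truncTowerMap X n
      refine ⟨injective_comp_of_triangle hT' _ fun u => ?_, surjective_comp_of_triangle hT' _ fun u => ?_⟩
      · rw [← cancel_epi (eqToIso (congrArg (fun k => (S.pt.obj U)⟦k⟧) (show -(-1 : ℤ) = 1 by omega))).hom, comp_zero]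
        exact hv (-1) n (Or.inr rfl) hge hz he _
      · rw [← cancel_epi ((eqToIso (congrArg (fun k => (S.pt.obj U)⟦k⟧) (show -(0 : ℤ) = 0 by omega))) ≪≫
          (shiftFunctorZero (DerivedCategory A) ℤ).app (S.pt.obj U)).hom, comp_zero]
        exact hv 0 n (Or.inl rfl) hge hz he _)
    (fun n _ => by
      obtain ⟨Z, g, d, hT', hge, hz, he⟩ := exists_cone_truncTowerMap X n
      refine surjective_comp_of_triangle hT' _ fun u => ?_
      rw [← cancel_epi (eqToIso (congrArg (fun k => (S.pt.obj U)⟦k⟧) (show -(-1 : ℤ) = 1 by omega))).hom, comp_zero]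
      exact hv (-1) n (Or.inr rfl) hge hz he _)
  haveI : (CohCx.truncTower X 0).IsGE 0 := by
    haveI : (CohCx.truncTower X 0).IsGE (-((0 : ℕ) : ℤ)) :=
      (inferInstance : (((DerivedCategory.TStructure.t (C := A)).truncGE (-((0 : ℕ) : ℤ))).obj X).IsGE (-((0 : ℕ) : ℤ)))
    exact (DerivedCategory.TStructure.t).isGE_of_ge (CohCx.truncTower X 0) 0 (-((0 : ℕ) : ℤ)) (by omega)
  haveI : IsIso ((homologyFunctor A 0).map (CohCx.toTruncTower X 0)) := isIso_homology_truncGEπ X _ 0 (by omega)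
  have h2 : (fun y : S.pt.obj U ⟶ X => S.θ y ≫ (homologyFunctor A 0).map (CohCx.toTruncTower X 0)) =
      (fun y : S.pt.obj U ⟶ CohCx.truncTower X 0 => S.θ y) ∘ (fun y => y ≫ CohCx.toTruncTower X 0) :=
    funext fun y => (S.θ_comp y _).symm
  have h3 := (S.bijective_θ (CohCx.truncTower X 0) U).comp hb
  rw [← h2] at h3
  exact (((Iso.homToEquiv (Z := S.P.obj U) (asIso ((homologyFunctor A 0).map (CohCx.toTruncTower X 0))))).bijective.of_comp_iff'
    (fun y : S.pt.obj U ⟶ X => S.θ y)).1 h3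

include hB in
/-- Classes of any degree are sections when the members of `B` are acyclic. -/
theorem Sections.bijective_θm_of_acyclic [HasExt.{w} A] (hA : EnoughKInj A)
    [HasLimitsOfShape (Discrete ℕ) (DerivedCategory A)] (X : DerivedCategory A) (m : ℤ)
    (h : ∀ V ∈ B, ∀ (q : ℤ) (d : ℕ), 0 < d → Subsingleton (Abelian.Ext.{w} (S.P.obj V) ((homologyFunctor A q).obj X) d))
    {U : C} (hU : U ∈ B) : Function.Bijective (S.θm m U X) := by
  have h' := S.bijective_θ_of_acyclic B hB hA (X⟦m⟧) (fun V hV q d hd => by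
    exact @subsingleton_ext_of_iso' _ _ _ _ _ _ _ (((homologyFunctor A 0).shiftIso m q (m + q) rfl).app X) d
      (h V hV (m + q) d hd)) hU
  exact ((Iso.homToEquiv (Z := S.P.obj U) ((Functor.shiftIso (homologyFunctor A 0) m 0 m (add_zero m)).app X))).bijective.comp h'

section Rlim

variable {K : ℕ → DerivedCategory A} {t : ∀ n, K (n + 1) ⟶ K n} [HasProduct K] {L : DerivedCategory A}
  {a : ∀ n, L ⟶ K n}

/-- The cone of cohomology objects of a derived limit. -/
noncomputable def homologyCone (hL : CohCx.IsRlimVia K t L a) (m : ℤ) :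
    Cone (CohCx.opSequence (fun n => (homologyFunctor A m).obj (K n)) (fun n => (homologyFunctor A m).map (t n))) where
  pt := (homologyFunctor A m).obj L
  π := NatTrans.ofOpSequence (fun n => (homologyFunctor A m).map (a n)) fun n => by
    simp [← Functor.map_comp, comp_eq_of_isRlimVia K t hL n]

variable (hL : CohCx.IsRlimVia K t L a) (m : ℤ)

include hB in
/-- The cohomology object of a derived limit is the limit, and classes are sections. -/
theorem Sections.isIso_lift_homology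
    [HasLimit (CohCx.opSequence (fun n => (homologyFunctor A m).obj (K n)) (fun n => (homologyFunctor A m).map (t n)))]
    (hbij : ∀ U ∈ B, ∀ n, Function.Bijective (S.θm m U (K n)))
    (hl : ∀ U ∈ B, ∀ z : ∀ n, (singleFunctor A 0).obj (S.P.obj U) ⟶ (K n)⟦m - 1⟧,
      ∃ w : ∀ n, (singleFunctor A 0).obj (S.P.obj U) ⟶ (K n)⟦m - 1⟧, ∀ n, w n - w (n + 1) ≫ (t n)⟦m - 1⟧' = z n) :
    IsIso (limit.lift _ (homologyCone hL m)) ∧ ∀ U ∈ B, Function.Bijective (S.θm m U L) := by
  let ψ : (homologyFunctor A m).obj L ⟶ limit (CohCx.opSequence (fun n => (homologyFunctor A m).obj (K n))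
      (fun n => (homologyFunctor A m).map (t n))) := limit.lift _ (homologyCone hL m)
  have hψ : ∀ n, ψ ≫ limit.π _ (op n) = (homologyFunctor A m).map (a n) := fun n => limit.lift_π _ _
  have hzero : ∀ U ∈ B, ∀ y : (singleFunctor A 0).obj (S.P.obj U) ⟶ L⟦m⟧, S.θm m U L y ≫ ψ = 0 → y = 0 :=
    fun U hU y hy => eq_zero_of_limOne hL m (hl U hU) y fun n => by
      refine (hbij U hU n).1 ?_
      rw [S.θm_comp, S.θm_zero, ← hψ n, ← Category.assoc, hy, zero_comp]
  have hsurj : ∀ U ∈ B, ∀ s : S.P.obj U ⟶ limit _, ∃ y, S.θm m U L y ≫ ψ = s := fun U hU s => by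
    choose x hx using fun n => (hbij U hU n).2 (s ≫ limit.π _ (op n))
    have hs : ∀ n, x (n + 1) ≫ (t n)⟦m⟧' = x n := fun n => by
      refine (hbij U hU n).1 ?_
      rw [S.θm_comp, hx, hx, Category.assoc]
      refine congrArg (s ≫ ·) ?_
      refine Eq.trans ?_ (limit.w (CohCx.opSequence (fun n => (homologyFunctor A m).obj (K n))
        (fun n => (homologyFunctor A m).map (t n))) (homOfLE (Nat.le_succ n)).op)
      simp
    obtain ⟨y, hy⟩ := exists_lift_of_compatible hL m x hs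
    refine ⟨y, limit.hom_ext fun j => ?_⟩
    obtain ⟨n⟩ := j
    rw [Category.assoc, hψ, ← S.θm_comp, hy]
    exact hx n
  haveI : Mono ψ := Preadditive.mono_of_kernel_iso_zero ((S.isZero_of_cover B hB fun V hV x => by
    obtain ⟨T, hT, hl'⟩ := S.exists_local_liftm m (x ≫ kernel.ι ψ)
    obtain ⟨ι, Yc, f, h1, h2, h3⟩ := exists_refinement B hB T hT
    rw [← cancel_mono (kernel.ι ψ), zero_comp]
    refine S.sep _ _ h2 ?_
    rintro W g ⟨_, b, _, ⟨i⟩, rfl⟩
    obtain ⟨y, hy⟩ := hl' (f i) (h1 i)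
    have : y = 0 := hzero _ (h3 i) y (by rw [hy, Category.assoc, Category.assoc, kernel.condition, comp_zero, comp_zero])
    subst this
    rw [S.θm_zero] at hy
    rw [Functor.map_comp, Category.assoc, ← hy, comp_zero]).isoZero)
  haveI : Epi ψ := Preadditive.epi_of_cokernel_iso_zero ((S.isZero_of_cover B hB fun V hV x => by
    obtain ⟨T, hT, hl'⟩ := S.lift (cokernel.π ψ) x
    obtain ⟨ι, Yc, f, h1, h2, h3⟩ := exists_refinement B hB T hT
    refine S.sep _ _ h2 ?_
    rintro W g ⟨_, b, _, ⟨i⟩, rfl⟩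
    obtain ⟨s, hs⟩ := hl' (f i) (h1 i)
    obtain ⟨y, hy⟩ := hsurj _ (h3 i) s
    rw [Functor.map_comp, Category.assoc, ← hs, ← hy, Category.assoc, cokernel.condition, comp_zero, comp_zero]).isoZero)
  refine ⟨isIso_of_mono_of_epi ψ, fun U hU => ⟨fun y y' h => ?_, fun x => ?_⟩⟩
  · rw [← sub_eq_zero]
    exact hzero U hU _ (by rw [S.θm_sub, h, sub_self, zero_comp])
  · obtain ⟨y, hy⟩ := hsurj U hU (x ≫ ψ)
    exact ⟨y, (cancel_mono ψ).1 hy⟩

include hL in
/-- Injectivity on sections of the cohomology object of a derived limit into a stage. -/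
theorem Sections.eq_zero_of_transition_injective (hA : EnoughKInj A) (N : ℕ) {V : C}
    (G : ∀ ⦃W : C⦄, (W ⟶ V) → Prop)
    (hG : ∀ T ∈ J V, ∃ (ι : Type u') (W : ι → C) (f : ∀ i, W i ⟶ V),
      (∀ i, T.arrows (f i)) ∧ Sieve.ofArrows W f ∈ J V ∧ ∀ i, G (f i))
    (hG' : ∀ ⦃W : C⦄ (f : W ⟶ V), G f →
      (∀ z : ∀ n, (singleFunctor A 0).obj (S.P.obj W) ⟶ (K n)⟦m - 1⟧,
        ∃ w : ∀ n, (singleFunctor A 0).obj (S.P.obj W) ⟶ (K n)⟦m - 1⟧, ∀ n, w n - w (n + 1) ≫ (t n)⟦m - 1⟧' = z n) ∧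
      ∀ (k : ℕ) (y : (singleFunctor A 0).obj (S.P.obj W) ⟶ (K (N + k))⟦m⟧),
        y ≫ (CohCx.transition K t N k)⟦m⟧' = 0 → y = 0)
    (x : S.P.obj V ⟶ (homologyFunctor A m).obj L) (hx : x ≫ (homologyFunctor A m).map (a N) = 0) : x = 0 := by
  let σ := Functor.shiftIso (homologyFunctor A 0) m 0 m (add_zero m)
  have hcomp := comp_eq_of_isRlimVia K t hL
  suffices x ≫ σ.inv.app L = 0 by
    rw [← cancel_mono (σ.inv.app L), this, zero_comp]
  refine S.eq_zero_of_dense hA (κ := PUnit) (fun _ => (a N)⟦m⟧') (fun _ => G) (fun T hT => ?_) (fun _ W f hf y hy => ?_) _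
    (fun _ => ?_)
  · obtain ⟨ι, W, f, h1, h2, h3⟩ := hG (T ⟨⟩) (hT _)
    exact ⟨ι, W, f, h2, fun i => ⟨⟨⟩, h1 i, h3 i⟩⟩
  · have htr : ∀ k, a (N + k) ≫ CohCx.transition K t N k = a N := by
      intro k
      induction k with
      | zero => exact Category.comp_id _
      | succ k ih => exact (Category.assoc _ _ _).symm.trans ((congrArg (· ≫ CohCx.transition K t N k) (hcomp (N + k))).trans ih)
    refine eq_zero_of_limOne hL m (hG' f hf).1 y fun n => ?_
    rcases le_total n N with hn | hn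
    · obtain ⟨k, hk⟩ := Nat.exists_eq_add_of_le hn
      clear hn
      induction k generalizing n with
      | zero => obtain rfl : N = n := hk; exact hy
      | succ k ih => rw [← hcomp n, Functor.map_comp, ← Category.assoc]; erw [ih (n + 1) (by omega)]; exact zero_comp
    · obtain ⟨k, rfl⟩ := Nat.exists_eq_add_of_le hn
      refine (hG' f hf).2 k _ ?_
      rw [Category.assoc, ← Functor.map_comp, htr]
      exact hy
  · have hn : σ.inv.app L ≫ (homologyFunctor A 0).map ((a N)⟦m⟧') = (homologyFunctor A m).map (a N) ≫ σ.inv.app (K N) :=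
      (σ.inv.naturality (a N)).symm
    rw [Category.assoc]
    refine (congrArg (x ≫ ·) hn).trans ?_
    rw [← Category.assoc, hx, zero_comp]

end Rlim

end Groth.Agent.SiteDer16
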