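import Groth.Agent.SiteDer16.Devissage

/-!
# Bounded objects with cohomology in weak Serre classes: dévissage for exact functors
-/

set_option autoImplicit false
set_option backward.isDefEq.respectTransparency false
set_option backward.defeqAttrib.useBackward true
set_option linter.all false

universe w w' v v' u u'

open CategoryTheory CategoryTheory.Limits CategoryTheory.Pretriangulated DerivedCategory
open Groth.Agent.DCat

namespace Groth.Agent.SiteDer16

section Triangulated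

variable {T₀ : Type u} [Category.{v} T₀] [Preadditive T₀] [HasZeroObject T₀] [HasShift T₀ ℤ]
  [∀ n : ℤ, (shiftFunctor T₀ n).Additive] [Pretriangulated T₀]
  {T₀' : Type u'} [Category.{v'} T₀'] [Preadditive T₀'] [HasZeroObject T₀'] [HasShift T₀' ℤ]
  [∀ n : ℤ, (shiftFunctor T₀' n).Additive] [Pretriangulated T₀']
  (G : T₀ ⥤ T₀') [G.CommShift ℤ] [G.IsTriangulated]

/-- `G` is bijective on maps from `K` to `L`. -/
def Bij (K L : T₀) : Prop := Function.Bijective (G.map : (K ⟶ L) → (G.obj K ⟶ G.obj L))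

variable {G}

theorem bij_of_iso {K K' L L' : T₀} (e : K ≅ K') (e' : L ≅ L') (h : Bij G K L) : Bij G K' L' := by
  have : (G.map : (K' ⟶ L') → _) =
      ((G.mapIso e).homCongr (G.mapIso e')) ∘ G.map ∘ (e.homCongr e').symm := by
    funext φ
    simp [Iso.homCongr, ← Functor.map_comp]
  change Function.Bijective _
  rw [this]
  exact (Equiv.bijective _).comp (h.comp (Equiv.bijective _))

/-- Five lemma in the second variable. -/
theorem bij_obj₂_right (K : T₀) {T : Triangle T₀} (hT : T ∈ distTriang _)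
    (h₀ : Bij G K (T.invRotate.obj₁)) (h₁ : Bij G K T.obj₁) (h₃ : Bij G K T.obj₃)
    (h₄ : Bij G K (T.obj₁⟦(1 : ℤ)⟧)) : Bij G K T.obj₂ := by
  have hG := G.map_distinguished T hT
  have hGi := inv_rot_of_distTriang _ hG
  refine ⟨(injective_iff_map_eq_zero G.mapAddHom).2 fun φ (hφ : G.map φ = 0) => ?_, fun ψ => ?_⟩
  · have h : φ ≫ T.mor₂ = 0 := h₃.1 (by rw [G.map_comp, hφ, zero_comp, G.map_zero])
    obtain ⟨a, rfl⟩ := Triangle.coyoneda_exact₂ T hT φ h
    obtain ⟨b, hb⟩ := Triangle.coyoneda_exact₂ (G.mapTriangle.obj T).invRotate hGi (G.map a)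
      (show G.map a ≫ G.map T.mor₁ = 0 by rw [← G.map_comp, hφ])
    have hi := G.map_distinguished _ (inv_rot_of_distTriang _ hT)
    obtain ⟨c, hc⟩ := Triangle.coyoneda_exact₂ (G.mapTriangle.obj T.invRotate) hi (G.map a)
      (show G.map a ≫ G.map T.mor₁ = 0 by rw [← G.map_comp, hφ])
    obtain ⟨c', rfl⟩ := h₀.2 c
    have : a = c' ≫ T.invRotate.mor₁ := h₁.1 (by rw [G.map_comp]; exact hc)
    rw [this, Category.assoc]
    exact (congrArg (c' ≫ ·) (comp_distTriang_mor_zero₁₂ _ (inv_rot_of_distTriang _ hT))).trans comp_zero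
  · obtain ⟨a, ha⟩ := h₃.2 (ψ ≫ G.map T.mor₂)
    have h : a ≫ T.mor₃ = 0 := h₄.1 (by
      rw [G.map_comp, ha, G.map_zero, Category.assoc, ← G.map_comp, comp_distTriang_mor_zero₂₃ _ hT,
        G.map_zero, comp_zero])
    obtain ⟨b, rfl⟩ := Triangle.coyoneda_exact₃ T hT a h
    obtain ⟨c, hc⟩ := Triangle.coyoneda_exact₂ (G.mapTriangle.obj T) hG (ψ - G.map b)
      (show (ψ - G.map b) ≫ G.map T.mor₂ = 0 by
        rw [Preadditive.sub_comp, ← ha, G.map_comp, sub_self])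
    obtain ⟨c', rfl⟩ := h₁.2 c
    refine ⟨b + c' ≫ T.mor₁, ?_⟩
    rw [G.map_add, G.map_comp]
    exact eq_add_of_sub_eq' hc |>.symm

/-- Five lemma in the first variable. -/
theorem bij_obj₂_left (L : T₀) {T : Triangle T₀} (hT : T ∈ distTriang _)
    (h₀ : Bij G (T.obj₁⟦(1 : ℤ)⟧) L) (h₁ : Bij G T.obj₁ L) (h₃ : Bij G T.obj₃ L)
    (h₄ : Bij G T.invRotate.obj₁ L) : Bij G T.obj₂ L := by
  have hG := G.map_distinguished T hT
  refine ⟨(injective_iff_map_eq_zero G.mapAddHom).2 fun φ (hφ : G.map φ = 0) => ?_, fun ψ => ?_⟩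
  · have h : T.mor₁ ≫ φ = 0 := h₁.1 (by rw [G.map_comp, hφ, comp_zero, G.map_zero])
    obtain ⟨a, rfl⟩ := Triangle.yoneda_exact₂ T hT φ h
    obtain ⟨c, hc⟩ := Triangle.yoneda_exact₂ _ (G.map_distinguished _ (rot_of_distTriang _ hT)) (G.map a)
      (show G.map T.mor₂ ≫ G.map a = 0 by rw [← G.map_comp, hφ])
    obtain ⟨c', rfl⟩ := h₀.2 c
    have : a = T.mor₃ ≫ c' := h₃.1 (by rw [G.map_comp]; exact hc)
    rw [this, ← Category.assoc, comp_distTriang_mor_zero₂₃ _ hT, zero_comp]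
  · obtain ⟨a, ha⟩ := h₁.2 (G.map T.mor₁ ≫ ψ)
    have h : T.invRotate.mor₁ ≫ a = 0 := h₄.1 (by
      rw [G.map_comp, ha, G.map_zero, ← Category.assoc, ← G.map_comp]
      rw [show T.invRotate.mor₁ ≫ T.mor₁ = 0 from comp_distTriang_mor_zero₁₂ _ (inv_rot_of_distTriang _ hT),
        G.map_zero, zero_comp])
    obtain ⟨b', hb⟩ := Triangle.yoneda_exact₂ _ (inv_rot_of_distTriang _ hT) a h
    let b : T.obj₂ ⟶ L := b'
    have hb' : a = T.mor₁ ≫ b := hb
    obtain ⟨c, hc⟩ := Triangle.yoneda_exact₂ (G.mapTriangle.obj T) hG (ψ - G.map b)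
      (show G.map T.mor₁ ≫ (ψ - G.map b) = 0 by
        rw [Preadditive.comp_sub, ← ha, hb', G.map_comp, sub_self])
    obtain ⟨c', rfl⟩ := h₃.2 c
    refine ⟨b + T.mor₂ ≫ c', ?_⟩
    rw [G.map_add, G.map_comp]
    exact eq_add_of_sub_eq' hc |>.symm

theorem bij_shift {K L : T₀} (n : ℤ) (h : Bij G K L) : Bij G (K⟦n⟧) (L⟦n⟧) := by
  have e : (fun φ : K ⟶ L => G.map (φ⟦n⟧')) =
      ((G.commShiftIso n).app K).symm.homCongr ((G.commShiftIso n).app L).symm ∘
        (shiftFunctor T₀' n).map ∘ G.map := by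
    funext φ
    have := (G.commShiftIso n).hom.naturality φ
    simp only [Function.comp_apply, Iso.homCongr, Equiv.coe_fn_mk, Iso.symm_hom, Iso.symm_inv,
      Iso.app_hom, Iso.app_inv]
    simp only [Functor.comp_map] at this ⊢
    rw [← reassoc_of% this]
    simp
  have : Function.Bijective (fun φ : K ⟶ L => G.map (φ⟦n⟧')) := by
    rw [e]
    exact (Equiv.bijective _).comp (((Functor.FullyFaithful.ofFullyFaithful (shiftFunctor T₀' n)).map_bijective _ _).comp h)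
  exact (Function.Bijective.of_comp_iff G.map ((Functor.FullyFaithful.ofFullyFaithful (shiftFunctor T₀ n)).map_bijective K L)).1 this

end Triangulated

variable {A : Type u} [Category.{v} A] [Abelian A] [HasDerivedCategory.{w} A]
  {B : Type u'} [Category.{v'} B] [Abelian B] [HasDerivedCategory.{w'} B]

/-- Induction on bounded objects with cohomology in `P`. -/
theorem induction_cohInBdd (P : ObjectProperty A) [WSerre.IsWeakSerre P]
    (S : DerivedCategory A → Prop) (hiso : ∀ {X Y : DerivedCategory A}, (X ≅ Y) → S X → S Y)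
    (hzero : ∀ X, IsZero X → S X)
    (hext : ∀ T : Triangle (DerivedCategory A), T ∈ distTriang _ → WSerre.cohInBdd P T.obj₁ →
      WSerre.cohInBdd P T.obj₃ → S T.obj₁ → S T.obj₃ → S T.obj₂)
    (hsingle : ∀ (M : A) (n : ℤ), P M → S (((singleFunctor A 0).obj M)⟦n⟧))
    (X : DerivedCategory A) (hX : WSerre.cohInBdd P X) : S X := by
  obtain ⟨hX, ⟨a, ha⟩, ⟨b, hb⟩⟩ := hX
  have hP : ∀ Z : A, IsZero Z → P Z := fun Z hZ => by
    obtain ⟨Z', hZ', hPZ'⟩ := P.exists_prop_of_containsZero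
    exact P.prop_of_iso (hZ'.iso hZ) hPZ'
  haveI : X.IsGE a := ha
  haveI : X.IsLE b := hb
  let t : Triangulated.TStructure (DerivedCategory A) := DerivedCategory.TStructure.t
  suffices ∀ (n : ℕ) (Y : DerivedCategory A), Y.IsGE a → Y.IsLE (a + n - 1) →
      WSerre.cohIn P Y → S Y from
    this (b - a + 1).toNat X inferInstance (t.isLE_of_le X b _ (by omega)) hX
  intro n
  induction n with
  | zero =>
    intro Y _ _ _
    exact hzero Y (WayOut.isZero_of_isGE_of_isLE Y a (a + ((0 : ℕ) : ℤ) - 1) (by omega))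
  | succ n ih =>
    intro Y hge hle hY
    let c : ℤ := a + n
    have hlt : (t.truncLT c |>.obj Y).IsLE (a + n - 1) := t.isLE_truncLT_obj _ _ _ (by omega)
    have hlt' : (t.truncLT c |>.obj Y).IsGE a := inferInstance
    have h3 : WSerre.cohIn P (t.truncGE c |>.obj Y) := WayOut.prop_homology_truncGE P hP Y c hY
    have h1 : WSerre.cohIn P (t.truncLT c |>.obj Y) := WayOut.prop_homology_truncLT P hP Y c hY
    have : Y.IsLE c := t.isLE_of_le Y (a + (n + 1 : ℕ) - 1) _ (by omega)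
    have hge3 : (t.truncGE c |>.obj Y).IsGE c := inferInstance
    have hle3 : (t.truncGE c |>.obj Y).IsLE c := inferInstance
    refine hext _ (t.triangleLTGE_distinguished c Y) ⟨h1, ⟨a, hlt'⟩, ⟨_, hlt⟩⟩
      ⟨h3, ⟨c, hge3⟩, ⟨c, hle3⟩⟩ (ih _ hlt' hlt h1) ?_
    obtain ⟨M, ⟨e⟩⟩ := exists_iso_singleFunctor_obj_of_isGE_of_isLE (t.truncGE c |>.obj Y) c
    exact hiso (e ≪≫ WayOut.singleIso M c).symm (hsingle M (-c) (P.prop_of_iso (((homologyFunctor A c).mapIso e) ≪≫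
      (singleFunctorCompHomologyFunctorIso A c).app M) (h3 c)))

theorem cohInBdd_zero (P : ObjectProperty A) [WSerre.IsWeakSerre P] {X : DerivedCategory A} (hX : IsZero X) :
    WSerre.cohInBdd P X :=
  ⟨cohIn_zero P hX, ⟨0, (DerivedCategory.TStructure.t).isGE_of_isZero hX 0⟩,
    ⟨0, (DerivedCategory.TStructure.t).isLE_of_isZero hX 0⟩⟩

theorem cohInBdd_shift (P : ObjectProperty A) [WSerre.IsWeakSerre P] {X : DerivedCategory A} (n : ℤ)
    (h : WSerre.cohInBdd P X) : WSerre.cohInBdd P (X⟦n⟧) :=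
  ⟨cohIn_shift P n h.1, (DerivedCategory.TStructure.t (C := A)).bounded.le_shift n _ h.2⟩

theorem cohInBdd_obj₂ (P : ObjectProperty A) [WSerre.IsWeakSerre P] {T : Triangle (DerivedCategory A)}
    (hT : T ∈ distTriang _) (h₁ : WSerre.cohInBdd P T.obj₁) (h₃ : WSerre.cohInBdd P T.obj₃) :
    WSerre.cohInBdd P T.obj₂ :=
  ⟨cohIn_obj₂ P hT h₁.1 h₃.1, (DerivedCategory.TStructure.t (C := A)).bounded.ext_of_isTriangulatedClosed₂ T hT h₁.2 h₃.2⟩

variable (G : A ⥤ B) [G.Additive] [PreservesFiniteLimits G] [PreservesFiniteColimits G]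
  (P : ObjectProperty A) [WSerre.IsWeakSerre P] (P' : ObjectProperty B) [WSerre.IsWeakSerre P']

/-- An exact functor sends bounded objects to bounded objects. -/
theorem cohInBdd_map (h : ∀ M : A, P M → P' (G.obj M)) {X : DerivedCategory A} (hX : WSerre.cohInBdd P X) :
    WSerre.cohInBdd P' (G.mapDerivedCategory.obj X) := by
  obtain ⟨hX, ⟨a, ha⟩, ⟨b, hb⟩⟩ := hX
  haveI : X.IsGE a := ha
  haveI : X.IsLE b := hb
  exact ⟨cohIn_map G P P' h hX, ⟨a, isGE_map G⟩, ⟨b, isLE_map G⟩⟩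

theorem bij_cohInBdd (h : ∀ (M N : A), P M → P N → ∀ n : ℤ,
      Bij G.mapDerivedCategory ((singleFunctor A 0).obj M) (((singleFunctor A 0).obj N)⟦n⟧))
    (K L : DerivedCategory A) (hK : WSerre.cohInBdd P K) (hL : WSerre.cohInBdd P L) :
    Bij G.mapDerivedCategory K L := by
  have hz : ∀ (X Y : DerivedCategory A), IsZero X → Bij G.mapDerivedCategory X Y := fun X Y hX =>
    ⟨fun a b _ => hX.eq_of_src a b, fun ψ => ⟨0, (G.mapDerivedCategory.map_isZero hX).eq_of_src _ _⟩⟩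
  have hz' : ∀ (X Y : DerivedCategory A), IsZero Y → Bij G.mapDerivedCategory X Y := fun X Y hY =>
    ⟨fun a b _ => hY.eq_of_tgt a b, fun ψ => ⟨0, (G.mapDerivedCategory.map_isZero hY).eq_of_tgt _ _⟩⟩
  have h1 : ∀ (M : A), P M → ∀ (n : ℤ) (L : DerivedCategory A), WSerre.cohInBdd P L →
      ∀ m : ℤ, Bij G.mapDerivedCategory (((singleFunctor A 0).obj M)⟦n⟧) (L⟦m⟧) := by
    intro M hM n L hL
    refine induction_cohInBdd P (fun L => ∀ m : ℤ, Bij G.mapDerivedCategory _ (L⟦m⟧)) ?_ ?_ ?_ ?_ L hL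
    · exact fun e hX m => bij_of_iso (Iso.refl _) ((shiftFunctor _ m).mapIso e) (hX m)
    · exact fun X hX m => hz' _ _ ((shiftFunctor _ m).map_isZero hX)
    · intro T hT _ _ s₁ s₃ m
      exact bij_obj₂_right _ (Triangle.shift_distinguished T hT m)
        (bij_of_iso (Iso.refl _) ((shiftFunctorAdd' (DerivedCategory A) m (-1) (m - 1) (by omega)).app T.obj₃) (s₃ (m - 1)))
        (s₁ m) (s₃ m)
        (bij_of_iso (Iso.refl _) ((shiftFunctorAdd' (DerivedCategory A) m 1 (m + 1) rfl).app T.obj₁) (s₁ (m + 1)))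
    · intro N k hN m
      refine bij_of_iso (Iso.refl _) ?_ (bij_shift n (h M N hM hN (k + m - n)))
      exact ((shiftFunctorAdd' (DerivedCategory A) (k + m - n) n (k + m) (by omega)).app _).symm ≪≫
        (shiftFunctorAdd' (DerivedCategory A) k m (k + m) rfl).app _
  refine induction_cohInBdd P (fun K => ∀ L, WSerre.cohInBdd P L → Bij G.mapDerivedCategory K L)
    ?_ ?_ ?_ ?_ K hK L hL
  · exact fun e hX L hL => bij_of_iso e (Iso.refl _) (hX L hL)
  · exact fun X hX L _ => hz _ _ hX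
  · intro T hT _ _ s₁ s₃ L hL
    refine bij_obj₂_left L hT ?_ (s₁ L hL) (s₃ L hL) ?_
    · exact bij_of_iso (Iso.refl _) ((shiftFunctorCompIsoId (DerivedCategory A) (-1) 1 (by omega)).app L)
        (bij_shift 1 (s₁ _ (cohInBdd_shift P (-1) hL)))
    · exact bij_of_iso (Iso.refl _) ((shiftFunctorCompIsoId (DerivedCategory A) 1 (-1) (by omega)).app L)
        (bij_shift (-1) (s₃ _ (cohInBdd_shift P 1 hL)))
  · exact fun M n hM L hL => bij_of_iso (Iso.refl _) ((shiftFunctorZero (DerivedCategory A) ℤ).app L) (h1 M hM n L hL 0)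

theorem essSurj_cohInBdd (h : ∀ M : A, P M → P' (G.obj M))
    (hs : ∀ N : B, P' N → ∃ M : A, P M ∧ Nonempty (G.obj M ≅ N))
    (hb : ∀ K L, WSerre.cohInBdd P K → WSerre.cohInBdd P L → Bij G.mapDerivedCategory K L)
    (X : DerivedCategory B) (hX : WSerre.cohInBdd P' X) :
    ∃ K, WSerre.cohInBdd P K ∧ Nonempty (G.mapDerivedCategory.obj K ≅ X) := by
  refine induction_cohInBdd P' (fun X => ∃ K, WSerre.cohInBdd P K ∧ Nonempty (G.mapDerivedCategory.obj K ≅ X))
    ?_ ?_ ?_ ?_ X hX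
  · rintro X Y e ⟨K, hK, ⟨e'⟩⟩
    exact ⟨K, hK, ⟨e' ≪≫ e⟩⟩
  · intro X hX
    obtain ⟨Z, hZ⟩ := (inferInstance : HasZeroObject (DerivedCategory A)).zero
    exact ⟨Z, cohInBdd_zero P hZ, ⟨(G.mapDerivedCategory.map_isZero hZ).iso hX⟩⟩
  · rintro T hT _ _ ⟨K₁, hK₁, ⟨e₁⟩⟩ ⟨K₃, hK₃, ⟨e₃⟩⟩
    let F := G.mapDerivedCategory
    obtain ⟨d, hd⟩ := (hb K₃ (K₁⟦(1 : ℤ)⟧) hK₃ (cohInBdd_shift P 1 hK₁)).2
      (e₃.hom ≫ T.mor₃ ≫ e₁.inv⟦(1 : ℤ)⟧' ≫ (F.commShiftIso (1 : ℤ)).inv.app K₁)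
    obtain ⟨K₂, f, g, hK⟩ := distinguished_cocone_triangle₂ d
    let T' := Triangle.mk f g d
    refine ⟨K₂, cohInBdd_obj₂ P (T := T') hK hK₁ hK₃, ?_⟩
    obtain ⟨φ, hφ⟩ := exists_iso_of_arrow_iso (F.mapTriangle.obj T').rotate.rotate T.rotate.rotate
      (rot_of_distTriang _ (rot_of_distTriang _ (F.map_distinguished _ hK)))
      (rot_of_distTriang _ (rot_of_distTriang _ hT))
      (Arrow.isoMk e₃ ((shiftFunctor _ (1 : ℤ)).mapIso e₁) (by
        change e₃.hom ≫ T.mor₃ = (F.map d ≫ (F.commShiftIso (1 : ℤ)).hom.app K₁) ≫ e₁.hom⟦(1 : ℤ)⟧'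
        rw [hd]
        simp only [Category.assoc, Iso.inv_hom_id_app_assoc, ← Functor.map_comp, Iso.inv_hom_id]
        simp))
    let e' : (F.obj K₂)⟦(1 : ℤ)⟧ ≅ T.obj₂⟦(1 : ℤ)⟧ := Triangle.π₃.mapIso φ
    exact ⟨(shiftFunctor _ (1 : ℤ)).preimageIso e'⟩
  · intro N n hN
    obtain ⟨M, hM, ⟨e⟩⟩ := hs N hN
    refine ⟨((singleFunctor A 0).obj M)⟦n⟧, cohInBdd_shift P n
      ⟨cohIn_single P M hM, ⟨0, inferInstance⟩, ⟨0, inferInstance⟩⟩, ⟨?_⟩⟩
    exact (G.mapDerivedCategory.commShiftIso n).app _ ≪≫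
      (shiftFunctor _ n).mapIso ((G.mapDerivedCategorySingleFunctor 0).app M ≪≫ (singleFunctor B 0).mapIso e)

end Groth.Agent.SiteDer16
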