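import Groth.Agent.SiteDer16.RlimCore

/-! An object is the derived limit of its truncations under local bounded vanishing. -/

set_option autoImplicit false
set_option backward.isDefEq.respectTransparency false
set_option backward.defeqAttrib.useBackward true

universe w v u w'

open CategoryTheory CategoryTheory.Limits CategoryTheory.Pretriangulated DerivedCategory
open Groth.Agent.DCat

namespace Groth.Agent.SiteDer16

section General

variable {T : Type u} [Category.{v} T] [Preadditive T] [HasShift T ℤ] [∀ n : ℤ, (shiftFunctor T n).Additive]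

/-- Cancellation against a shifted morphism. -/
theorem eq_zero_of_comp_shift_eq_zero {X L K : T} (f : L ⟶ K) (m : ℤ)
    (h : ∀ y : X⟦-m⟧ ⟶ L, y ≫ f = 0 → y = 0) (y : X ⟶ L⟦m⟧) (hy : y ≫ f⟦m⟧' = 0) : y = 0 := by
  let eL := (shiftFunctorCompIsoId T m (-m) (by omega)).app L
  have h1 : y⟦-m⟧' ≫ eL.hom = 0 := by
    refine h _ ?_
    have hn := (shiftFunctorCompIsoId T m (-m) (by omega)).hom.naturality f
    dsimp at hn
    rw [Category.assoc, show eL.hom ≫ f = f⟦m⟧'⟦-m⟧' ≫ (shiftFunctorCompIsoId T m (-m) (by omega)).hom.app K from hn.symm,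
      ← Category.assoc, ← Functor.map_comp, hy, Functor.map_zero, zero_comp]
  apply (shiftFunctor T (-m)).map_injective
  rw [Functor.map_zero, ← cancel_mono eL.hom, h1, zero_comp]

/-- Lifting through a shifted morphism. -/
theorem surjective_comp_shift {X L K : T} (f : L ⟶ K) (m : ℤ)
    (h : Function.Surjective (fun y : X⟦-m⟧ ⟶ L => y ≫ f)) :
    Function.Surjective (fun y : X ⟶ L⟦m⟧ => y ≫ f⟦m⟧') := fun z => by
  let eK := (shiftFunctorCompIsoId T m (-m) (by omega)).app K
  let eX := (shiftFunctorCompIsoId T (-m) m (by omega)).app X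
  obtain ⟨y, hy⟩ := h (z⟦-m⟧' ≫ eK.hom)
  refine ⟨eX.inv ≫ y⟦m⟧', ?_⟩
  show (eX.inv ≫ y⟦m⟧') ≫ f⟦m⟧' = z
  rw [Category.assoc, ← Functor.map_comp, show y ≫ f = _ from hy, Functor.map_comp, Iso.inv_comp_eq]
  have e : (shiftFunctor T m).map eK.hom = (shiftFunctorCompIsoId T (-m) m (by omega)).hom.app (K⟦m⟧) :=
    shift_shiftFunctorCompIsoId_hom_app _ _ _ _
  rw [e]
  exact (shiftFunctorCompIsoId T (-m) m (by omega)).hom.naturality z

end General

variable {C : Type w'} [SmallCategory C] {J : GrothendieckTopology C}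

theorem subsingleton_ext_of_isZero {A : Type u} [Category.{v} A] [Abelian A] [HasExt.{w} A] (X : A) {Y : A}
    (hY : IsZero Y) (d : ℕ) : Subsingleton (Abelian.Ext.{w} X Y d) :=
  ⟨fun x y => by
    have : ∀ x : Abelian.Ext.{w} X Y d, x = 0 := fun x => by
      rw [← Abelian.Ext.comp_mk₀_id x, hY.eq_of_src (𝟙 Y) 0, Abelian.Ext.mk₀_zero, Abelian.Ext.comp_zero]
    rw [this x, this y]⟩

theorem subsingleton_ext_of_iso' {A : Type u} [Category.{v} A] [Abelian A] [HasExt.{w} A] (X : A) {Y Y' : A}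
    (e : Y ≅ Y') (d : ℕ) [Subsingleton (Abelian.Ext.{w} X Y' d)] : Subsingleton (Abelian.Ext.{w} X Y d) :=
  ⟨fun x y => by
    have : ∀ x : Abelian.Ext.{w} X Y d, x = 0 := fun x => by
      have h1 : (x.comp (Abelian.Ext.mk₀ e.hom) (add_zero d)).comp (Abelian.Ext.mk₀ e.inv) (add_zero d) = x := by
        simp
      rw [← h1, Subsingleton.elim (x.comp (Abelian.Ext.mk₀ e.hom) (add_zero d)) 0, Abelian.Ext.zero_comp]
    rw [this x, this y]⟩

variable {A : Type (u + 1)} [Category.{u} A] [Abelian A] [HasDerivedCategory.{w} A] (S : Sections J A)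

/-- Injectivity of the cohomology of a derived limit into a stage, tested locally. -/
theorem mono_homology_of_local (hA : EnoughKInj A) {L : DerivedCategory A} {K : ℕ → DerivedCategory A}
    (t : ∀ n, K (n + 1) ⟶ K n) [HasProduct K] {a : ∀ n, L ⟶ K n} (hL : CohCx.IsRlimVia K t L a)
    (B : Set C) (hB : ∀ {F : A}, (∀ V ∈ B, ∀ x : S.P.obj V ⟶ F, x = 0) → IsZero F) (m : ℤ) (N₀ : ℕ)
    (ht : ∀ n, N₀ ≤ n → Mono ((homologyFunctor A m).map (t n)))
    (h : ∀ V ∈ B, ∃ (κ : Type w') (N : κ → ℕ) (G : κ → ∀ ⦃W : C⦄, (W ⟶ V) → Prop),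
      (∀ T : κ → Sieve V, (∀ j, T j ∈ J V) → ∃ (ι : Type w') (W : ι → C) (f : ∀ i, W i ⟶ V),
        Sieve.ofArrows W f ∈ J V ∧ ∀ i, ∃ j, (T j).arrows (f i) ∧ G j (f i)) ∧
      ∀ j, N₀ ≤ N j ∧ ∀ ⦃W : C⦄ (f : W ⟶ V), G j f →
        (∀ n, N j ≤ n → Function.Bijective (fun y : (S.pt.obj W)⟦-m⟧ ⟶ K (n + 1) => y ≫ t n)) ∧
        (∀ n, N j ≤ n → Function.Surjective (fun y : ((S.pt.obj W)⟦-m⟧)⟦(1 : ℤ)⟧ ⟶ K (n + 1) => y ≫ t n))) :
    Mono ((homologyFunctor A m).map (a N₀)) := by
  have hcomp := comp_eq_of_isRlimVia K t hL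
  refine Preadditive.mono_of_kernel_iso_zero ((hB fun V hV x => ?_).isoZero)
  obtain ⟨κ, N, G, hG, hG'⟩ := h V hV
  let x' : S.P.obj V ⟶ (homologyFunctor A m).obj L := x ≫ kernel.ι _
  have h0 : ∀ n, N₀ ≤ n → x' ≫ (homologyFunctor A m).map (a n) = 0 := by
    intro n hn
    induction n, hn using Nat.le_induction with
    | base => simp [x']
    | succ n hn ih =>
      haveI := ht n hn
      rw [← cancel_mono ((homologyFunctor A m).map (t n)), zero_comp, Category.assoc, ← Functor.map_comp, hcomp, ih]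
  let σ := Functor.shiftIso (homologyFunctor A 0) m 0 m (add_zero m)
  let e : (homologyFunctor A 0).obj (L⟦m⟧) ≅ (homologyFunctor A m).obj L := σ.app L
  have hx : x' ≫ e.inv = 0 := by
    refine S.eq_zero_of_dense hA (fun j => (a (N j))⟦m⟧') G hG (fun j W f hf y hy => ?_) _ fun j => ?_
    · refine eq_zero_of_comp_shift_eq_zero (a (N j)) m (fun z hz => ?_) y hy
      exact (bijective_comp_of_isRlimVia K t _ (N j) hL ((hG' j).2 f hf).1 ((hG' j).2 f hf).2).1 (by simpa using hz)
    · have hn : σ.inv.app L ≫ (homologyFunctor A 0).map ((a (N j))⟦m⟧') =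
          (homologyFunctor A m).map (a (N j)) ≫ σ.inv.app (K (N j)) := (σ.inv.naturality (a (N j))).symm
      rw [Category.assoc]
      refine (congrArg (x' ≫ ·) hn).trans ?_
      rw [← Category.assoc, h0 (N j) (hG' j).1, zero_comp]
  rw [← cancel_mono (kernel.ι ((homologyFunctor A m).map (a N₀))), zero_comp]
  exact (cancel_mono e.inv).1 (hx.trans zero_comp.symm)

section Trunc

variable (E : DerivedCategory A)

local notation "t₀" => DerivedCategory.TStructure.t (C := A)

theorem isIso_homology_truncGEπ (b q : ℤ) (hq : b ≤ q) :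
    IsIso ((homologyFunctor A q).map (((t₀).truncGEπ b).app E)) := by
  haveI := epi_homology_truncGEπ E b q
  haveI : Mono ((homologyFunctor A q).map (((t₀).truncGEπ b).app E)) := by
    refine (HomologySequence.mono_homologyMap_mor₂_iff _ ((t₀).triangleLTGE_distinguished b E) q).2 ?_
    haveI : ((t₀).truncLT b |>.obj E).IsLE (b - 1) := (t₀).isLE_truncLT_obj _ _ _ (by omega)
    exact (isZero_of_isLE _ (b - 1) q (by omega)).eq_of_src _ _
  exact isIso_of_mono_of_epi _

theorem toTruncTower_comp (n : ℕ) : CohCx.toTruncTower E (n + 1) ≫ CohCx.truncTowerMap E n = CohCx.toTruncTower E n :=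
  (t₀).π_natTransTruncGEOfLE_app _ _ _ E

theorem isIso_homology_truncTowerMap (n : ℕ) (q : ℤ) (hq : -(n : ℤ) ≤ q) :
    IsIso ((homologyFunctor A q).map (CohCx.truncTowerMap E n)) := by
  haveI := isIso_homology_truncGEπ E (-((n + 1 : ℕ) : ℤ)) q (by omega)
  haveI := isIso_homology_truncGEπ E (-(n : ℤ)) q hq
  exact IsIso.of_isIso_fac_left (f := (homologyFunctor A q).map (CohCx.toTruncTower E (n + 1)))
    (((homologyFunctor A q).map_comp _ _).symm.trans (congrArg _ (toTruncTower_comp E n)))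

theorem epi_homology_truncTowerMap (n : ℕ) (q : ℤ) : Epi ((homologyFunctor A q).map (CohCx.truncTowerMap E n)) := by
  haveI := epi_homology_truncGEπ E (-(n : ℤ)) q
  exact epi_of_epi_fac (((homologyFunctor A q).map_comp _ _).symm.trans (congrArg _ (toTruncTower_comp E n)))

theorem exists_cone_truncTowerMap (n : ℕ) :
    ∃ (Z : DerivedCategory A) (g : CohCx.truncTower E n ⟶ Z) (d : Z ⟶ (CohCx.truncTower E (n + 1))⟦(1 : ℤ)⟧),
      Triangle.mk (CohCx.truncTowerMap E n) g d ∈ distTriang _ ∧ Z.IsGE (-(n : ℤ) - 2) ∧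
        (∀ q, q ≠ -(n : ℤ) - 2 → IsZero ((homologyFunctor A q).obj Z)) ∧
        Nonempty ((homologyFunctor A (-(n : ℤ) - 2)).obj Z ≅ (homologyFunctor A (-(n : ℤ) - 1)).obj E) := by
  obtain ⟨Z, g, d, hT⟩ := distinguished_cocone_triangle (CohCx.truncTowerMap E n)
  have hK : ∀ (k : ℕ) (q : ℤ), q < -(k : ℤ) → IsZero ((homologyFunctor A q).obj (CohCx.truncTower E k)) :=
    fun k q hq => isZero_of_isGE ((t₀).truncGE (-(k : ℤ)) |>.obj E) (-(k : ℤ)) q hq
  have hz : ∀ q, q ≠ -(n : ℤ) - 2 → IsZero ((homologyFunctor A q).obj Z) := fun q hq => by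
    refine (HomologySequence.exact₃ _ hT q (q + 1) rfl).isZero_of_both_zeros ?_ ?_
    · haveI := epi_homology_truncTowerMap E n q
      exact (HomologySequence.epi_homologyMap_mor₁_iff _ hT q).1 this
    · haveI : Mono ((homologyFunctor A (q + 1)).map (CohCx.truncTowerMap E n)) := by
        rcases le_or_gt (-(n : ℤ)) (q + 1) with h | h
        · haveI := isIso_homology_truncTowerMap E n (q + 1) h
          infer_instance
        · exact ⟨fun u v _ => (hK (n + 1) (q + 1) (by omega)).eq_of_tgt u v⟩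
      exact (HomologySequence.mono_homologyMap_mor₁_iff _ hT q (q + 1) rfl).1 this
  refine ⟨Z, g, d, hT, ?_, hz, ?_⟩
  · exact (DerivedCategory.isGE_iff _ _).2 fun i hi => hz i (by omega)
  · haveI hmono : Mono (HomologySequence.δ (Triangle.mk (CohCx.truncTowerMap E n) g d) (-(n : ℤ) - 2) (-(n : ℤ) - 1) (by omega)) :=
      (HomologySequence.exact₃ _ hT (-(n : ℤ) - 2) (-(n : ℤ) - 1) (by omega)).mono_g
        ((hK n (-(n : ℤ) - 2) (by omega)).eq_of_src _ _)
    haveI hepi : Epi (HomologySequence.δ (Triangle.mk (CohCx.truncTowerMap E n) g d) (-(n : ℤ) - 2) (-(n : ℤ) - 1) (by omega)) :=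
      (HomologySequence.exact₁ _ hT (-(n : ℤ) - 2) (-(n : ℤ) - 1) (by omega)).epi_f
        ((hK n (-(n : ℤ) - 1) (by omega)).eq_of_tgt _ _)
    haveI := isIso_homology_truncGEπ E (-((n + 1 : ℕ) : ℤ)) (-(n : ℤ) - 1) (by omega)
    exact ⟨(@asIso _ _ _ _ _ (isIso_of_mono_of_epi (HomologySequence.δ (Triangle.mk (CohCx.truncTowerMap E n) g d) (-(n : ℤ) - 2) (-(n : ℤ) - 1) _))) ≪≫
      (asIso ((homologyFunctor A (-(n : ℤ) - 1)).map (CohCx.toTruncTower E (n + 1)))).symm⟩

/-- An object is the derived limit of its truncations. -/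
theorem isRlimVia_truncTower [HasExt.{w} A] (hA : EnoughKInj A) [HasProduct (CohCx.truncTower E)] (B : Set C)
    (hB : ∀ {F : A}, (∀ V ∈ B, ∀ x : S.P.obj V ⟶ F, x = 0) → IsZero F)
    (h : ∀ V ∈ B, ∃ (κ : Type w') (p : κ → ℤ → ℤ), ∀ T : κ → Sieve V, (∀ j, T j ∈ J V) →
      ∃ (ι : Type w') (Y : ι → C) (f : ∀ i, Y i ⟶ V), Sieve.ofArrows Y f ∈ J V ∧
      ∀ i, ∃ j, (T j).arrows (f i) ∧ ∀ (m : ℤ) (k : ℕ), p j m < k →
        Subsingleton (Abelian.Ext.{w} (S.P.obj (Y i)) ((homologyFunctor A (m - k)).obj E) k)) :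
    CohCx.IsRlimVia (CohCx.truncTower E) (CohCx.truncTowerMap E) E (CohCx.toTruncTower E) := by
  let D : (∏ᶜ CohCx.truncTower E) ⟶ ∏ᶜ CohCx.truncTower E :=
    Pi.lift fun n => Pi.π _ n - Pi.π _ (n + 1) ≫ CohCx.truncTowerMap E n
  obtain ⟨L, f, c, hT⟩ := distinguished_cocone_triangle₁ D
  let a : ∀ n, L ⟶ CohCx.truncTower E n := fun n => f ≫ Pi.π _ n
  have hf : f = Pi.lift a := Pi.hom_ext _ _ fun n => by simp [a]
  have hL : CohCx.IsRlimVia (CohCx.truncTower E) (CohCx.truncTowerMap E) L a := ⟨c, hf ▸ hT⟩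
  obtain ⟨φ, hφ⟩ := Triangle.coyoneda_exact₂ _ hT (Pi.lift (CohCx.toTruncTower E)) (Pi.hom_ext _ _ fun n => by
    simp [D, Preadditive.comp_sub, toTruncTower_comp E n])
  have hφn : ∀ n, φ ≫ a n = CohCx.toTruncTower E n := fun n => by
    have := hφ =≫ Pi.π _ n
    simp only [Category.assoc, Pi.lift_π, Triangle.mk_mor₁] at this
    exact this.symm
  haveI : IsIso φ := by
    rw [DerivedCategory.isIso_iff]
    intro m
    let N₀ := (-m).toNat
    haveI := isIso_homology_truncGEπ E (-(N₀ : ℤ)) m (by omega)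
    have e : (homologyFunctor A m).map φ ≫ (homologyFunctor A m).map (a N₀) =
        (homologyFunctor A m).map (CohCx.toTruncTower E N₀) := by rw [← Functor.map_comp, hφn]
    haveI : Mono ((homologyFunctor A m).map (a N₀)) := by
      refine mono_homology_of_local S hA (CohCx.truncTowerMap E) hL B hB m N₀ (fun n hn => ?_) fun V hV => ?_
      · haveI := isIso_homology_truncTowerMap E n m (by omega)
        infer_instance
      obtain ⟨κ, q', hp⟩ := h V hV
      refine ⟨κ, fun j => max ((max (q' j m) (q' j (m + 1)) - m).toNat) N₀, fun j {W} _ => ∀ (m : ℤ) (k : ℕ), q' j m < k →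
        Subsingleton (Abelian.Ext.{w} (S.P.obj W) ((homologyFunctor A (m - k)).obj E) k), hp, fun j => ⟨le_max_right _ _,
        fun W _ hW => ?_⟩⟩
      have hv : ∀ (k : ℤ) (n : ℕ), (k = m ∨ k = m - 1) → max ((max (q' j m) (q' j (m + 1)) - m).toNat) N₀ ≤ n →
          ∀ {Z : DerivedCategory A}, Z.IsGE (-(n : ℤ) - 2) →
          (∀ q, q ≠ -(n : ℤ) - 2 → IsZero ((homologyFunctor A q).obj Z)) →
          Nonempty ((homologyFunctor A (-(n : ℤ) - 2)).obj Z ≅ (homologyFunctor A (-(n : ℤ) - 1)).obj E) →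
          ∀ g : (S.pt.obj W)⟦-k⟧ ⟶ Z, g = 0 := by
        intro k n hk hn Z hge hz ⟨e⟩
        refine S.eq_zero_of_boundedBelow W k Z (-(n : ℤ) - 2) fun q d hd => ?_
        by_cases hq : q = -(n : ℤ) - 2
        · subst hq
          haveI := hW (k + 1) d (by
            have h1 : (max (q' j m) (q' j (m + 1)) - m).toNat ≤ n := le_trans (le_max_left _ _) hn
            have h2 := le_max_left (q' j m) (q' j (m + 1))
            have h3 := le_max_right (q' j m) (q' j (m + 1))
            rcases hk with rfl | rfl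
            · omega
            · rw [show m - 1 + 1 = m by omega]; omega)
          exact subsingleton_ext_of_iso' _ (e ≪≫ eqToIso (congrArg (fun q => (homologyFunctor A q).obj E) (show -(n : ℤ) - 1 = k + 1 - d by omega))) d
        · exact subsingleton_ext_of_isZero _ (hz q hq) d
      refine ⟨fun n hn => ?_, fun n hn => ?_⟩ <;> obtain ⟨Z, g, d, hT', hge, hz, he⟩ := exists_cone_truncTowerMap E n
      · refine ⟨injective_comp_of_triangle hT' _ fun u => ?_, surjective_comp_of_triangle hT' _ fun u => ?_⟩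
        · let e1 : ((S.pt.obj W)⟦-(m - 1)⟧) ≅ ((S.pt.obj W)⟦-m⟧)⟦(1 : ℤ)⟧ :=
            (shiftFunctorAdd' (DerivedCategory A) (-m) 1 (-(m - 1)) (by omega)).app _
          rw [← cancel_epi e1.hom, comp_zero]
          exact hv (m - 1) n (Or.inr rfl) hn hge hz he _
        · exact hv m n (Or.inl rfl) hn hge hz he u
      · refine surjective_comp_of_triangle hT' _ fun u => ?_
        let e1 : ((S.pt.obj W)⟦-(m - 1)⟧) ≅ ((S.pt.obj W)⟦-m⟧)⟦(1 : ℤ)⟧ :=
          (shiftFunctorAdd' (DerivedCategory A) (-m) 1 (-(m - 1)) (by omega)).app _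
        rw [← cancel_epi e1.hom, comp_zero]
        exact hv (m - 1) n (Or.inr rfl) hn hge hz he _
    haveI : IsIso ((homologyFunctor A m).map φ ≫ (homologyFunctor A m).map (a N₀)) := by rw [e]; infer_instance
    haveI : Epi ((homologyFunctor A m).map (a N₀)) := epi_of_epi ((homologyFunctor A m).map φ) _
    haveI := isIso_of_mono_of_epi ((homologyFunctor A m).map (a N₀))
    exact IsIso.of_isIso_comp_right _ ((homologyFunctor A m).map (a N₀))
  refine ⟨c ≫ (inv φ)⟦(1 : ℤ)⟧', isomorphic_distinguished _ hT _ ?_⟩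
  exact Triangle.isoMk _ _ (asIso φ) (Iso.refl _) (Iso.refl _)
    (by simpa using hφ)
    (by simp [D])
    (by simp)

end Trunc

end Groth.Agent.SiteDer16
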