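import Groth.Agent.SiteDer16.RpushHom
import Groth.Agent.SiteDer16.TruncTower
import Groth.Agent.DCat.RFTri
import Groth.Prelude.Def_CohCx

/-! Derived direct images commute with products and derived limits. -/

set_option autoImplicit false
set_option backward.isDefEq.respectTransparency false
set_option backward.defeqAttrib.useBackward true
set_option linter.style.haveILetI false

universe w v u u' t

open CategoryTheory CategoryTheory.Limits CategoryTheory.Pretriangulated DerivedCategory
open Groth.Agent.DCat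

namespace Groth.Agent.SiteDer16

section

variable {C : Type u'} [SmallCategory C] {J : GrothendieckTopology C}
  {A : Type u} [Category.{v} A] [Abelian A] [HasDerivedCategory.{w} A] (S : Sections J A)

/-- An object with no maps from shifted sections vanishes. -/
theorem Sections.isZero_of_hom_eq_zero (Z : DerivedCategory A)
    (h : ∀ (V : C) (k : ℤ) (y : (S.pt.obj V)⟦k⟧ ⟶ Z), y = 0) : IsZero Z := by
  have hq : ∀ q, IsZero ((homologyFunctor A q).obj Z) := fun q => by
    refine (S.gen fun V x => ?_).of_iso ((Functor.shiftIso (homologyFunctor A 0) q 0 q (add_zero q)).app Z).symm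
    obtain ⟨T, hT, hl⟩ := S.exists_local_lift x
    refine S.sep x T hT fun W g hg => ?_
    obtain ⟨y, hy⟩ := hl g hg
    rw [← hy, show y = 0 from eq_zero_of_comp_shift_eq_zero (0 : Z ⟶ Z) q
      (fun z _ => h W (-q) z) y (by simp)]
    simp [Sections.θ]
  haveI : Z.IsGE 1 := (DerivedCategory.isGE_iff _ _).2 fun i _ => hq i
  haveI : Z.IsLE 0 := (DerivedCategory.isLE_iff _ _).2 fun i _ => hq i
  exact WayOut.isZero_of_isGE_of_isLE Z 1 0 (by omega)

/-- Isomorphisms are detected on hypercohomology. -/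
theorem Sections.isIso_of_bijective {X Y : DerivedCategory A} (φ : X ⟶ Y)
    (h : ∀ (V : C) (k : ℤ), Function.Bijective (fun y : (S.pt.obj V)⟦k⟧ ⟶ X => y ≫ φ)) : IsIso φ := by
  obtain ⟨Z, g, d, hT⟩ := distinguished_cocone_triangle φ
  refine (Triangle.isZero₃_iff_isIso₁ _ hT).1 (S.isZero_of_hom_eq_zero _ fun V k u => ?_)
  change (S.pt.obj V)⟦k⟧ ⟶ Z at u
  have hd : u ≫ d = 0 := by
    let e : ((S.pt.obj V)⟦k⟧)⟦(-1 : ℤ)⟧ ≅ (S.pt.obj V)⟦k - 1⟧ :=
      ((shiftFunctorAdd' (DerivedCategory A) k (-1) (k - 1) (by omega)).app _).symm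
    refine eq_zero_of_comp_shift_eq_zero φ (1 : ℤ) (fun y hy => ?_) _ ?_
    · rw [← cancel_epi e.inv, comp_zero]
      exact (h V (k - 1)).1 (by simp [Category.assoc, hy])
    · rw [Category.assoc]
      exact (congrArg (u ≫ ·) (comp_distTriang_mor_zero₃₁ _ hT)).trans comp_zero
  obtain ⟨v, hv⟩ := Triangle.coyoneda_exact₃ _ hT u hd
  obtain ⟨y, hy⟩ := (h V k).2 v
  rw [hv, ← show y ≫ φ = v from hy]
  exact (Category.assoc _ _ _).trans ((congrArg (y ≫ ·) (comp_distTriang_mor_zero₁₂ _ hT)).trans comp_zero)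

end

/-- A derived functor of an additive functor is triangulated. -/
theorem exists_commShift_rf_map {A : Type u} [Category.{v} A] [Abelian A] [HasDerivedCategory.{w} A]
    (h : EnoughKInj A) {B : Type u'} [Category.{t} B] [Abelian B] [HasDerivedCategory.{w} B]
    (G : A ⥤ B) [G.Additive]
    [(G.mapHomotopyCategory (ComplexShape.up ℤ) ⋙ Qh).HasRightDerivedFunctor
      (HomotopyCategory.quasiIso A (ComplexShape.up ℤ))] :
    ∃ (_ : ((G.mapHomotopyCategory (ComplexShape.up ℤ) ⋙ Qh).totalRightDerived DerivedCategory.Qh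
        (HomotopyCategory.quasiIso A (ComplexShape.up ℤ))).CommShift ℤ),
      ((G.mapHomotopyCategory (ComplexShape.up ℤ) ⋙ Qh).totalRightDerived DerivedCategory.Qh
        (HomotopyCategory.quasiIso A (ComplexShape.up ℤ))).IsTriangulated := by
  let i := (rfIso h (G.mapHomotopyCategory (ComplexShape.up ℤ) ⋙ Qh)).symm
  letI := Functor.CommShift.ofIso i ℤ
  haveI : NatTrans.CommShift i.hom ℤ := Functor.CommShift.ofIso_compatibility i ℤ
  exact ⟨inferInstance, Functor.isTriangulated_of_iso i⟩

attribute [local instance] HasDerivedCategory.standard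

variable {C : Type u} [SmallCategory C] {J : GrothendieckTopology C}
  {D : Type u} [SmallCategory D] {K : GrothendieckTopology D}
  {O_C : Sheaf J CommRingCat.{u}} {O_D : Sheaf K CommRingCat.{u}} (f : ModSite.RMor O_C O_D)
  [SiteCmp.HasRpushD f]

/-- The commutation of derived direct images with shifts. -/
theorem exists_commShift_rpushD :
    ∃ (_ : (SiteCmp.RpushD f).CommShift ℤ), (SiteCmp.RpushD f).IsTriangulated :=
  exists_commShift_rf_map (enoughKInj_sheafOfModules _) f.push

/-- Derived direct images commute with products. -/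
theorem isIso_piComparison_rpushD {ι : Type t} (E : ι → DerivedCategory (ModSite.Mod O_C)) [HasProduct E]
    [HasProduct fun i => (SiteCmp.RpushD f).obj (E i)] : IsIso (piComparison (SiteCmp.RpushD f) E) := by
  refine (modSections O_D).isIso_of_bijective _ fun W k => ?_
  obtain ⟨η, hη⟩ := exists_bijective_rpushD f W k
  refine ⟨fun y₁ y₂ h => ?_, fun z => ?_⟩
  · obtain ⟨φ₁, rfl⟩ := (hη _).2 y₁
    obtain ⟨φ₂, rfl⟩ := (hη _).2 y₂
    refine congrArg (fun φ => η ≫ (SiteCmp.RpushD f).map φ) (Pi.hom_ext _ _ fun i => (hη _).1 ?_)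
    have := congrArg (· ≫ Pi.π _ i) h
    simp only [Category.assoc, piComparison_comp_π] at this
    simpa [Functor.map_comp] using this
  · choose φ hφ using fun i => (hη (E i)).2 (z ≫ Pi.π _ i)
    refine ⟨η ≫ (SiteCmp.RpushD f).map (Pi.lift φ), Pi.hom_ext _ _ fun i => ?_⟩
    simp only [Category.assoc, piComparison_comp_π, ← Functor.map_comp, Pi.lift_π]
    exact hφ i

/-- Derived direct images commute with derived limits. -/
theorem isRlimVia_rpushD (E : ℕ → DerivedCategory (ModSite.Mod O_C)) (t : ∀ n, E (n + 1) ⟶ E n) [HasProduct E]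
    (L : DerivedCategory (ModSite.Mod O_C)) (a : ∀ n, L ⟶ E n) (hL : CohCx.IsRlimVia E t L a)
    [HasProduct fun n => (SiteCmp.RpushD f).obj (E n)] :
    CohCx.IsRlimVia (fun n => (SiteCmp.RpushD f).obj (E n)) (fun n => (SiteCmp.RpushD f).map (t n))
      ((SiteCmp.RpushD f).obj L) (fun n => (SiteCmp.RpushD f).map (a n)) := by
  obtain ⟨_, _⟩ := exists_commShift_rpushD f
  haveI := isIso_piComparison_rpushD f E
  obtain ⟨c, hT⟩ := hL
  let R := SiteCmp.RpushD f
  let e := asIso (piComparison R E)
  refine ⟨e.inv ≫ R.map c ≫ (R.commShiftIso (1 : ℤ)).hom.app L, ?_⟩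
  refine isomorphic_distinguished _ (R.map_distinguished _ hT) _
    (Triangle.isoMk _ _ (Iso.refl _) e.symm e.symm ?_ ?_ (by simp [e, R]))
  · dsimp
    rw [Category.id_comp, Iso.comp_inv_eq]
    refine Pi.hom_ext _ _ fun n => ?_
    simp [e, R, ← Functor.map_comp]
  · dsimp
    refine (Iso.comp_inv_eq e).2 ?_
    rw [Category.assoc, Iso.eq_inv_comp]
    refine Pi.hom_ext _ _ fun n => ?_
    simp only [e, R, asIso_hom, Category.assoc, piComparison_comp_π, Pi.lift_π, ← Functor.map_comp,
      Preadditive.comp_sub, Functor.map_sub, ← Category.assoc]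
    simp [← Functor.map_comp]

end Groth.Agent.SiteDer16
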