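import Groth.Agent.DCat.DerivedAdj
import Groth.Agent.DCat.RFBasic
import Groth.Prelude.Def_WeakSerre
import Mathlib.CategoryTheory.Functor.ReflectsIso.Balanced
import Mathlib.Algebra.Homology.DerivedCategory.ExactFunctor
import Mathlib.Algebra.Homology.DerivedCategory.KInjective

/-! When does an exact faithful left adjoint identify derived categories with a part of the ambient one. -/

set_option autoImplicit false
set_option backward.isDefEq.respectTransparency false
set_option backward.defeqAttrib.useBackward true
set_option linter.style.haveILetI false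

universe w w' v v' u u'

open CategoryTheory CategoryTheory.Limits
open Groth.Agent.DCat

namespace Groth.Agent.SiteDer16.SubcatEquiv

/-- An adjunction, on complexes. -/
noncomputable def adjCx {A : Type u} [Category.{v} A] [Preadditive A] {B : Type u'} [Category.{v'} B] [Preadditive B]
    {G : A ⥤ B} {F : B ⥤ A} [G.Additive] [F.Additive] {ι : Type*} (c : ComplexShape ι) (adj : G ⊣ F) :
    G.mapHomologicalComplex c ⊣ F.mapHomologicalComplex c where
  unit :=
    { app := fun K => { f := fun n => adj.unit.app (K.X n), comm' := fun i j _ => (adj.unit.naturality (K.d i j)).symm }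
      naturality := fun K L g => by ext n; exact adj.unit.naturality (g.f n) }
  counit :=
    { app := fun K => { f := fun n => adj.counit.app (K.X n), comm' := fun i j _ => (adj.counit.naturality (K.d i j)).symm }
      naturality := fun K L g => by ext n; exact adj.counit.naturality (g.f n) }
  left_triangle_components K := by ext n; exact adj.left_triangle_components (K.X n)
  right_triangle_components K := by ext n; exact adj.right_triangle_components (K.X n)

variable {A : Type u} [Category.{v} A] [Abelian A] {B : Type u'} [Category.{v'} B] [Abelian B]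
  [HasDerivedCategory.{w} A] [HasDerivedCategory.{w'} B]
  {G : A ⥤ B} {F : B ⥤ A} [G.Additive] [F.Additive] [PreservesFiniteLimits G] [PreservesFiniteColimits G]
  [G.Faithful] (adj : G ⊣ F) (P : ObjectProperty B) [P.IsClosedUnderIsomorphisms]
  (hB : ∀ M : CochainComplex B ℤ, ∃ (I : CochainComplex B ℤ) (f : M ⟶ I),
    I.IsKInjective ∧ QuasiIso f ∧ ∀ n, Injective (I.X n))
  (hε : ∀ I : CochainComplex B ℤ, (∀ n, Injective (I.X n)) → (∀ i, P (I.homology i)) →
    QuasiIso ((adjCx (ComplexShape.up ℤ) adj).counit.app I))
  (hG : ∀ (M : CochainComplex A ℤ) (i : ℤ), P (((G.mapHomologicalComplex (ComplexShape.up ℤ)).obj M).homology i))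

include hB hε hG in
theorem exists_model (M : CochainComplex A ℤ) :
    ∃ (I : CochainComplex B ℤ) (g : M ⟶ (F.mapHomologicalComplex (ComplexShape.up ℤ)).obj I),
      I.IsKInjective ∧ QuasiIso g ∧ QuasiIso ((adjCx (ComplexShape.up ℤ) adj).counit.app I) := by
  haveI : G.ReflectsIsomorphisms := inferInstance
  obtain ⟨I, f, hI, hf, hinj⟩ := hB ((G.mapHomologicalComplex (ComplexShape.up ℤ)).obj M)
  let a := adjCx (ComplexShape.up ℤ) adj
  haveI := hε I hinj fun i => P.prop_of_iso (asIso (HomologicalComplex.homologyMap f i)) (hG M i)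
  refine ⟨I, a.homEquiv _ _ f, hI, ?_, inferInstance⟩
  rw [← HomologicalComplex.quasiIso_map_iff_of_preservesHomology _ G]
  haveI : QuasiIso ((G.mapHomologicalComplex (ComplexShape.up ℤ)).map (a.homEquiv _ _ f) ≫ a.counit.app I) := by
    exact ((a.homEquiv_counit _ _ _).symm.trans (Equiv.symm_apply_apply _ f)).symm ▸ hf
  exact quasiIso_of_comp_right _ (a.counit.app I)

include hB hε hG in
theorem fullyFaithful : G.mapDerivedCategory.Full ∧ G.mapDerivedCategory.Faithful := by
  suffices H : ∀ X Y : DerivedCategory A,
      Function.Bijective (G.mapDerivedCategory.map : (X ⟶ Y) → _) from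
    ⟨⟨fun {X Y} => (H X Y).2⟩, ⟨fun {X Y} _ _ h => (H X Y).1 h⟩⟩
  intro X Y
  obtain ⟨I, g, hI, hg, hc⟩ := exists_model adj P hB hε hG (DerivedCategory.Q.objPreimage Y)
  let K := (DerivedCategory.Q.objPreimage X)
  let T := (F.mapHomologicalComplex (ComplexShape.up ℤ)).obj I
  let eX : DerivedCategory.Qh.obj ((HomotopyCategory.quotient A _).obj K) ≅ X :=
    (DerivedCategory.quotientCompQhIso A).app K ≪≫ DerivedCategory.Q.objObjPreimageIso X
  let eY : DerivedCategory.Qh.obj ((HomotopyCategory.quotient A _).obj T) ≅ Y :=
    (DerivedCategory.quotientCompQhIso A).app T ≪≫ (asIso (DerivedCategory.Q.map g)).symm ≪≫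
      DerivedCategory.Q.objObjPreimageIso Y
  suffices H : Function.Bijective (G.mapDerivedCategory.map :
      (DerivedCategory.Qh.obj ((HomotopyCategory.quotient A _).obj K) ⟶
        DerivedCategory.Qh.obj ((HomotopyCategory.quotient A _).obj T)) → _) by
    have := ((G.mapDerivedCategory.mapIso eX).homCongr (G.mapDerivedCategory.mapIso eY)).bijective.comp
      (H.comp (eX.homCongr eY).symm.bijective)
    convert this using 1
    funext φ
    simp [Iso.homCongr]
  haveI : CochainComplex.IsKInjective T := isKInjective_map_of_adj adj I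
  let fac := G.mapDerivedCategoryFactorsh
  let a := adjHot (ComplexShape.up ℤ) adj
  let c := DerivedCategory.Qh.map (a.counit.app ((HomotopyCategory.quotient B _).obj I))
  haveI : IsIso c := by
    show IsIso (DerivedCategory.Qh.map ((HomotopyCategory.quotient B _).map ((adjCx (ComplexShape.up ℤ) adj).counit.app I)))
    rw [DerivedCategory.isIso_Qh_map_iff, HomotopyCategory.quotient_map_mem_quasiIso_iff]
    exact hc
  let post := (fac.app ((HomotopyCategory.quotient A _).obj K)).homCongr
    (fac.app ((HomotopyCategory.quotient A _).obj T) ≪≫ asIso c)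
  refine (Function.Bijective.of_comp_iff' post.bijective _).1 ?_
  refine (Function.Bijective.of_comp_iff _
    (CochainComplex.IsKInjective.Qh_map_bijective ((HomotopyCategory.quotient A _).obj K) T)).1 ?_
  have key : (post ∘ G.mapDerivedCategory.map) ∘
      (fun g₀ : (HomotopyCategory.quotient A _).obj K ⟶ (HomotopyCategory.quotient A _).obj T =>
        DerivedCategory.Qh.map g₀) =
      (fun h => DerivedCategory.Qh.map h) ∘ (a.homEquiv _ _).symm := by
    funext g₀
    simp only [Function.comp_apply, post, Iso.homCongr_apply, Iso.trans_hom, asIso_hom, Iso.app_hom, Iso.app_inv,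
      Adjunction.homEquiv_counit, Functor.map_comp, c]
    have hn := fac.hom.naturality g₀
    dsimp at hn ⊢
    rw [reassoc_of% hn, Iso.inv_hom_id_app_assoc]
    rfl
  rw [key]
  exact (CochainComplex.IsKInjective.Qh_map_bijective _ I).comp (a.homEquiv _ _).symm.bijective

include hB hε hG in
theorem cohIn_iff (X : DerivedCategory B) :
    WSerre.cohIn P X ↔ G.mapDerivedCategory.essImage X := by
  constructor
  · intro hX
    obtain ⟨I, f, hI, hf, hinj⟩ := hB (DerivedCategory.Q.objPreimage X)
    let e : DerivedCategory.Q.obj I ≅ X := (asIso (DerivedCategory.Q.map f)).symm ≪≫ DerivedCategory.Q.objObjPreimageIso X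
    haveI := hε I hinj fun i =>
      P.prop_of_iso ((DerivedCategory.homologyFunctor B i).mapIso e.symm ≪≫
        (DerivedCategory.homologyFunctorFactors B i).app I) (hX i)
    exact ⟨DerivedCategory.Q.obj ((F.mapHomologicalComplex (ComplexShape.up ℤ)).obj I),
      ⟨G.mapDerivedCategoryFactors.app _ ≪≫ asIso (DerivedCategory.Q.map ((adjCx (ComplexShape.up ℤ) adj).counit.app I)) ≪≫ e⟩⟩
  · rintro ⟨Y, ⟨e⟩⟩ i
    exact P.prop_of_iso
      (((DerivedCategory.homologyFunctorFactors B i).app _).symm ≪≫
        (DerivedCategory.homologyFunctor B i).mapIso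
          ((G.mapDerivedCategoryFactors.app (DerivedCategory.Q.objPreimage Y)).symm ≪≫
            G.mapDerivedCategory.mapIso (DerivedCategory.Q.objObjPreimageIso Y) ≪≫ e))
      (hG (DerivedCategory.Q.objPreimage Y) i)

end Groth.Agent.SiteDer16.SubcatEquiv
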