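import Groth.Agent.SiteDer16.SectionsInst
import Groth.Agent.SiteCoh.FreePullback
import Groth.Agent.SiteCoh.LeftExactPull
import Groth.Agent.SiteCoh.Cohomology

/-! Direct images of injective modules are acyclic. -/

set_option autoImplicit false
set_option backward.isDefEq.respectTransparency false

universe u

open CategoryTheory CategoryTheory.Limits Opposite

namespace Groth.Agent.SiteDer16

variable {C : Type u} [SmallCategory C] {J : GrothendieckTopology C}
  {D : Type u} [SmallCategory D] {K : GrothendieckTopology D}

theorem isTotallyAcyclic_push_toSheaf (u : D ⥤ C) [u.IsContinuous K J]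
    [PreservesFiniteLimits (u.sheafPullback (Type u) K J)]
    (R : Sheaf J RingCat.{u}) (I : SheafOfModules.{u} R) [Injective I] :
    CohCx.IsTotallyAcyclic ((CohSite.push J K u).obj ((SheafOfModules.toSheaf R).obj I)) := by
  haveI := SiteCoh.sheafPullback_addCommGrp_preservesFiniteLimits J K u
  have hF := ModAcyclic.isTotallyAcyclic_toSheaf R I
  exact SiteCoh.isTotallyAcyclic_push J K u _
    (fun q => SiteCoh.isZero_rpush_of_subsingleton J K u _ _ fun V => S0864.result _ hF _ q) hF

variable {O_C : Sheaf J CommRingCat.{u}} {O_D : Sheaf K CommRingCat.{u}} (f : ModSite.RMor O_C O_D)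

theorem subsingleton_ext_modFree_push [HasExt.{u} (ModSite.Mod O_D)] (I : ModSite.Mod O_C) [Injective I]
    (W : D) (q : ℕ) : Subsingleton (Abelian.Ext.{u} ((modFree O_D).obj W) (f.push.obj I) (q + 1)) :=
  subsingleton_ext_modFree O_D W (q + 1) _
    (S0864.result _ (isTotallyAcyclic_push_toSheaf f.fn (ModSite.ringSh O_C) I) W q)

end Groth.Agent.SiteDer16
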