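import Groth.Agent.SiteDer16.RlimClasses
import Groth.Prelude.Def_DCoh2
import Mathlib.Topology.Sheaves.SheafCondition.Sites

/-! Classes and cohomology sheaves of derived limits of abelian sheaves. -/

set_option autoImplicit false
set_option backward.isDefEq.respectTransparency false
set_option linter.style.haveILetI false

universe u

open CategoryTheory CategoryTheory.Limits DerivedCategory Opposite TopologicalSpace
open Groth.Agent.DCat

namespace Groth.Agent.SiteDer16

/-- A basis of opens covers every open. -/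
theorem cover_of_isBasis {X : TopCat.{u}} (B : Set (Opens X)) (hB : Opens.IsBasis B) (U : Opens X) :
    ∃ (ι : Type u) (Y : ι → Opens X) (f : ∀ i, Y i ⟶ U),
      Sieve.ofArrows Y f ∈ Opens.grothendieckTopology X U ∧ ∀ i, Y i ∈ B := by
  refine ⟨{V : Opens X // V ∈ B ∧ V ≤ U}, fun V => V.1, fun V => homOfLE V.2.2, fun x hx => ?_, fun V => V.2.1⟩
  obtain ⟨V, hV, hxV, hVU⟩ := Opens.isBasis_iff_nbhd.1 hB hx
  exact ⟨V, homOfLE hVU, Sieve.ofArrows_mk _ _ (⟨V, hV, hVU⟩ : {V : Opens X // V ∈ B ∧ V ≤ U}), hxV⟩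

variable {C : Type u} [SmallCategory C] {J : GrothendieckTopology C}
  [HasDerivedCategory.{u} (Sheaf J AddCommGrpCat.{u})]

/-- The section over `U` of a class of degree `m`. -/
noncomputable def sec (X : DerivedCategory (Sheaf J AddCommGrpCat.{u})) (m : ℤ) (U : C) :
    CohCx.HDU X m U →+ (CohCx.HD X m).obj.obj (op U) :=
  AddMonoidHom.mk' (fun y => SiteCoh.homEquiv U (CohCx.HD X m) ((abSections J).θm m U X y)) fun y y' => by
    rw [← map_add]
    exact congrArg _ ((abSections J).θm_add m U X y y')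

theorem sec_comp {X Y : DerivedCategory (Sheaf J AddCommGrpCat.{u})} (m : ℤ) (U : C) (y : CohCx.HDU X m U) (f : X ⟶ Y) :
    sec Y m U (y ≫ f⟦m⟧') = ((homologyFunctor _ m).map f).hom.app (op U) (sec X m U y) :=
  (congrArg (SiteCoh.homEquiv U (CohCx.HD Y m)) ((abSections J).θm_comp m y f)).trans (SiteCoh.homEquiv_postcomp _ _)

theorem bijective_sec_iff (X : DerivedCategory (Sheaf J AddCommGrpCat.{u})) (m : ℤ) (U : C) :
    Function.Bijective (sec X m U) ↔ Function.Bijective ((abSections J).θm m U X) :=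
  (SiteCoh.homEquiv U (CohCx.HD X m)).bijective.of_comp_iff' _

variable (B : Set C)
  (hB : ∀ U : C, ∃ (ι : Type u) (Y : ι → C) (f : ∀ i, Y i ⟶ U), Sieve.ofArrows Y f ∈ J U ∧ ∀ i, Y i ∈ B)

include hB in
theorem bijective_sec (X : DerivedCategory (Sheaf J AddCommGrpCat.{u}))
    (h : ∀ U ∈ B, ∀ (p : ℕ) (q : ℤ), Subsingleton (CohSite.HU (CohCx.HD X q) (p + 1) U)) {U : C} (hU : U ∈ B) (m : ℤ) :
    Function.Bijective (sec X m U) := by
  haveI := hasProductsOfShape_derived (enoughKInj (Sheaf J AddCommGrpCat.{u})) ℕ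
  refine (bijective_sec_iff X m U).2 ((abSections J).bijective_θm_of_acyclic B hB (enoughKInj _) X m (fun V hV q d hd => ?_) hU)
  obtain ⟨p, rfl⟩ : ∃ p, d = p + 1 := ⟨d - 1, by omega⟩
  exact h V hV p q

include hB in
/-- The cohomology sheaves of a derived limit on acyclic covers. -/
theorem homology_rlim (K : ℕ → DerivedCategory (Sheaf J AddCommGrpCat.{u})) (t : ∀ n, K (n + 1) ⟶ K n) [HasProduct K]
    {L : DerivedCategory (Sheaf J AddCommGrpCat.{u})} {a : ∀ n, L ⟶ K n} (hL : CohCx.IsRlimVia K t L a)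
    (h1 : ∀ U ∈ B, ∀ (p : ℕ) (q : ℤ) (n : ℕ), Subsingleton (CohSite.HU (CohCx.HD (K n) q) (p + 1) U))
    (h2 : ∀ U ∈ B, ∀ (q : ℤ), CohCx.LimOneIsZero (fun n => (CohCx.HD (K n) q).obj.obj (op U))
      (fun n => (((DerivedCategory.homologyFunctor _ q).map (t n)).hom.app (op U)).hom))
    (m : ℤ) :
    IsIso (limit.lift _ (homologyCone hL m)) ∧ ∀ U ∈ B, Function.Bijective (sec L m U) := by
  have hb : ∀ U ∈ B, ∀ n j, Function.Bijective (sec (K n) j U) := fun U hU n j =>
    bijective_sec B hB (K n) (fun V hV p q => h1 V hV p q n) hU j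
  obtain ⟨h, h'⟩ := (abSections J).isIso_lift_homology B hB hL m
    (fun U hU n => (bijective_sec_iff _ _ _).1 (hb U hU n m)) fun U hU z => by
      obtain ⟨w, hw⟩ := h2 U hU (m - 1) fun n => sec (K n) (m - 1) U (z n)
      choose w' hw' using fun n => (hb U hU n (m - 1)).2 (w n)
      refine ⟨w', fun n => (hb U hU n (m - 1)).1 ?_⟩
      rw [map_sub]
      refine Eq.trans ?_ (congrFun hw n)
      exact congrArg₂ (· - ·) (hw' n) ((sec_comp (m - 1) U _ (t n)).trans (congrArg _ (hw' (n + 1))))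
  exact ⟨h, fun U hU => (bijective_sec_iff _ _ _).2 (h' U hU)⟩

omit B hB in
/-- A derived limit comes with maps to the stages. -/
theorem exists_isRlimVia (K : ℕ → DerivedCategory (Sheaf J AddCommGrpCat.{u})) (t : ∀ n, K (n + 1) ⟶ K n) [HasProduct K]
    {L : DerivedCategory (Sheaf J AddCommGrpCat.{u})} (hL : DCoh.IsRlim K t L) :
    ∃ a : ∀ n, L ⟶ K n, CohCx.IsRlimVia K t L a := by
  obtain ⟨a, c, h⟩ := hL
  refine ⟨fun n => a ≫ Pi.π K n, c, ?_⟩
  rwa [show Pi.lift (fun n => a ≫ Pi.π K n) = a from Pi.hom_ext _ _ fun n => by simp]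

end Groth.Agent.SiteDer16
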