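import Groth.Agent.SiteDer16.RlimClassesAb
import Groth.Agent.SiteCoh.Basics
import Mathlib.Topology.Sheaves.Stalks

/-! Derived limits of systems of sheaves; stalks of the cohomology of derived limits. -/

set_option autoImplicit false
set_option backward.isDefEq.respectTransparency false
set_option linter.style.haveILetI false

universe u

open CategoryTheory CategoryTheory.Limits CategoryTheory.Pretriangulated DerivedCategory Opposite TopologicalSpace
open Groth.Agent.DCat

namespace Groth.Agent.SiteDer16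

section Single

variable {C : Type u} [SmallCategory C] {J : GrothendieckTopology C}
  [HasDerivedCategory.{u} (Sheaf J AddCommGrpCat.{u})]

theorem rlim_single (F : ℕ → Sheaf J AddCommGrpCat.{u}) (t : ∀ n, F (n + 1) ⟶ F n)
    [HasProduct fun n => (DerivedCategory.singleFunctor (Sheaf J AddCommGrpCat.{u}) 0).obj (F n)]
    (B : Set C)
    (hB : ∀ U : C, ∃ (ι : Type u) (Y : ι → C) (f : ∀ i, Y i ⟶ U), Sieve.ofArrows Y f ∈ J U ∧ ∀ i, Y i ∈ B)
    (h1 : ∀ U ∈ B, ∀ (p n : ℕ), Subsingleton (CohSite.HU (F n) (p + 1) U))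
    (h2 : ∀ U ∈ B, CohCx.LimOneIsZero (fun n => (F n).obj.obj (op U)) (fun n => ((t n).hom.app (op U)).hom)) :
    DCoh.IsRlim (fun n => (DerivedCategory.singleFunctor _ 0).obj (F n))
      (fun n => (DerivedCategory.singleFunctor _ 0).map (t n))
      ((DerivedCategory.singleFunctor _ 0).obj (limit (CohCx.opSequence F t))) ∧
    ∀ U ∈ B, ∀ p : ℕ, Subsingleton (CohSite.HU (limit (CohCx.opSequence F t)) (p + 1) U) := by
  let Sh := Sheaf J AddCommGrpCat.{u}
  let K := fun n => (DerivedCategory.singleFunctor Sh 0).obj (F n)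
  let t' := fun n => (DerivedCategory.singleFunctor Sh 0).map (t n)
  let D : (∏ᶜ K) ⟶ ∏ᶜ K := Pi.lift fun n => Pi.π K n - Pi.π K (n + 1) ≫ t' n
  obtain ⟨L, f, c, hT⟩ := distinguished_cocone_triangle₁ D
  let a : ∀ n, L ⟶ K n := fun n => f ≫ Pi.π K n
  have hf : f = Pi.lift a := Pi.hom_ext _ _ fun n => by simp [a]
  have hL : CohCx.IsRlimVia K t' L a := ⟨c, hf ▸ hT⟩
  let e0 : ∀ n, CohCx.HD (K n) 0 ≅ F n := fun n => (singleFunctorCompHomologyFunctorIso Sh 0).app (F n)
  have hz : ∀ (n : ℕ) (q : ℤ), q ≠ 0 → IsZero (CohCx.HD (K n) q) := fun n q hq => by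
    rcases lt_or_gt_of_ne hq with h | h
    · exact isZero_of_isGE (K n) 0 q h
    · exact isZero_of_isLE (K n) 0 q h
  have hsub : ∀ {G : Sh}, IsZero G → ∀ V : C, Subsingleton (G.obj.obj (op V)) := fun {G} hG V =>
    AddCommGrpCat.subsingleton_of_isZero
      ((((sheafToPresheaf J AddCommGrpCat.{u}) ⋙ (evaluation _ _).obj (op V))).map_isZero hG)
  have h1' : ∀ U ∈ B, ∀ (p : ℕ) (q : ℤ) (n : ℕ), Subsingleton (CohSite.HU (CohCx.HD (K n) q) (p + 1) U) :=
    fun U hU p q n => by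
      by_cases hq : q = 0
      · subst hq
        exact @subsingleton_ext_of_iso' _ _ _ _ _ _ _ (e0 n) (p + 1) (h1 U hU p n)
      · exact subsingleton_ext_of_isZero _ (hz n q hq) (p + 1)
  have h2' : ∀ U ∈ B, ∀ (q : ℤ), CohCx.LimOneIsZero (fun n => (CohCx.HD (K n) q).obj.obj (op U))
      (fun n => (((DerivedCategory.homologyFunctor _ q).map (t' n)).hom.app (op U)).hom) := fun U hU q => by
    by_cases hq : q = 0
    · subst hq
      intro z
      obtain ⟨w, hw⟩ := h2 U hU fun n => (e0 n).hom.hom.app (op U) (z n)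
      refine ⟨fun n => (e0 n).inv.hom.app (op U) (w n), funext fun n => ?_⟩
      have hn : (e0 (n + 1)).inv ≫ (homologyFunctor Sh 0).map (t' n) = t n ≫ (e0 n).inv :=
        ((singleFunctorCompHomologyFunctorIso Sh 0).inv.naturality (t n)).symm
      have hnx := ConcreteCategory.congr_hom (congrArg (fun φ => φ.hom.app (op U)) hn) (w (n + 1))
      change ((homologyFunctor Sh 0).map (t' n)).hom.app (op U) ((e0 (n + 1)).inv.hom.app (op U) (w (n + 1))) =
        (e0 n).inv.hom.app (op U) ((t n).hom.app (op U) (w (n + 1))) at hnx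
      show (e0 n).inv.hom.app (op U) (w n) - ((homologyFunctor Sh 0).map (t' n)).hom.app (op U) _ = z n
      rw [hnx, ← map_sub, show w n - (t n).hom.app (op U) (w (n + 1)) = _ from congrFun hw n]
      exact ConcreteCategory.congr_hom (congrArg (fun φ => φ.hom.app (op U)) (e0 n).hom_inv_id) (z n)
    · intro z
      exact ⟨0, funext fun n => (hsub (hz n q hq) U).elim _ _⟩
  have hiso := fun m => homology_rlim B hB K t' hL h1' h2' m
  let el : ∀ q, CohCx.HD L q ≅ _ := fun q => @asIso _ _ _ _ _ (hiso q).1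
  have hLz : ∀ q, q ≠ 0 → IsZero (CohCx.HD L q) := fun q hq => by
    refine IsZero.of_iso ?_ (el q)
    rw [IsZero.iff_id_eq_zero]
    exact limit.hom_ext fun j => (hz j.unop q hq).eq_of_tgt _ _
  haveI : L.IsGE 0 := (DerivedCategory.isGE_iff _ _).2 fun q hq => hLz q (by omega)
  haveI : L.IsLE 0 := (DerivedCategory.isLE_iff _ _).2 fun q hq => hLz q (by omega)
  obtain ⟨M, ⟨eM⟩⟩ := exists_iso_singleFunctor_obj_of_isGE_of_isLE L 0
  let G1 : ℕᵒᵖ ⥤ Sh := CohCx.opSequence (fun n => CohCx.HD (K n) 0) (fun n => (homologyFunctor Sh 0).map (t' n))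
  let ν : G1 ⟶ CohCx.opSequence F t := NatTrans.ofOpSequence (fun n => (e0 n).hom) fun n => by
    dsimp only [G1, CohCx.opSequence]
    erw [Functor.ofOpSequence_map_homOfLE_succ, Functor.ofOpSequence_map_homOfLE_succ]
    exact (singleFunctorCompHomologyFunctorIso Sh 0).hom.naturality (t n)
  haveI : ∀ j, IsIso (ν.app j) := fun j => inferInstanceAs (IsIso (e0 j.unop).hom)
  haveI : IsIso ν := NatIso.isIso_of_isIso_app ν
  let eM' : M ≅ limit (CohCx.opSequence F t) :=
    ((singleFunctorCompHomologyFunctorIso Sh 0).app M).symm ≪≫ (homologyFunctor Sh 0).mapIso eM.symm ≪≫ el 0 ≪≫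
      HasLimit.isoOfNatIso (asIso ν)
  let eL : L ≅ (DerivedCategory.singleFunctor Sh 0).obj (limit (CohCx.opSequence F t)) :=
    eM ≪≫ (DerivedCategory.singleFunctor Sh 0).mapIso eM'
  refine ⟨⟨eL.inv ≫ f, c ≫ eL.hom⟦(1 : ℤ)⟧', isomorphic_distinguished _ hT _ ?_⟩, fun U hU p => ?_⟩
  · exact Triangle.isoMk _ _ eL.symm (Iso.refl _) (Iso.refl _) (by simp) (by simp only [Iso.refl_hom, Triangle.mk_mor₂]; exact (Category.comp_id _).trans (Category.id_comp _).symm)
      (by simp [← Functor.map_comp]; exact Category.comp_id c)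
  · haveI : Subsingleton ((CohCx.HD L ((p + 1 : ℕ) : ℤ)).obj.obj (op U)) := hsub (hLz _ (by omega)) U
    haveI hs : Subsingleton (CohCx.HDU L ((p + 1 : ℕ) : ℤ) U) := ((hiso _).2 U hU).1.subsingleton
    haveI : Subsingleton ((DerivedCategory.singleFunctor Sh 0).obj (CohCx.freeSheaf J U) ⟶
        ((DerivedCategory.singleFunctor Sh 0).obj (limit (CohCx.opSequence F t)))⟦((p + 1 : ℕ) : ℤ)⟧) :=
      (Iso.homToEquiv (Z := (DerivedCategory.singleFunctor Sh 0).obj (CohCx.freeSheaf J U))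
        ((shiftFunctor (DerivedCategory Sh) ((p + 1 : ℕ) : ℤ)).mapIso eL)).symm.subsingleton
    exact (Abelian.Ext.homEquiv (X := CohCx.freeSheaf J U) (Y := limit (CohCx.opSequence F t)) (n := p + 1)).subsingleton

end Single

open TopCat in
/-- Injectivity on stalks of the cohomology of a derived limit into a stage. -/
theorem stalk_injective {X : TopCat.{u}} [HasDerivedCategory.{u} (CohTop.Ab X)]
    (K : ℕ → DerivedCategory (CohTop.Ab X)) (t : ∀ n, K (n + 1) ⟶ K n) [HasProduct K]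
    (L : DerivedCategory (CohTop.Ab X)) (a : ∀ n, L ⟶ K n) (hL : CohCx.IsRlimVia K t L a)
    (x : X) (m : ℤ) (nx : ℕ)
    (h : ∀ V : Opens X, x ∈ V → ∃ U : Opens X, x ∈ U ∧ U ≤ V ∧
      CohCx.LimOneIsZero (fun n => CohCx.HDU (K n) (m - 1) U)
        (fun n => Preadditive.rightComp _ ((shiftFunctor _ (m - 1)).map (t n))) ∧
      ∀ k : ℕ, Function.Injective
        (Preadditive.rightComp _ ((shiftFunctor _ m).map (CohCx.transition K t nx k)) :
          CohCx.HDU (K (nx + k)) m U → CohCx.HDU (K nx) m U)) :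
    Function.Injective ((TopCat.Presheaf.stalkFunctor AddCommGrpCat.{u} x).map
      ((DerivedCategory.homologyFunctor (CohTop.Ab X) m).map (a nx)).hom) := by
  let S := abSections (Opens.grothendieckTopology X)
  refine (injective_iff_map_eq_zero _).2 fun e he => ?_
  obtain ⟨V, hxV, s, rfl⟩ := TopCat.Presheaf.exists_germ_eq _ e
  rw [TopCat.Presheaf.stalkFunctor_map_germ_apply] at he
  obtain ⟨V', hxV', i, j, hij⟩ := TopCat.Presheaf.germ_eq _ x hxV hxV
    (((DerivedCategory.homologyFunctor (CohTop.Ab X) m).map (a nx)).hom.app (op V) s) 0 (he.trans (map_zero _).symm)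
  let z := (SiteCoh.homEquiv V (CohCx.HD L m)).symm s
  obtain ⟨T, hT, hl⟩ := S.exists_local_liftm m z
  obtain ⟨W, g, hg, hxW⟩ := hT x hxV
  obtain ⟨W₁, hxW₁, hW₁, hW₁'⟩ : ∃ W₁ : Opens X, x ∈ W₁ ∧ W₁ ≤ W ∧ W₁ ≤ V' :=
    ⟨W ⊓ V', ⟨hxW, hxV'⟩, inf_le_left, inf_le_right⟩
  let g₁ : W₁ ⟶ W := homOfLE hW₁
  obtain ⟨y, hy⟩ := hl (g₁ ≫ g) (T.downward_closed hg g₁)
  have hsec : sec L m W₁ y = (CohCx.HD L m).obj.map (g₁ ≫ g).op s := by
    refine (congrArg (SiteCoh.homEquiv W₁ (CohCx.HD L m)) hy).trans ?_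
    refine (SiteCoh.homEquiv_precomp (g₁ ≫ g) z).trans (congrArg _ ?_)
    exact (SiteCoh.homEquiv V (CohCx.HD L m)).apply_symm_apply s
  have h0 : sec (K nx) m W₁ (y ≫ (a nx)⟦m⟧') = 0 := by
    rw [sec_comp, hsec]
    refine (NatTrans.naturality_apply ((homologyFunctor (CohTop.Ab X) m).map (a nx)).hom (g₁ ≫ g).op s).trans ?_
    rw [show g₁ ≫ g = homOfLE hW₁' ≫ i from Subsingleton.elim _ _, op_comp, Functor.map_comp]
    refine (congrArg ((CohCx.HD (K nx) m).obj.map (homOfLE hW₁').op) hij).trans ?_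
    simp
  have hθ : S.θ (show S.pt.obj W₁ ⟶ (K nx)⟦m⟧ from y ≫ (a nx)⟦m⟧') = 0 := by
    have h1 : S.θm m W₁ (K nx) (y ≫ (a nx)⟦m⟧') = 0 :=
      (SiteCoh.homEquiv W₁ (CohCx.HD (K nx) m)).injective (h0.trans (map_zero _).symm)
    exact (cancel_mono ((Functor.shiftIso (homologyFunctor (CohTop.Ab X) 0) m 0 m (add_zero m)).hom.app (K nx))).1
      (h1.trans zero_comp.symm)
  obtain ⟨T', hT', hz⟩ := S.exists_local_zero (enoughKInj _) _ hθ
  obtain ⟨W₂, g₂, hg₂, hxW₂⟩ := hT' x hxW₁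
  obtain ⟨U, hxU, hU, hl1, hinj⟩ := h W₂ hxW₂
  let g₃ : U ⟶ W₁ := homOfLE hU ≫ g₂
  let y' : CohCx.HDU L m U := (DerivedCategory.singleFunctor _ 0).map (S.P.map g₃) ≫ y
  have hy0 : y' ≫ (a nx)⟦m⟧' = 0 := by
    have := hz g₃ (T'.downward_closed hg₂ (homOfLE hU))
    exact (Category.assoc _ _ _).trans this
  have htr : ∀ (k : ℕ), (a (nx + k) ≫ CohCx.transition K t nx k : L ⟶ K nx) = a nx := by
    intro k
    induction k with
    | zero => exact Category.comp_id _
    | succ k ih =>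
      exact (Category.assoc _ _ _).symm.trans
        ((congrArg (· ≫ CohCx.transition K t nx k) (comp_eq_of_isRlimVia K t hL (nx + k))).trans ih)
  have hy' : y' = 0 := eq_zero_of_limOne hL m (fun w => by
      obtain ⟨w', hw'⟩ := hl1 w
      exact ⟨w', fun n => congrFun hw' n⟩) y' fun n => by
    rcases le_total n nx with hn | hn
    · obtain ⟨k, hk⟩ := Nat.exists_eq_add_of_le hn
      clear hn
      induction k generalizing n with
      | zero => obtain rfl : nx = n := hk; exact hy0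
      | succ k ih =>
        rw [← comp_eq_of_isRlimVia K t hL n, Functor.map_comp, ← Category.assoc]
        erw [ih (n + 1) (by omega)]
        exact zero_comp
    · obtain ⟨k, rfl⟩ := Nat.exists_eq_add_of_le hn
      refine hinj k (Eq.trans ?_ zero_comp.symm)
      show (y' ≫ (a (nx + k))⟦m⟧') ≫ (CohCx.transition K t nx k)⟦m⟧' = 0
      rw [Category.assoc, ← Functor.map_comp, htr]
      exact hy0
  have hfin : (CohCx.HD L m).obj.map (g₃ ≫ g₁ ≫ g).op s = 0 := by
    rw [op_comp, Functor.map_comp]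
    refine (congrArg ((CohCx.HD L m).obj.map g₃.op) hsec.symm).trans ?_
    refine (SiteCoh.homEquiv_precomp g₃ (S.θm m W₁ L y)).symm.trans ?_
    have h2 : S.θm m U L y' = S.P.map g₃ ≫ S.θm m W₁ L y :=
      (congrArg (· ≫ _) (S.θ_map g₃ (show S.pt.obj W₁ ⟶ L⟦m⟧ from y))).trans (Category.assoc _ _ _)
    refine (congrArg _ h2.symm).trans ?_
    rw [hy', S.θm_zero, map_zero]
  refine (TopCat.Presheaf.germ_res_apply _ (g₃ ≫ g₁ ≫ g) x hxU s).symm.trans ?_
  exact (congrArg _ hfin).trans (map_zero _)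

end Groth.Agent.SiteDer16
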