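import Groth.Agent.SiteCoh.Cech
import Groth.Prelude.Def_CohTop
import Mathlib.Algebra.Homology.Homotopy
import Mathlib.Algebra.Homology.Single

/-! The Čech complex of a family containing its union. -/

set_option autoImplicit false
set_option backward.isDefEq.respectTransparency false
set_option linter.style.haveILetI false

universe u

open CategoryTheory CategoryTheory.Limits Opposite TopologicalSpace

namespace Groth.Agent.SiteDer16.CechHomotopy

open SiteCoh

variable {X : TopCat.{u}} (P : (Opens X)ᵒᵖ ⥤ AddCommGrpCat.{u}) {ι : Type u} (U : ι → Opens X) (i : ι) (hi : U i = iSup U)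

/-- Tuples of inclusions. -/
abbrev tup {n : ℕ} (V : Opens X) (a : Fin n → ι) (h : ∀ k, V ≤ U (a k)) : Fin n → (i : ι) × (V ⟶ U i) :=
  fun k => ⟨a k, homOfLE (h k)⟩

theorem tup_taut {n : ℕ} (a : Fin (n + 1) → ι) :
    Cech.taut U a = tup U (Cech.inter U a) a (fun k => (Pi.π (fun k => U (a k)) k).le) :=
  rfl

include hi in
theorem le_cons {n : ℕ} (a : Fin (n + 1) → ι) : ∀ k, Cech.inter U a ≤ U ((Fin.cons i a : Fin (n + 2) → ι) k) := fun k => by
  cases k using Fin.cases with
  | zero =>
    simp only [Fin.cons_zero]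
    exact ((Pi.π (fun k => U (a k)) 0).le.trans (le_iSup U _)).trans hi.ge
  | succ k => simpa using (Pi.π (fun k => U (a k)) k).le

/-- The contracting operator. -/
noncomputable def h (n : ℕ) : (Cech.cx P U).X (n + 1) ⟶ (Cech.cx P U).X n :=
  AddCommGrpCat.ofHom (AddMonoidHom.mk'
    (fun x => Cech.mk P U fun a => Cech.val P U x (tup U (Cech.inter U a) (Fin.cons i a) (le_cons U i hi a)))
    fun x y => Cech.ext P U fun a => by simp [Cech.val])

theorem ev_h (n : ℕ) (x : (Cech.cx P U).X (n + 1)) (a : Fin (n + 1) → ι) :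
    Cech.ev P U a (h P U i hi n x) = Cech.val P U x (tup U (Cech.inter U a) (Fin.cons i a) (le_cons U i hi a)) :=
  Cech.ev_mk P U _ a

theorem val_h (n : ℕ) (x : (Cech.cx P U).X (n + 1)) (V : Opens X) (a : Fin (n + 1) → ι) (ha : ∀ k, V ≤ U (a k))
    (hc : ∀ k, V ≤ U ((Fin.cons i a : Fin (n + 2) → ι) k)) :
    Cech.val P U (h P U i hi n x) (tup U V a ha) = Cech.val P U x (tup U V (Fin.cons i a) hc) := by
  refine (congrArg (P.map _) (ev_h P U i hi n x a)).trans ?_
  exact Cech.map_val P U x _ _

theorem h_d_succ (n : ℕ) (x : (Cech.cx P U).X (n + 1)) :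
    h P U i hi (n + 1) ((Cech.cx P U).d (n + 1) (n + 2) x) + (Cech.cx P U).d n (n + 1) (h P U i hi n x) = x := by
  refine Cech.ext P U fun a => ?_
  rw [map_add, ev_h, Cech.val_d, Cech.ev_eq_val_taut P U ((Cech.cx P U).d n (n + 1) _), Cech.val_d,
    Fin.sum_univ_succ, add_assoc, ← Finset.sum_add_distrib, Finset.sum_eq_zero, add_zero, Fin.val_zero, pow_zero,
    one_zsmul]
  · refine Eq.trans (congrArg (Cech.val P U x) ?_) (Cech.val_taut P U x a)
    funext k
    exact Sigma.ext (by simp) (Subsingleton.helim (by simp) _ _)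
  · intro j _
    rw [Fin.val_succ, pow_succ', neg_one_mul, neg_zsmul, neg_add_eq_zero]
    refine congrArg (fun z => (-1 : ℤ) ^ (j : ℕ) • z) ?_
    refine Eq.trans ?_ (val_h P U i hi n x (Cech.inter U a) (a ∘ j.succAbove)
      (fun k => (Pi.π (fun k => U (a k)) _).le) (fun k => by
        cases k using Fin.cases with
        | zero => simpa using le_cons U i hi a 0
        | succ k => simpa using (Pi.π (fun k => U (a k)) _).le)).symm
    refine congrArg (Cech.val P U x) (funext fun k => ?_)
    cases k using Fin.cases with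
    | zero => exact Sigma.ext (by simp) (Subsingleton.helim (by simp) _ _)
    | succ k => exact Sigma.ext (by simp) (Subsingleton.helim (by simp) _ _)

/-- Restriction from the union. -/
noncomputable def φ₀ : P.obj (op (iSup U)) ⟶ (Cech.cx P U).X 0 :=
  AddCommGrpCat.ofHom (AddMonoidHom.mk'
    (fun s => Cech.mk P U fun a => P.map (homOfLE ((Pi.π (fun k => U (a k)) 0).le.trans (le_iSup U _))).op s)
    fun x y => Cech.ext P U fun a => by simp)

theorem val_φ₀ (s : P.obj (op (iSup U))) {V : Opens X} (t : Fin 1 → (i : ι) × (V ⟶ U i)) :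
    Cech.val P U (φ₀ P U s) t = P.map (homOfLE ((t 0).2.le.trans (le_iSup U _))).op s := by
  refine (congrArg (P.map _) (Cech.ev_mk P U _ _)).trans ?_
  rw [← ConcreteCategory.comp_apply, ← P.map_comp, ← op_comp]
  rfl

/-- The component at the distinguished index. -/
noncomputable def ψ₀ : (Cech.cx P U).X 0 ⟶ P.obj (op (iSup U)) :=
  AddCommGrpCat.ofHom (AddMonoidHom.mk'
    (fun x => Cech.val P U x (tup U (iSup U) (fun _ : Fin 1 => i) fun _ => hi.ge))
    fun x y => by simp [Cech.val])

theorem h_d_zero (x : (Cech.cx P U).X 0) :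
    h P U i hi 0 ((Cech.cx P U).d 0 1 x) + φ₀ P U (ψ₀ P U i hi x) = x := by
  refine Cech.ext P U fun a => ?_
  rw [map_add, ev_h, Cech.val_d, Cech.ev_eq_val_taut P U (φ₀ P U _), val_φ₀, Fin.sum_univ_two]
  show _ + P.map _ (Cech.val P U x (tup U (iSup U) (fun _ : Fin 1 => i) fun _ => hi.ge)) = _
  rw [Cech.map_val, Fin.val_zero, pow_zero, one_zsmul, Fin.val_one, pow_one, neg_one_zsmul, add_assoc,
    neg_add_eq_zero.2 ?_, add_zero]
  · refine Eq.trans (congrArg (Cech.val P U x) (funext fun k => ?_)) (Cech.val_taut P U x a)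
    exact Sigma.ext (by simp) (Subsingleton.helim (by simp) _ _)
  · refine congrArg (Cech.val P U x) (funext fun k => ?_)
    obtain rfl : k = 0 := Fin.ext (by omega)
    exact Sigma.ext (by simp) (Subsingleton.helim (by simp) _ _)

theorem φ₀_d (s : P.obj (op (iSup U))) : (Cech.cx P U).d 0 1 (φ₀ P U s) = 0 := by
  refine Cech.ext P U fun a => ?_
  rw [Cech.ev_eq_val_taut, Cech.val_d, Fin.sum_univ_two, val_φ₀, val_φ₀, Fin.val_zero, pow_zero, one_zsmul,
    Fin.val_one, pow_one, neg_one_zsmul, map_zero]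
  exact add_neg_cancel _

include hi in
/-- The Čech complex of a family containing its union is homotopy equivalent to the sections on the union. -/
theorem nonempty_homotopyEquiv :
    Nonempty (HomotopyEquiv ((CochainComplex.single₀ AddCommGrpCat.{u}).obj (P.obj (op (iSup U))))
      (Cech.cx P U)) := by
  let f : (CochainComplex.single₀ AddCommGrpCat.{u}).obj (P.obj (op (iSup U))) ⟶ Cech.cx P U :=
    ((CochainComplex.fromSingle₀Equiv _ _).symm ⟨φ₀ P U, by ext s; exact φ₀_d P U s⟩)
  let g : Cech.cx P U ⟶ (CochainComplex.single₀ AddCommGrpCat.{u}).obj (P.obj (op (iSup U))) :=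
    (CochainComplex.toSingle₀Equiv _ _).symm (ψ₀ P U i hi)
  have hf : f.f 0 = φ₀ P U := by
    simp [f, CochainComplex.fromSingle₀Equiv]
  have hg : g.f 0 = ψ₀ P U i hi := by
    simp [g, CochainComplex.toSingle₀Equiv]
  refine ⟨{ hom := f, inv := g, homotopyHomInvId := Homotopy.ofEq ?_, homotopyInvHomId := Homotopy.symm ?_ }⟩
  · apply HomologicalComplex.from_single_hom_ext
    rw [HomologicalComplex.comp_f, hf, hg, HomologicalComplex.id_f]
    ext s
    show Cech.val P U (φ₀ P U s) _ = s
    rw [val_φ₀]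
    exact ConcreteCategory.congr_hom (P.map_id (op (iSup U))) s
  · refine
      { hom := fun a b => if hab : b + 1 = a then eqToHom (congrArg (Cech.cx P U).X hab.symm) ≫ h P U i hi b else 0
        zero := fun a b hab => dif_neg hab
        comm := fun n => ?_ }
    rcases n with _ | n
    · rw [Homotopy.dNext_cochainComplex, Homotopy.prevD_zero_cochainComplex, add_zero, dif_pos rfl]
      ext x
      show x = h P U i hi 0 ((Cech.cx P U).d 0 1 x) + f.f 0 (g.f 0 x)
      rw [hf, hg]
      exact (h_d_zero P U i hi x).symm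
    · rw [Homotopy.dNext_cochainComplex, Homotopy.prevD_succ_cochainComplex, dif_pos rfl, dif_pos rfl]
      have hgz : g.f (n + 1) = 0 := (HomologicalComplex.isZero_single_obj_X _ _ _ (n + 1) (by simp)).eq_of_tgt _ _
      rw [HomologicalComplex.comp_f, hgz, zero_comp, add_zero]
      ext x
      exact (h_d_succ P U i hi n x).symm

end Groth.Agent.SiteDer16.CechHomotopy
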