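import Groth.Agent.SiteDer16.AbTower
import Groth.Agent.SiteDer16.RlimSites
import Mathlib.CategoryTheory.Limits.Preserves.Limits
import Mathlib.Algebra.Homology.HomologicalComplexLimits

/-! Cohomology sheaves of limits of complexes. -/

set_option autoImplicit false
set_option backward.isDefEq.respectTransparency false
set_option linter.style.haveILetI false

universe u

open CategoryTheory CategoryTheory.Limits HomologicalComplex Opposite

namespace Groth.Agent.SiteDer16

variable {C : Type u} [SmallCategory C] {J : GrothendieckTopology C}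

/-- A map of complexes of sheaves inducing isomorphisms on cohomology of sections over a covering class
induces an isomorphism of cohomology sheaves. -/
theorem isIso_homologyMap_of_sections {P Q : CochainComplex (Sheaf J AddCommGrpCat.{u}) ℤ} (φ : P ⟶ Q) (m : ℤ)
    (B : Set C)
    (hB : ∀ U : C, ∃ (ι : Type u) (Y : ι → C) (f : ∀ i, Y i ⟶ U), Sieve.ofArrows Y f ∈ J U ∧ ∀ i, Y i ∈ B)
    (hinj : ∀ U ∈ B, ∀ (z : (P.X m).obj.obj (op U)) (b' : (Q.X (m - 1)).obj.obj (op U)),
      (P.d m (m + 1)).hom.app (op U) z = 0 → (Q.d (m - 1) m).hom.app (op U) b' = (φ.f m).hom.app (op U) z →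
      ∃ b : (P.X (m - 1)).obj.obj (op U), (P.d (m - 1) m).hom.app (op U) b = z)
    (hsurj : ∀ U ∈ B, ∀ w : (Q.X m).obj.obj (op U), (Q.d m (m + 1)).hom.app (op U) w = 0 →
      ∃ z : (P.X m).obj.obj (op U), (P.d m (m + 1)).hom.app (op U) z = 0 ∧
        ∃ b : (Q.X (m - 1)).obj.obj (op U), (φ.f m).hom.app (op U) z = w + (Q.d (m - 1) m).hom.app (op U) b) :
    IsIso (homologyMap φ m) := by
  let S := abSections J
  have hm : (ComplexShape.up ℤ).prev m = m - 1 := by simp
  have hex : ∀ E : CochainComplex (Sheaf J AddCommGrpCat.{u}) ℤ,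
      (ShortComplex.mk (E.toCycles (m - 1) m) (E.homologyπ m) (by simp)).Exact :=
    fun E => ShortComplex.exact_of_g_is_cokernel _ (E.homologyIsCokernel (m - 1) m hm)
  let ev : ∀ {F : Sheaf J AddCommGrpCat.{u}} {W : C}, (S.P.obj W ⟶ F) ≃+ F.obj.obj (op W) := fun {F W} => SiteCoh.homEquiv W F
  have hlift0 : ∀ (E : CochainComplex (Sheaf J AddCommGrpCat.{u}) ℤ) {V : C} (c : S.P.obj V ⟶ E.cycles m),
      c ≫ E.homologyπ m = 0 → ∃ T ∈ J V, ∀ ⦃W : C⦄ (g : W ⟶ V), T g →
        ∃ b : S.P.obj W ⟶ E.X (m - 1), b ≫ E.d (m - 1) m = S.P.map g ≫ c ≫ E.iCycles m := by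
    intro E V c hc
    obtain ⟨A', π, _, b, hb⟩ := (hex E).exact_up_to_refinements c hc
    let P' := pullback c (E.toCycles (m - 1) m)
    haveI : Epi (pullback.fst c (E.toCycles (m - 1) m)) := epi_of_epi_fac (pullback.lift_fst π b hb)
    obtain ⟨T, hT, hl⟩ := S.lift (pullback.fst c (E.toCycles (m - 1) m)) (𝟙 _)
    refine ⟨T, hT, fun W g hg => ?_⟩
    obtain ⟨q, hq⟩ := hl g hg
    refine ⟨q ≫ pullback.snd _ _, ?_⟩
    rw [← E.toCycles_i (m - 1) m, Category.assoc, ← pullback.condition_assoc, reassoc_of% hq]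
  haveI : Mono (homologyMap φ m) := Preadditive.mono_of_kernel_iso_zero ((S.gen fun V x => by
    rw [← cancel_mono (kernel.ι (homologyMap φ m)), zero_comp]
    obtain ⟨T, hT, hl⟩ := S.lift (P.homologyπ m) (x ≫ kernel.ι (homologyMap φ m))
    refine S.sep _ T hT fun W g hg => ?_
    obtain ⟨c, hc⟩ := hl g hg
    obtain ⟨T', hT', hl'⟩ := hlift0 Q (c ≫ cyclesMap φ m) (by
      rw [Category.assoc, ← homologyπ_naturality, reassoc_of% hc, kernel.condition, comp_zero, comp_zero])
    obtain ⟨ι, Yc, f, h1, h2, h3⟩ := exists_refinement B hB T' hT'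
    refine S.sep _ _ h2 ?_
    rintro W' a ⟨_, a', _, ⟨i⟩, rfl⟩
    obtain ⟨b', hb'⟩ := hl' (f i) (h1 i)
    let z : S.P.obj (Yc i) ⟶ P.X m := S.P.map (f i) ≫ c ≫ P.iCycles m
    obtain ⟨b, hb⟩ := hinj _ (h3 i) (ev z) (ev b') (by
        refine (SiteCoh.homEquiv_postcomp z (P.d m (m + 1))).symm.trans ?_
        simp [z]) (by
        refine (SiteCoh.homEquiv_postcomp b' (Q.d (m - 1) m)).symm.trans
          ((congrArg _ ?_).trans (SiteCoh.homEquiv_postcomp z (φ.f m)))
        simp [z, hb'])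
    have hzb : ev.symm b ≫ P.toCycles (m - 1) m = S.P.map (f i) ≫ c := by
      rw [← cancel_mono (P.iCycles m), Category.assoc, toCycles_i, Category.assoc]
      apply ev.injective
      refine (SiteCoh.homEquiv_postcomp _ _).trans ?_
      rw [show SiteCoh.homEquiv (Yc i) (P.X (m - 1)) (ev.symm b) = b from ev.apply_symm_apply b]
      exact hb
    rw [Functor.map_comp, Category.assoc, ← hc, ← reassoc_of% hzb]
    simp).isoZero)
  haveI : Epi (homologyMap φ m) := Preadditive.epi_of_cokernel_iso_zero ((S.gen fun V x => by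
    obtain ⟨T, hT, hl⟩ := S.lift (Q.homologyπ m ≫ cokernel.π (homologyMap φ m)) x
    obtain ⟨ι, Yc, f, h1, h2, h3⟩ := exists_refinement B hB T hT
    refine S.sep _ _ h2 ?_
    rintro W' a ⟨_, a', _, ⟨i⟩, rfl⟩
    obtain ⟨c', hc'⟩ := hl (f i) (h1 i)
    obtain ⟨z, hz, b, hb⟩ := hsurj _ (h3 i) (ev (c' ≫ Q.iCycles m)) (by
      refine (SiteCoh.homEquiv_postcomp (c' ≫ Q.iCycles m) (Q.d m (m + 1))).symm.trans ?_
      simp)
    let z' : S.P.obj (Yc i) ⟶ P.X m := ev.symm z
    have hz' : z' ≫ P.d m (m + 1) = 0 := by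
      apply ev.injective
      rw [map_zero]
      exact (SiteCoh.homEquiv_postcomp z' (P.d m (m + 1))).trans ((congrArg _ (ev.apply_symm_apply z)).trans hz)
    let cz : S.P.obj (Yc i) ⟶ P.cycles m := P.liftCycles z' (m + 1) (by simp) hz'
    have hcz : cz ≫ cyclesMap φ m = c' + ev.symm b ≫ Q.toCycles (m - 1) m := by
      rw [← cancel_mono (Q.iCycles m), Category.assoc, cyclesMap_i, Preadditive.add_comp, Category.assoc, toCycles_i,
        P.liftCycles_i_assoc]
      apply ev.injective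
      rw [map_add]
      refine (SiteCoh.homEquiv_postcomp z' (φ.f m)).trans ?_
      refine ((congrArg _ (ev.apply_symm_apply z)).trans hb).trans (congrArg (ev (c' ≫ Q.iCycles m) + ·) ?_)
      exact ((SiteCoh.homEquiv_postcomp _ _).trans (congrArg _ (ev.apply_symm_apply b))).symm
    have h0 : cz ≫ P.homologyπ m ≫ homologyMap φ m = c' ≫ Q.homologyπ m := by
      rw [homologyπ_naturality, ← Category.assoc, hcz, Preadditive.add_comp, Category.assoc, toCycles_comp_homologyπ,
        comp_zero, add_zero]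
    rw [Functor.map_comp, Category.assoc, ← hc', ← reassoc_of% h0]
    simp).isoZero)
  exact isIso_of_mono_of_epi _

/-- Sections of a limit of complexes are compatible families. -/
theorem exists_limit_section (F : ℕ → CochainComplex (Sheaf J AddCommGrpCat.{u}) ℤ) (t : ∀ n, F (n + 1) ⟶ F n)
    (j : ℤ) (U : C) (s : ∀ n, ((F n).X j).obj.obj (op U)) (hs : ∀ n, ((t n).f j).hom.app (op U) (s (n + 1)) = s n) :
    ∃ x : ((limit (CohCx.opSequence F t)).X j).obj.obj (op U),
      ∀ n, ((limit.π (CohCx.opSequence F t) (op n)).f j).hom.app (op U) x = s n := by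
  let G := HomologicalComplex.eval (Sheaf J AddCommGrpCat.{u}) (ComplexShape.up ℤ) j ⋙ sheafToPresheaf J AddCommGrpCat.{u} ⋙
    (evaluation Cᵒᵖ AddCommGrpCat.{u}).obj (op U) ⋙ forget AddCommGrpCat.{u}
  let hl := isLimitOfPreserves G (limit.isLimit (CohCx.opSequence F t))
  let c : Cone (CohCx.opSequence F t ⋙ G) :=
    { pt := PUnit.{u + 1}
      π := NatTrans.ofOpSequence (fun n => TypeCat.ofHom fun _ => s n) (fun n => by
        ext
        refine (hs n).symm.trans ?_
        dsimp only [CohCx.opSequence, Functor.comp_map]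
        erw [Functor.ofOpSequence_map_homOfLE_succ]
        rfl) }
  exact ⟨hl.lift c PUnit.unit, fun n => ConcreteCategory.congr_hom (hl.fac c (op n)) PUnit.unit⟩

theorem limit_section_ext (F : ℕ → CochainComplex (Sheaf J AddCommGrpCat.{u}) ℤ) (t : ∀ n, F (n + 1) ⟶ F n)
    (j : ℤ) (U : C) (x y : ((limit (CohCx.opSequence F t)).X j).obj.obj (op U))
    (h : ∀ n, ((limit.π (CohCx.opSequence F t) (op n)).f j).hom.app (op U) x =
      ((limit.π (CohCx.opSequence F t) (op n)).f j).hom.app (op U) y) : x = y := by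
  let G := HomologicalComplex.eval (Sheaf J AddCommGrpCat.{u}) (ComplexShape.up ℤ) j ⋙ sheafToPresheaf J AddCommGrpCat.{u} ⋙
    (evaluation Cᵒᵖ AddCommGrpCat.{u}).obj (op U) ⋙ forget AddCommGrpCat.{u}
  exact Concrete.isLimit_ext _ (isLimitOfPreserves G (limit.isLimit (CohCx.opSequence F t))) x y fun n => h n.unop

theorem limit_π_comp (F : ℕ → CochainComplex (Sheaf J AddCommGrpCat.{u}) ℤ) (t : ∀ n, F (n + 1) ⟶ F n) (n : ℕ) :
    limit.π (CohCx.opSequence F t) (op (n + 1)) ≫ t n = limit.π (CohCx.opSequence F t) (op n) := by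
  have := limit.w (CohCx.opSequence F t) (homOfLE (Nat.le_succ n)).op
  erw [Functor.ofOpSequence_map_homOfLE_succ] at this
  exact this

/-- The cohomology sheaf of a limit of complexes. -/
theorem isIso_homology_limit (F : ℕ → CochainComplex (Sheaf J AddCommGrpCat.{u}) ℤ) (t : ∀ n, F (n + 1) ⟶ F n) (m : ℤ)
    (B : Set C)
    (hB : ∀ U : C, ∃ (ι : Type u) (Y : ι → C) (f : ∀ i, Y i ⟶ U), Sieve.ofArrows Y f ∈ J U ∧ ∀ i, Y i ∈ B)
    (n₀ : ℕ)
    (ha : ∀ U ∈ B, ∀ j : ℤ, (j = m - 2 ∨ j = m - 1) →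
      CohCx.LimOneIsZero (fun n => ((F n).X j).obj.obj (op U)) (fun n => (((t n).f j).hom.app (op U)).hom))
    (hb : ∀ U ∈ B, CohCx.LimOneIsZero
      (fun n => ((CohCx.sectCx J U).obj (F n)).homology (m - 1))
      (fun n => (HomologicalComplex.homologyMap ((CohCx.sectCx J U).map (t n)) (m - 1)).hom))
    (hc : ∀ U ∈ B, ∀ k : ℕ, IsIso (HomologicalComplex.homologyMap
      ((CohCx.sectCx J U).map (CohCx.transition F t n₀ k)) m)) :
    IsIso (HomologicalComplex.homologyMap (limit.π (CohCx.opSequence F t) (op n₀)) m) := by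
  have tail : ∀ {A : ℕ → Type u} [∀ n, AddCommGroup (A n)] (s : ∀ n, A (n + 1) →+ A n), CohCx.LimOneIsZero A s →
      ∀ N, CohCx.LimOneIsZero (fun k => A (N + k)) (fun k => s (N + k)) := by
    intro A _ s hA N z
    have hy : ∀ n, ∃ y : A n, ∀ k (h : N + k = n), y = h ▸ z k := fun n => by
      by_cases h : N ≤ n
      · obtain ⟨k, rfl⟩ := Nat.exists_eq_add_of_le h
        exact ⟨z k, fun k' h' => by
          obtain rfl : k' = k := by omega
          rfl⟩
      · exact ⟨0, fun k' h' => absurd h' (by omega)⟩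
    choose y hy using hy
    obtain ⟨w, hw⟩ := hA y
    exact ⟨fun k => w (N + k), funext fun k => (congrFun hw (N + k)).trans (hy (N + k) k rfl)⟩
  refine isIso_homologyMap_of_sections (limit.π (CohCx.opSequence F t) (op n₀)) m B hB (fun U hU z b' hz hb' => ?_)
    (fun U hU w hw => ?_)
  all_goals
    let Γ := CohCx.sectCx J U
    let G : ℕ → CochainComplex AddCommGrpCat.{u} ℤ := fun k => Γ.obj (F (n₀ + k))
    let s : ∀ k, G (k + 1) ⟶ G k := fun k => Γ.map (t (n₀ + k))
    let T : ∀ k, G k ⟶ G 0 := fun k => Γ.map (CohCx.transition F t n₀ k)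
    have hT0 : T 0 = 𝟙 _ := Γ.map_id _
    have hT : ∀ k, s k ≫ T k = T (k + 1) := fun k => (Γ.map_comp _ _).symm
    have hbij : ∀ k, Function.Bijective (HomologicalComplex.homologyMap (T k) m) := fun k =>
      (ConcreteCategory.isIso_iff_bijective _).1 (hc U hU k)
    have l1 : CohCx.LimOneIsZero (fun k => (G k).X (m - 1)) (fun k => ((s k).f (m - 1)).hom) :=
      tail _ (ha U hU (m - 1) (Or.inr rfl)) n₀
    have hπ : ∀ (n : ℕ) (j : ℤ) x, ((t n).f j).hom.app (op U) (((limit.π (CohCx.opSequence F t) (op (n + 1))).f j).hom.app (op U) x) =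
        ((limit.π (CohCx.opSequence F t) (op n)).f j).hom.app (op U) x := fun n j x =>
      ConcreteCategory.congr_hom (congrArg (fun φ => (φ.f j).hom.app (op U)) (limit_π_comp F t n)) x
    have hd : ∀ (n : ℕ) (i j : ℤ) x, ((limit.π (CohCx.opSequence F t) (op n)).f j).hom.app (op U)
          (((limit (CohCx.opSequence F t)).d i j).hom.app (op U) x) =
        ((F n).d i j).hom.app (op U) (((limit.π (CohCx.opSequence F t) (op n)).f i).hom.app (op U) x) := fun n i j x =>
      AbTower.map_d (Γ.map (limit.π (CohCx.opSequence F t) (op n))) i j x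
  · let zz : ∀ n, ((F n).X m).obj.obj (op U) := fun n => ((limit.π (CohCx.opSequence F t) (op n)).f m).hom.app (op U) z
    obtain ⟨b, hbs, hbd⟩ := AbTower.exists_compatible_boundary G s T hT0 hT m (tail _ (ha U hU (m - 2) (Or.inl rfl)) n₀)
      (tail _ (hb U hU) n₀) (fun k => (hbij k).1) (fun k => zz (n₀ + k))
      (fun k => by
        show ((F (n₀ + k)).d m (m + 1)).hom.app (op U) _ = 0
        rw [← hd, hz, map_zero])
      (fun k => hπ (n₀ + k) m z) b' hb'
    obtain ⟨bb, hbb, hbb'⟩ := AbTower.exists_extension (fun n => ((F n).X (m - 1)).obj.obj (op U))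
      (fun n => ((t n).f (m - 1)).hom.app (op U)) n₀ b hbs
    obtain ⟨x, hx⟩ := exists_limit_section F t (m - 1) U bb hbb
    refine ⟨x, limit_section_ext F t m U _ _ fun n => ?_⟩
    rw [hd, hx]
    induction hk : (n₀ - n) generalizing n with
    | zero =>
      obtain ⟨k, rfl⟩ := Nat.exists_eq_add_of_le (show n₀ ≤ n by omega)
      rw [hbb']
      exact hbd k
    | succ p ih =>
      rw [← hbb n, ← hπ n m z, ← ih (n + 1) (by omega)]
      exact (AbTower.map_d (Γ.map (t n)) (m - 1) m (bb (n + 1))).symm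
  · obtain ⟨v, hvs, hvd, b, hb0⟩ := AbTower.exists_compatible_cycle G s T hT0 hT m l1 hbij w hw
    obtain ⟨vv, hvv, hvv'⟩ := AbTower.exists_extension (fun n => ((F n).X m).obj.obj (op U))
      (fun n => ((t n).f m).hom.app (op U)) n₀ v hvs
    obtain ⟨x, hx⟩ := exists_limit_section F t m U vv hvv
    refine ⟨x, limit_section_ext F t (m + 1) U _ _ fun n => ?_, b, ?_⟩
    · rw [hd, hx, map_zero]
      induction hk : (n₀ - n) generalizing n with
      | zero =>
        obtain ⟨k, rfl⟩ := Nat.exists_eq_add_of_le (show n₀ ≤ n by omega)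
        rw [hvv']
        exact hvd k
      | succ p ih =>
        rw [← hvv n]
        exact (AbTower.map_d (Γ.map (t n)) m (m + 1) (vv (n + 1))).symm.trans
          ((congrArg _ (ih (n + 1) (by omega))).trans (map_zero _))
    · rw [hx]
      exact (hvv' 0).trans hb0

end Groth.Agent.SiteDer16
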