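import Groth.Agent.SiteCoh.Cech
import Groth.Prelude.Def_CohTop
import Mathlib.Topology.Sheaves.SheafCondition.UniqueGluing
import Mathlib.Order.Zorn
import Mathlib.Data.Fintype.Lattice

/-! Čech vanishing from surjective restrictions. -/

set_option autoImplicit false
set_option backward.isDefEq.respectTransparency false
set_option linter.style.haveILetI false

universe u

open CategoryTheory CategoryTheory.Limits Opposite TopologicalSpace

namespace Groth.Agent.SiteDer16.CechSurj

section Alt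

variable {ι : Type u} {M N : Type u} [AddCommGroup M] [AddCommGroup N]

/-- The alternating sum over faces. -/
def alt {n : ℕ} (g : (Fin n → ι) → M) (a : Fin (n + 1) → ι) : M :=
  ∑ j : Fin (n + 1), (-1 : ℤ) ^ (j : ℕ) • g (a ∘ j.succAbove)

theorem alt_cons {n : ℕ} (g : (Fin (n + 1) → ι) → M) (z : ι) (a : Fin (n + 1) → ι) :
    alt g (Fin.cons z a) = g a - alt (fun b => g (Fin.cons z b)) a := by
  rw [alt, Fin.sum_univ_succ, alt, sub_eq_add_neg, ← Finset.sum_neg_distrib]
  refine congrArg₂ (· + ·) ?_ (Finset.sum_congr rfl fun i _ => ?_)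
  · rw [Fin.val_zero, pow_zero, one_zsmul]
    exact congrArg g (funext fun k => by simp)
  · rw [Fin.val_succ, pow_succ', neg_one_mul, neg_zsmul]
    refine congrArg (fun t => -((-1 : ℤ) ^ (i : ℕ) • g t)) (funext fun k => ?_)
    cases k using Fin.cases <;> simp

theorem alt_sub {n : ℕ} (g h : (Fin n → ι) → M) (a : Fin (n + 1) → ι) : alt (fun b => g b - h b) a = alt g a - alt h a := by
  simp [alt, zsmul_sub, Finset.sum_sub_distrib]

theorem alt_add {n : ℕ} (g h : (Fin n → ι) → M) (a : Fin (n + 1) → ι) : alt (fun b => g b + h b) a = alt g a + alt h a := by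
  simp [alt, zsmul_add, Finset.sum_add_distrib]

theorem map_alt {n : ℕ} (φ : M →+ N) (g : (Fin n → ι) → M) (a : Fin (n + 1) → ι) :
    φ (alt g a) = alt (fun b => φ (g b)) a := by
  simp [alt, map_sum, map_zsmul]

theorem alt_congr {n : ℕ} {g h : (Fin n → ι) → M} (a : Fin (n + 1) → ι)
    (e : ∀ j : Fin (n + 1), g (a ∘ j.succAbove) = h (a ∘ j.succAbove)) : alt g a = alt h a :=
  Finset.sum_congr rfl fun j _ => congrArg _ (e j)

theorem alt_alt {n : ℕ} (g : (Fin n → ι) → M) (a : Fin (n + 2) → ι) : alt (fun b => alt g b) a = 0 := by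
  induction n with
  | zero =>
    have h1 : ∀ b : Fin 1 → ι, alt g b = g ![] := fun b => by
      rw [alt]
      refine (Fin.sum_univ_one _).trans ?_
      simp only [Fin.val_zero, pow_zero, one_zsmul]
      exact congrArg g (Subsingleton.elim _ _)
    rw [alt, Fin.sum_univ_two]
    simp [h1]
  | succ n ih =>
    rw [← Fin.cons_self_tail a, alt_cons]
    simp only [alt_cons, alt_sub, ih]
    simp

end Alt

variable {X : TopCat.{u}} (F : CohTop.Ab X) {ι : Type u} (U : ι → Opens X)

/-- Restriction. -/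
noncomputable abbrev res {V W : Opens X} (h : W ≤ V) : F.obj.obj (op V) →+ F.obj.obj (op W) :=
  (F.obj.map (homOfLE h).op).hom

theorem res_res {V W Y : Opens X} (h : W ≤ V) (h' : Y ≤ W) (s : F.obj.obj (op V)) :
    res F h' (res F h s) = res F (h'.trans h) s :=
  (ConcreteCategory.congr_hom (F.obj.map_comp (homOfLE h).op (homOfLE h').op) s).symm

theorem res_self {V : Opens X} (h : V ≤ V) (s : F.obj.obj (op V)) : res F h s = s :=
  ConcreteCategory.congr_hom (F.obj.map_id (op V)) s

/-- The component of a cochain on an open. -/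
noncomputable def xv {p : ℕ} (x : (SiteCoh.Cech.cx F.obj U).X p) (V : Opens X) (a : Fin (p + 1) → ι)
    (h : ∀ k, V ≤ U (a k)) : F.obj.obj (op V) :=
  SiteCoh.Cech.val F.obj U x fun k => ⟨a k, homOfLE (h k)⟩

theorem res_xv {p : ℕ} (x : (SiteCoh.Cech.cx F.obj U).X p) {V W : Opens X} (h : W ≤ V) (a : Fin (p + 1) → ι)
    (hV : ∀ k, V ≤ U (a k)) : res F h (xv F U x V a hV) = xv F U x W a fun k => h.trans (hV k) :=
  SiteCoh.Cech.map_val F.obj U x (homOfLE h) _

open Classical in
/-- The component, extended by zero. -/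
noncomputable def xv' {p : ℕ} (x : (SiteCoh.Cech.cx F.obj U).X p) (V : Opens X) (a : Fin (p + 1) → ι) : F.obj.obj (op V) :=
  if h : ∀ k, V ≤ U (a k) then xv F U x V a h else 0

theorem xv_d {p : ℕ} (x : (SiteCoh.Cech.cx F.obj U).X p) (V : Opens X) (a : Fin (p + 2) → ι) (h : ∀ k, V ≤ U (a k)) :
    xv F U ((SiteCoh.Cech.cx F.obj U).d p (p + 1) x) V a h = alt (xv' F U x V) a := by
  refine (SiteCoh.Cech.val_d F.obj U x _).trans (Finset.sum_congr rfl fun j _ => congrArg _ ?_)
  refine Eq.trans ?_ (dif_pos (fun k => h (j.succAbove k))).symm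
  rfl

/-- Partial primitives of a cochain over an open. -/
structure Sol {p : ℕ} (x : (SiteCoh.Cech.cx F.obj U).X (p + 1)) (W : Opens X) where
  b : (Fin (p + 1) → ι) → ∀ V : Opens X, F.obj.obj (op V)
  nat : ∀ a {V V' : Opens X} (h : V' ≤ V), V ≤ W → (∀ k, V ≤ U (a k)) → res F h (b a V) = b a V'
  eq : ∀ (a : Fin (p + 2) → ι) (V : Opens X) (h : ∀ k, V ≤ U (a k)), V ≤ W → alt (fun t => b t V) a = xv F U x V a h

variable {F U} {p : ℕ} {x : (SiteCoh.Cech.cx F.obj U).X (p + 1)}

/-- Agreement on the common part. -/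
def Agree {W W' : Opens X} (s : Sol F U x W) (s' : Sol F U x W') : Prop :=
  ∀ a (V : Opens X), (∀ k, V ≤ U (a k)) → V ≤ W → V ≤ W' → s.b a V = s'.b a V

theorem exists_glue {κ : Type u} (W : κ → Opens X) (s : ∀ m, Sol F U x (W m)) (hs : ∀ m n, Agree (s m) (s n)) :
    ∃ t : Sol F U x (⨆ m, W m), ∀ m, Agree (s m) t := by
  classical
  have hex : ∀ a (V : Opens X), ∃ y : F.obj.obj (op V), V ≤ (⨆ m, W m) → (∀ k, V ≤ U (a k)) →
      ∀ m (V' : Opens X) (h : V' ≤ V), V' ≤ W m → res F h y = (s m).b a V' := by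
    intro a V
    by_cases hV : V ≤ (⨆ m, W m) ∧ ∀ k, V ≤ U (a k)
    · obtain ⟨y, hy, -⟩ := TopCat.Sheaf.existsUnique_gluing' F (fun m => V ⊓ W m) V (fun m => homOfLE inf_le_left)
        (by rw [← inf_iSup_eq]; exact le_inf le_rfl hV.1) (fun m => (s m).b a (V ⊓ W m)) (fun m n => by
          show res F inf_le_left ((s m).b a (V ⊓ W m)) = res F inf_le_right ((s n).b a (V ⊓ W n))
          rw [(s m).nat a _ inf_le_right fun k => inf_le_left.trans (hV.2 k),
            (s n).nat a _ inf_le_right fun k => inf_le_left.trans (hV.2 k)]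
          exact hs m n a _ (fun k => inf_le_left.trans (inf_le_left.trans (hV.2 k)))
            (inf_le_left.trans inf_le_right) (inf_le_right.trans inf_le_right))
      refine ⟨y, fun _ _ m V' h hm => ?_⟩
      rw [← res_res F (show V ⊓ W m ≤ V from inf_le_left) (le_inf h hm) y]
      refine (congrArg (res F (le_inf h hm)) (hy m)).trans ?_
      exact (s m).nat a _ inf_le_right fun k => inf_le_left.trans (hV.2 k)
    · exact ⟨0, fun h h' => absurd ⟨h, h'⟩ hV⟩
  choose y hy using hex
  have huniq : ∀ (V : Opens X), V ≤ (⨆ m, W m) → ∀ u v : F.obj.obj (op V),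
      (∀ m, res F (inf_le_left : V ⊓ W m ≤ V) u = res F (inf_le_left : V ⊓ W m ≤ V) v) → u = v :=
    fun V hV u v h => TopCat.Sheaf.eq_of_locally_eq' F (fun m => V ⊓ W m) V (fun m => homOfLE inf_le_left)
      (by rw [← inf_iSup_eq]; exact le_inf le_rfl hV) u v h
  refine ⟨⟨y, fun a V V' h hV hVa => ?_, fun a V hVa hV => ?_⟩, fun m a V hVa hm hV => ?_⟩
  · refine huniq V' (h.trans hV) _ _ fun m => ?_
    rw [res_res, hy a V hV hVa m _ _ inf_le_right, hy a V' (h.trans hV) (fun k => h.trans (hVa k)) m _ _ inf_le_right]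
  · refine huniq V hV _ _ fun m => ?_
    rw [map_alt, res_xv, ← (s m).eq a (V ⊓ W m) (fun k => inf_le_left.trans (hVa k)) inf_le_right]
    exact alt_congr a fun j => hy _ V hV (fun k => hVa _) m _ _ inf_le_right
  · exact ((hy a V hV hVa m V le_rfl hm).symm.trans (res_self F _ _))

theorem exists_sol_top (hx : (SiteCoh.Cech.cx F.obj U).d (p + 1) (p + 2) x = 0)
    (hS : ∀ (n : ℕ) (κ : Type u) (a : κ → Fin (n + 1) → ι) (V : Opens X), V = (⨆ k, ⨅ j, U (a k j)) →
      ∀ h : V ≤ iSup U, Function.Surjective (res F h)) :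
    Nonempty (Sol F U x (iSup U)) := by
  classical
  have hcoc : ∀ (V : Opens X) (a : Fin (p + 3) → ι), (∀ k, V ≤ U (a k)) → alt (xv' F U x V) a = 0 := fun V a h => by
    rw [← xv_d F U x V a h, hx]
    exact (congrArg _ (map_zero _)).trans (map_zero _)
  have hxc : ∀ (V : Opens X) (j : ι) (a : Fin (p + 1) → ι), V ≤ U j → (∀ k, V ≤ U (a k)) →
      ∀ k, V ≤ U ((Fin.cons j a : Fin (p + 2) → ι) k) := fun V j a hj ha k => by
    cases k using Fin.cases with
    | zero => simpa using hj
    | succ k => simpa using ha k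
  let Pair := Σ J : Set ι, Sol F U x (⨆ j : J, U j)
  let r : Pair → Pair → Prop := fun s s' => s.1 ⊆ s'.1 ∧ Agree s.2 s'.2
  have hW : ∀ {J J' : Set ι}, J ⊆ J' → (⨆ j : J, U j) ≤ ⨆ j : J', U j :=
    fun {J J'} h => iSup_le fun j => le_iSup (fun j' : J' => U (j' : ι)) ⟨j.1, h j.2⟩
  have r_trans : ∀ {s s' s''}, r s s' → r s' s'' → r s s'' := fun {s s' s''} h h' => ⟨h.1.trans h'.1,
    fun a V ha hV hV'' => (h.2 a V ha hV (hV.trans (hW h.1))).trans (h'.2 a V ha (hV.trans (hW h.1)) hV'')⟩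
  letI : Preorder Pair :=
    { le := r, le_refl := fun s => ⟨subset_rfl, fun _ _ _ _ _ => rfl⟩, le_trans := fun _ _ _ => r_trans }
  obtain ⟨⟨J, s⟩, -, hmax⟩ : ∃ m : Pair, True ∧ ∀ y, m ≤ y → y ≤ m := by
    obtain ⟨m, hm⟩ := zorn_le (α := Pair) fun c hc => by
      obtain ⟨t, ht⟩ := exists_glue (κ := {j : ι // ∃ s ∈ c, j ∈ s.1}) (fun j => U j.1)
        (fun j => ⟨(Classical.choose j.2).2.b,
          fun a V V' h hV => (Classical.choose j.2).2.nat a h
            (hV.trans (le_iSup (fun i : (Classical.choose j.2).1 => U i.1) ⟨j.1, (Classical.choose_spec j.2).2⟩)),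
          fun a V h hV => (Classical.choose j.2).2.eq a V h
            (hV.trans (le_iSup (fun i : (Classical.choose j.2).1 => U i.1) ⟨j.1, (Classical.choose_spec j.2).2⟩))⟩)
        (fun i j a V ha hi hj => by
          rcases hc.total (Classical.choose_spec i.2).1 (Classical.choose_spec j.2).1 with h | h
          · exact h.2 a V ha
              (hi.trans (le_iSup (fun k : (Classical.choose i.2).1 => U k.1) ⟨i.1, (Classical.choose_spec i.2).2⟩))
              (hj.trans (le_iSup (fun k : (Classical.choose j.2).1 => U k.1) ⟨j.1, (Classical.choose_spec j.2).2⟩))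
          · exact (h.2 a V ha
              (hj.trans (le_iSup (fun k : (Classical.choose j.2).1 => U k.1) ⟨j.1, (Classical.choose_spec j.2).2⟩))
              (hi.trans (le_iSup (fun k : (Classical.choose i.2).1 => U k.1) ⟨i.1, (Classical.choose_spec i.2).2⟩))).symm)
      refine ⟨⟨{j | ∃ s ∈ c, j ∈ s.1}, t⟩, fun s hs => ⟨fun j hj => ⟨s, hs, hj⟩, fun a V ha hV hV' => ?_⟩⟩
      refine TopCat.Sheaf.eq_of_locally_eq' F (fun j : s.1 => V ⊓ U j.1) V (fun j => homOfLE inf_le_left)
        (by rw [← inf_iSup_eq]; exact le_inf le_rfl hV) _ _ fun j => ?_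
      let j' : {j : ι // ∃ s ∈ c, j ∈ s.1} := ⟨j.1, s, hs, j.2⟩
      show res F inf_le_left (s.2.b a V) = res F inf_le_left (t.b a V)
      rw [s.2.nat a _ hV ha, t.nat a _ hV' ha]
      have hj'' : V ⊓ U j.1 ≤ ⨆ k : (Classical.choose j'.2).1, U k.1 :=
        inf_le_right.trans (le_iSup (fun i : (Classical.choose j'.2).1 => U i.1) ⟨j'.1, (Classical.choose_spec j'.2).2⟩)
      refine Eq.trans ?_ (ht j' a _ (fun k => inf_le_left.trans (ha k)) inf_le_right (inf_le_left.trans hV'))
      rcases hc.total hs (Classical.choose_spec j'.2).1 with h | h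
      · exact h.2 a _ (fun k => inf_le_left.trans (ha k)) (inf_le_left.trans hV) hj''
      · exact (h.2 a _ (fun k => inf_le_left.trans (ha k)) hj'' (inf_le_left.trans hV)).symm
    exact ⟨m, trivial, fun y hy => hm hy⟩
  suffices hJ : ∀ j, j ∈ J by
    have : (⨆ j : J, U j) = iSup U :=
      le_antisymm (iSup_le fun j => le_iSup U j.1) (iSup_le fun j => le_iSup (fun i : J => U i.1) ⟨j, hJ j⟩)
    exact ⟨this ▸ s⟩
  intro j₀
  let W : Opens X := ⨆ j : J, U j
  have hEx : ∀ t : Fin p → ι, ∃ g : F.obj.obj (op (iSup U)), ∀ (V : Opens X) (h : V ≤ iSup U) (hj : V ≤ U j₀),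
      V ≤ W → (∀ k, V ≤ U (t k)) →
        res F h g = s.b (Fin.cons j₀ t) V - xv' F U x V (Fin.cons j₀ (Fin.cons j₀ t)) := by
    intro t
    let a : J → Fin (p + 2) → ι := fun j => Fin.cons j.1 (Fin.cons j₀ t)
    let Vt : Opens X := ⨆ j : J, ⨅ k, U (a j k)
    have hle : Vt ≤ iSup U := iSup_le fun j => (iInf_le _ 0).trans (le_iSup U _)
    have hVj : Vt ≤ U j₀ := iSup_le fun j => (iInf_le _ 1).trans (by simp [a])
    have hVt : ∀ k, Vt ≤ U (t k) := fun k => iSup_le fun j => (iInf_le _ k.succ.succ).trans (by simp [a])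
    have hVW : Vt ≤ W := iSup_le fun j => ((iInf_le _ 0).trans (by simp [a])).trans (le_iSup (fun i : J => U i.1) j)
    obtain ⟨g, hg⟩ := hS (p + 1) J a Vt rfl hle (s.b (Fin.cons j₀ t) Vt - xv' F U x Vt (Fin.cons j₀ (Fin.cons j₀ t)))
    refine ⟨g, fun V h hj hW' ht => ?_⟩
    have hV : V ≤ Vt := by
      intro y hy
      obtain ⟨j, hyj⟩ := Opens.mem_iSup.1 (hW' hy)
      refine Opens.mem_iSup.2 ⟨j, ?_⟩
      have : ∀ k, y ∈ U (a j k) := fun k => by
        cases k using Fin.cases with
        | zero => simpa [a] using hyj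
        | succ k =>
          cases k using Fin.cases with
          | zero => simpa [a] using hj hy
          | succ k => simpa [a] using ht k hy
      rw [← Finset.inf_univ_eq_iInf (fun k => U (a j k)), ← SetLike.mem_coe, Opens.coe_finset_inf]
      simpa using this
    have hc1 : ∀ k, Vt ≤ U ((Fin.cons j₀ t : Fin (p + 1) → ι) k) := fun k => by
      cases k using Fin.cases with
      | zero => simpa using hVj
      | succ k => simpa using hVt k
    have hc2 := hxc Vt j₀ (Fin.cons j₀ t) hVj hc1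
    rw [← res_res F hle hV g, hg, map_sub, s.nat _ hV hVW hc1, xv', dif_pos hc2, res_xv, xv', dif_pos]
  choose g hg using hEx
  let bj : (Fin (p + 1) → ι) → ∀ V : Opens X, F.obj.obj (op V) := fun a V =>
    xv' F U x V (Fin.cons j₀ a) + alt (fun t => if h : V ≤ iSup U then res F h (g t) else 0) a
  let sj : Sol F U x (U j₀) :=
    { b := bj
      nat := fun a V V' h hV ha => by
        have hV' : V ≤ iSup U := hV.trans (le_iSup U j₀)
        simp only [bj, map_add, map_alt, dif_pos hV', dif_pos (h.trans hV'), res_res]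
        rw [xv', dif_pos (hxc V j₀ a hV ha), res_xv, xv', dif_pos]
      eq := fun a V h hV => by
        simp only [bj, alt_add, alt_alt, add_zero]
        have h0 := hcoc V (Fin.cons j₀ a) (fun k => by
          cases k using Fin.cases with
          | zero => simpa using hV
          | succ k => simpa using h k)
        rw [alt_cons, sub_eq_zero] at h0
        rw [← h0, xv', dif_pos h] }
  have hag : Agree s sj := fun a V ha hV hj => by
    show s.b a V = bj a V
    have hU : V ≤ iSup U := hj.trans (le_iSup U j₀)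
    have e1 : alt (fun t => if h : V ≤ iSup U then res F h (g t) else 0) a =
        alt (fun t => s.b (Fin.cons j₀ t) V - xv' F U x V (Fin.cons j₀ (Fin.cons j₀ t))) a :=
      alt_congr a fun j => by
        rw [dif_pos hU]
        exact hg _ V hU hj hV fun k => ha _
    have h1 := s.eq (Fin.cons j₀ a) V (hxc V j₀ a hj ha) hV
    rw [alt_cons] at h1
    have h2 := hcoc V (Fin.cons j₀ (Fin.cons j₀ a)) (fun k => by
      cases k using Fin.cases with
      | zero => simpa using hj
      | succ k => simpa using hxc V j₀ a hj ha k)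
    rw [alt_cons, alt_cons (fun b => xv' F U x V (Fin.cons j₀ b)), sub_sub_eq_add_sub] at h2
    have h3 : xv' F U x V (Fin.cons j₀ a) = xv F U x V (Fin.cons j₀ a) (hxc V j₀ a hj ha) := dif_pos _
    simp only [bj]
    rw [e1, alt_sub, h3, ← h1]
    rw [h3, ← h1] at h2
    calc s.b a V = s.b a V - (s.b a V - alt (fun b => s.b (Fin.cons j₀ b) V) a +
            alt (fun b => xv' F U x V (Fin.cons j₀ (Fin.cons j₀ b))) a -
            (s.b a V - alt (fun b => s.b (Fin.cons j₀ b) V) a)) := by rw [h2, sub_zero]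
      _ = _ := by abel
  obtain ⟨t, ht⟩ := exists_glue (κ := ULift.{u} Bool) (fun m => if m.down then W else U j₀)
    (fun m => match m with
      | ⟨true⟩ => s
      | ⟨false⟩ => sj)
    (by
      rintro ⟨_ | _⟩ ⟨_ | _⟩
      · exact fun a V _ _ _ => rfl
      · exact fun a V ha h h' => (hag a V ha h' h).symm
      · exact hag
      · exact fun a V _ _ _ => rfl)
  have hle : (⨆ j : (insert j₀ J : Set ι), U j) ≤ ⨆ m : ULift.{u} Bool, if m.down then W else U j₀ :=
    iSup_le fun j => by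
      rcases j.2 with h | h
      · exact le_iSup_of_le ⟨false⟩ (by simp [h])
      · exact le_iSup_of_le ⟨true⟩ (le_iSup (fun i : J => U i.1) ⟨j.1, h⟩)
  let s' : Sol F U x (⨆ j : (insert j₀ J : Set ι), U j) :=
    ⟨t.b, fun a V V' h hV => t.nat a h (hV.trans hle), fun a V h hV => t.eq a V h (hV.trans hle)⟩
  exact (hmax ⟨insert j₀ J, s'⟩ ⟨Set.subset_insert _ _, fun a V ha hV hV' =>
    ht ⟨true⟩ a V ha hV (hV'.trans hle)⟩).1 (Set.mem_insert _ _)

theorem isZero_cechH
    (hS : ∀ (n : ℕ) (κ : Type u) (a : κ → Fin (n + 1) → ι) (V : Opens X), V = (⨆ k, ⨅ j, U (a k j)) →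
      ∀ h : V ≤ iSup U, Function.Surjective (res F h)) (q : ℕ) :
    IsZero (CohTop.cechH F.obj U (q + 1)) := by
  show IsZero ((SiteCoh.Cech.cx F.obj U).homology (q + 1))
  rw [SiteCoh.Cech.isZero_homology_succ_iff]
  intro x hx
  obtain ⟨s⟩ := exists_sol_top hx hS
  refine ⟨SiteCoh.Cech.mk F.obj U fun a => s.b a _, SiteCoh.Cech.ext F.obj U fun a => ?_⟩
  have hle : ∀ k, SiteCoh.Cech.inter U a ≤ U (a k) := fun k => (Pi.π (fun k => U (a k)) k).le
  rw [SiteCoh.Cech.ev_eq_val_taut, SiteCoh.Cech.ev_eq_val_taut]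
  show xv F U _ (SiteCoh.Cech.inter U a) a hle = xv F U x (SiteCoh.Cech.inter U a) a hle
  rw [xv_d, ← s.eq a _ hle ((hle 0).trans (le_iSup U _))]
  refine alt_congr a fun j => ?_
  refine (dif_pos (fun k => hle (j.succAbove k))).trans ?_
  show F.obj.map _ (SiteCoh.Cech.ev F.obj U _ _) = _
  erw [SiteCoh.Cech.ev_mk]
  have hV : SiteCoh.Cech.inter U a ≤ SiteCoh.Cech.inter U (a ∘ j.succAbove) := (SiteCoh.Cech.face U a j).le
  exact s.nat _ hV ((Pi.π (fun k => U ((a ∘ j.succAbove) k)) 0).le.trans (le_iSup U _))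
    fun k => (Pi.π (fun k => U ((a ∘ j.succAbove) k)) k).le

end Groth.Agent.SiteDer16.CechSurj
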