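import Groth.Agent.SiteDer16.ModAcyclic
import Groth.Agent.SiteCoh.FreePullback
import Mathlib.CategoryTheory.Limits.Constructions.Over.Products
import Mathlib.CategoryTheory.Limits.Preserves.Shapes.Over
import Mathlib.CategoryTheory.Limits.Constructions.FiniteProductsOfBinaryProducts
import Mathlib.CategoryTheory.Limits.Constructions.Over.Basic

/-! Total acyclicity of inverse images along functors whose left Kan extension preserves fibre products. -/

set_option autoImplicit false
set_option backward.isDefEq.respectTransparency false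
set_option backward.defeqAttrib.useBackward true
set_option linter.style.haveILetI false

universe v₁ v₂ u₁ u₂ u

open CategoryTheory CategoryTheory.Limits Opposite AlgebraicTopology
open scoped Simplicial

namespace Groth.Agent.SiteDer16

section Wide

variable {A : Type u₁} [Category.{v₁} A] [HasFiniteWidePullbacks A] [HasPullbacks A]
  {B : Type u₂} [Category.{v₂} B] [HasFiniteWidePullbacks B] [HasPullbacks B]
  (L : A ⥤ B) [PreservesLimitsOfShape WalkingCospan L] {X Y : A} (f : X ⟶ Y)

theorem preservesFiniteProducts_overPost : PreservesFiniteProducts (Over.post L (X := Y)) := by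
  haveI : HasBinaryProducts (Over Y) := CategoryTheory.Over.ConstructProducts.over_binaryProduct_of_pullback
  haveI : HasTerminal (Over Y) := Over.mkIdTerminal.hasTerminal
  haveI : HasFiniteProducts (Over Y) := hasFiniteProducts_of_has_binary_and_terminal
  haveI : PreservesLimitsOfShape (WidePullbackShape WalkingPair) L := inferInstance
  haveI : PreservesLimit (Functor.empty.{0} (Over Y)) (Over.post L (X := Y)) :=
    preservesLimit_of_preserves_limit_cone Over.mkIdTerminal
      ((isLimitMapConeEmptyConeEquiv _ _).symm (IsTerminal.ofIso (Over.mkIdTerminal (X := L.obj Y))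
        (Over.isoMk (Iso.refl _) (by simp))))
  haveI : PreservesLimitsOfShape (Discrete PEmpty.{1}) (Over.post L (X := Y)) := preservesLimitsOfShape_pempty_of_preservesTerminal _
  exact .of_preserves_binary_and_terminal _

/-- The image of a finite self fibre product, compared with the fibre product of the image. -/
noncomputable def wpComp (n : ℕ) :
    L.obj (widePullback Y (fun _ : Fin (n + 1) => X) fun _ => f) ⟶
      widePullback (L.obj Y) (fun _ : Fin (n + 1) => L.obj X) fun _ => L.map f :=
  WidePullback.lift (L.map (WidePullback.base fun _ => f)) (fun i => L.map (WidePullback.π (fun _ => f) i))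
    fun i => by rw [← L.map_comp, WidePullback.π_arrow]

theorem isIso_wpComp (n : ℕ) : IsIso (wpComp L f n) := by
  haveI := preservesFiniteProducts_overPost L (Y := Y)
  let P : Over Y := Over.mk (WidePullback.base (fun _ : Fin (n + 1) => f))
  let fan : Fan (fun _ : Fin (n + 1) => Over.mk f) :=
    Fan.mk P fun i => Over.homMk (WidePullback.π (fun _ => f) i) (WidePullback.π_arrow _ i)
  have hfan : IsLimit fan := Fan.IsLimit.mk fan
    (fun s => Over.homMk (WidePullback.lift s.pt.hom (fun i => (s.proj i).left) fun i => Over.w (s.proj i))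
      (WidePullback.lift_base _ _ _ _))
    (fun s i => by
      apply Over.OverMorphism.ext
      exact WidePullback.lift_π _ _ _ _ i)
    (fun s m h => by
      apply Over.OverMorphism.ext
      refine WidePullback.hom_ext _ _ _ (fun i => ?_) ?_
      · erw [WidePullback.lift_π]
        exact congrArg (fun m => m.left) (h i)
      · exact (Over.w m).trans (WidePullback.lift_base _ _ _ _).symm)
  have hfan' : IsLimit (Fan.mk ((Over.post L).obj P) fun i => (Over.post L).map (fan.proj i)) :=
    isLimitFanMkObjOfIsLimit (Over.post L) _ _ hfan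
  let P' : Over (L.obj Y) := Over.mk (WidePullback.base (fun _ : Fin (n + 1) => L.map f))
  let k : P' ⟶ (Over.post L).obj P := Fan.IsLimit.lift hfan' fun i =>
    Over.homMk (WidePullback.π (fun _ => L.map f) i) (WidePullback.π_arrow _ i)
  have hk : ∀ i, k.left ≫ L.map (WidePullback.π (fun _ => f) i) = WidePullback.π (fun _ => L.map f) i := fun i =>
    congrArg (fun m => m.left) (Fan.IsLimit.fac hfan' (fun i =>
      (Over.homMk (WidePullback.π (fun _ : Fin (n + 1) => L.map f) i) (WidePullback.π_arrow _ i) :
        P' ⟶ (Over.post L).obj (Over.mk f))) i)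
  refine ⟨k.left, ?_, ?_⟩
  · let c : (Over.post L).obj P ⟶ P' := Over.homMk (wpComp L f n) (WidePullback.lift_base _ _ _ _)
    have : c ≫ k = 𝟙 _ := Fan.IsLimit.hom_ext hfan' _ _ fun i => by
      apply Over.OverMorphism.ext
      show (wpComp L f n ≫ k.left) ≫ L.map (WidePullback.π (fun _ => f) i) = 𝟙 _ ≫ L.map (WidePullback.π (fun _ => f) i)
      rw [Category.assoc, hk, Category.id_comp]
      exact WidePullback.lift_π _ _ _ _ i
    exact congrArg (fun m => m.left) this
  · refine WidePullback.hom_ext _ _ _ (fun i => ?_) ?_
    · rw [Category.assoc, Category.id_comp]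
      exact (congrArg (k.left ≫ ·) (WidePullback.lift_π _ _ _ _ i)).trans (hk i)
    · rw [Category.assoc, Category.id_comp]
      exact (congrArg (k.left ≫ ·) (WidePullback.lift_base _ _ _ _)).trans (Over.w k)

/-- The image of a Čech nerve. -/
noncomputable def cechNerveMapIso : (Arrow.mk f).cechNerve ⋙ L ≅ (Arrow.mk (L.map f)).cechNerve :=
  haveI : ∀ n, IsIso (wpComp L f n) := isIso_wpComp L f
  NatIso.ofComponents (fun n => asIso (wpComp L f n.unop.len)) fun {n m} g => by
    refine WidePullback.hom_ext _ _ _ (fun i => ?_) ?_
    · show (L.map ((Arrow.mk f).cechNerve.map g) ≫ wpComp L f m.unop.len) ≫ _ =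
        (wpComp L f n.unop.len ≫ (Arrow.mk (L.map f)).cechNerve.map g) ≫ _
      simp only [wpComp, Category.assoc]
      erw [WidePullback.lift_π, WidePullback.lift_π, WidePullback.lift_π, ← L.map_comp, WidePullback.lift_π]
      rfl
    · show (L.map ((Arrow.mk f).cechNerve.map g) ≫ wpComp L f m.unop.len) ≫ _ =
        (wpComp L f n.unop.len ≫ (Arrow.mk (L.map f)).cechNerve.map g) ≫ _
      simp only [wpComp, Category.assoc]
      erw [WidePullback.lift_base, WidePullback.lift_base, WidePullback.lift_base, ← L.map_comp, WidePullback.lift_base]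
      rfl

end Wide

section Pull

variable {C : Type u} [SmallCategory C] {J : GrothendieckTopology C}
  {D : Type u} [SmallCategory D] {K : GrothendieckTopology D}
  (u : C ⥤ D) [u.IsContinuous J K]

/-- Sections of a direct image over a sheaf of sets are sections over its inverse image. -/
noncomputable def hk0PushIso (G : Sheaf K AddCommGrpCat.{u}) :
    (u.sheafPullback (Type u) J K).op ⋙ CohCx.HK0Functor K G ≅
      CohCx.HK0Functor J ((u.sheafPushforwardContinuous AddCommGrpCat.{u} J K).obj G) := by
  let adj := u.sheafAdjunctionContinuous AddCommGrpCat.{u} J K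
  haveI := adj.left_adjoint_additive
  let e : ∀ S : Sheaf J (Type u), ((Sheaf.composeAndSheafify K AddCommGrpCat.free.{u}).obj
        ((u.sheafPullback (Type u) J K).obj S) ⟶ G) ≃+
      ((Sheaf.composeAndSheafify J AddCommGrpCat.free.{u}).obj S ⟶
        (u.sheafPushforwardContinuous AddCommGrpCat.{u} J K).obj G) := fun S =>
    AddEquiv.mk' ((Iso.homFromEquiv ((SiteCoh.freeShPullbackIso K J u).app S).symm).trans (adj.homEquiv _ G))
      fun a b => by
        simp only [Equiv.trans_apply]
        exact (congrArg (adj.homEquiv _ G) (Preadditive.comp_add _ _ _ _ _ _)).trans (map_add (adj.homAddEquiv _ G) _ _)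
  refine NatIso.ofComponents (fun S => (e S.unop).toAddCommGrpIso) fun {S T} g => ?_
  ext x
  show adj.homEquiv _ G (((SiteCoh.freeShPullbackIso K J u).app T.unop).hom ≫
      (Sheaf.composeAndSheafify K AddCommGrpCat.free.{u}).map ((u.sheafPullback (Type u) J K).map g.unop) ≫ x) =
    (Sheaf.composeAndSheafify J AddCommGrpCat.free.{u}).map g.unop ≫
      adj.homEquiv _ G (((SiteCoh.freeShPullbackIso K J u).app S.unop).hom ≫ x)
  rw [← adj.homEquiv_naturality_left]
  refine congrArg (adj.homEquiv _ G) ?_
  rw [← Category.assoc, ← Category.assoc]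
  exact congrArg (· ≫ x) ((SiteCoh.freeShPullbackIso K J u).hom.naturality g.unop).symm

theorem isTotallyAcyclic_pushforward [PreservesLimitsOfShape WalkingCospan (u.sheafPullback (Type u) J K)]
    (G : Sheaf K AddCommGrpCat.{u}) (hG : CohCx.IsTotallyAcyclic G) :
    CohCx.IsTotallyAcyclic ((u.sheafPushforwardContinuous AddCommGrpCat.{u} J K).obj G) := by
  refine SiteCoh.isTotallyAcyclic_of_nerveAcyclic fun X Y f hf q => ?_
  haveI : PreservesColimitsOfShape WalkingSpan (u.sheafPullback (Type u) J K) :=
    haveI := (u.sheafAdjunctionContinuous (Type u) J K).isLeftAdjoint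
    inferInstance
  haveI : Epi ((u.sheafPullback (Type u) J K).map f) := inferInstance
  refine (SiteCoh.isZero_cechNerveCx_of_isTotallyAcyclic ((u.sheafPullback (Type u) J K).map f) hG q).of_iso ?_
  refine (HomologicalComplex.homologyFunctor _ _ (q + 1)).mapIso
    ((AlgebraicTopology.alternatingCofaceMapComplex AddCommGrpCat.{u}).mapIso ?_)
  exact Functor.isoWhiskerLeft (Arrow.mk f).cechNerve.rightOp (hk0PushIso u G).symm ≪≫
    (Functor.associator _ _ _).symm ≪≫
    Functor.isoWhiskerRight (NatIso.ofComponents
      (fun n => ((cechNerveMapIso (u.sheafPullback (Type u) J K) f).app (op n)).op.symm)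
      (fun {n m} g => Quiver.Hom.unop_inj ((cechNerveMapIso (u.sheafPullback (Type u) J K) f).inv.naturality g.op).symm))
      (CohCx.HK0Functor K G)

end Pull

end Groth.Agent.SiteDer16
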