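import Groth.Prelude.Def_SiteCmp
import Mathlib.CategoryTheory.Abelian.SerreClass.Basic
import Mathlib.CategoryTheory.ObjectProperty.EpiMono
import Mathlib.CategoryTheory.Sites.LeftExact
import Mathlib.Algebra.Homology.HomologicalComplexAbelian
import Mathlib.CategoryTheory.Sites.LocallyBijective
import Mathlib.CategoryTheory.Sites.EpiMono
import Mathlib.CategoryTheory.Sites.Abelian
import Mathlib.Algebra.Homology.ShortComplex.Abelian
import Mathlib.Algebra.Category.Grp.Abelian
import Mathlib.CategoryTheory.Preadditive.Injective.Basic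
import Mathlib.Algebra.Category.Grp.Adjunctions
import Mathlib.CategoryTheory.Abelian.Refinements
import Mathlib.Algebra.Homology.HomologySequence
import Mathlib.Algebra.FreeAbelianGroup.Finsupp

/-! The torsion subsheaf. -/

set_option autoImplicit false
set_option backward.isDefEq.respectTransparency false

universe u

open CategoryTheory CategoryTheory.Limits Opposite

namespace Groth.Agent.SiteDer16.Torsion

section Generic

universe v' u'

variable {A : Type u'} [Category.{v'} A] [Abelian A]

theorem exact_sequence_cokernel {K L : CochainComplex A ℤ} (ε : K ⟶ L) [Mono ε] :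
    (ShortComplex.mk ε (cokernel.π ε) (cokernel.condition ε)).ShortExact :=
  { exact := ShortComplex.exact_of_g_is_cokernel _ (cokernelIsCokernel ε) }

theorem quasiIso_of_isZero_cokernel {K L : CochainComplex A ℤ} (ε : K ⟶ L) [Mono ε]
    (hz : ∀ j, IsZero ((cokernel ε).homology j)) : QuasiIso ε := by
  have hS := exact_sequence_cokernel ε
  refine ⟨fun i => ?_⟩
  rw [quasiIsoAt_iff_isIso_homologyMap]
  haveI : Mono (HomologicalComplex.homologyMap ε i) :=
    (hS.homology_exact₁ (i - 1) i (by simp)).mono_g ((hz (i - 1)).eq_of_src _ _)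
  haveI : Epi (HomologicalComplex.homologyMap ε i) :=
    (hS.homology_exact₂ i).epi_f ((hz i).eq_of_tgt _ _)
  exact isIso_of_mono_of_epi (HomologicalComplex.homologyMap ε i)

theorem prop_homology_cokernel (P : ObjectProperty A) [P.IsSerreClass] {K L : CochainComplex A ℤ} (ε : K ⟶ L)
    [Mono ε] (hK : ∀ i, P (K.X i)) (hL : ∀ i, P (L.homology i)) (i : ℤ) : P ((cokernel ε).homology i) :=
  P.prop_X₂_of_exact ((exact_sequence_cokernel ε).homology_exact₃ i (i + 1) rfl) (hL i)
    (P.prop_of_epi (K.homologyπ (i + 1)) (P.prop_of_mono (K.iCycles (i + 1)) (hK (i + 1))))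

theorem isIso_nsmul_homology_cokernel {K L : CochainComplex A ℤ} (ε : K ⟶ L) (n : ℕ)
    (h : ∀ j, IsIso (n • 𝟙 (cokernel (ε.f j)))) (i : ℤ) : IsIso (n • 𝟙 ((cokernel ε).homology i)) := by
  haveI : ∀ j, IsIso ((n • 𝟙 (cokernel ε)).f j) := fun j => by
    let e : (cokernel ε).X j ≅ cokernel (ε.f j) := PreservesCokernel.iso (HomologicalComplex.eval _ _ j) ε
    haveI := h j
    have : (n • 𝟙 (cokernel ε)).f j = e.hom ≫ (n • 𝟙 (cokernel (ε.f j))) ≫ e.inv := by simp
    rw [this]; infer_instance
  haveI : IsIso (n • 𝟙 (cokernel ε)) := HomologicalComplex.Hom.isIso_of_components _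
  have e : (HomologicalComplex.homologyFunctor A (ComplexShape.up ℤ) i).map (n • 𝟙 (cokernel ε)) =
      n • 𝟙 ((cokernel ε).homology i) := by
    rw [Functor.map_nsmul, CategoryTheory.Functor.map_id]
    rfl
  rw [← e]
  infer_instance

end Generic

variable {C : Type u} [SmallCategory C] {J : GrothendieckTopology C}

/-- The sieve where a section becomes torsion. -/
def torsSieve (F : Cᵒᵖ ⥤ AddCommGrpCat.{u}) {U : C} (s : F.obj (op U)) : Sieve U where
  arrows V g := IsOfFinAddOrder (F.map g.op s)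
  downward_closed {V W g} hg h := by
    show IsOfFinAddOrder (F.map (h ≫ g).op s)
    rw [op_comp, F.map_comp]
    exact AddMonoidHom.isOfFinAddOrder (F.map h.op).hom hg

/-- The locally torsion sections. -/
def torsSub (F : Sheaf J AddCommGrpCat.{u}) (U : C) : AddSubgroup (F.obj.obj (op U)) where
  carrier := {s | torsSieve F.obj s ∈ J U}
  zero_mem' := by
    refine J.superset_covering (fun V g _ => ?_) (J.top_mem U)
    show IsOfFinAddOrder (F.obj.map g.op 0)
    rw [map_zero]
    exact IsOfFinAddOrder.zero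
  add_mem' {s t} hs ht := by
    refine J.superset_covering (fun V g hg => ?_) (J.intersection_covering hs ht)
    show IsOfFinAddOrder (F.obj.map g.op (s + t))
    rw [map_add]
    exact IsOfFinAddOrder.add hg.1 hg.2
  neg_mem' {s} hs := by
    refine J.superset_covering (fun V g hg => ?_) hs
    show IsOfFinAddOrder (F.obj.map g.op (-s))
    rw [map_neg]
    exact IsOfFinAddOrder.neg hg

theorem map_mem_torsSub (F : Sheaf J AddCommGrpCat.{u}) {U V : C} (g : V ⟶ U) {s : F.obj.obj (op U)}
    (hs : s ∈ torsSub F U) : F.obj.map g.op s ∈ torsSub F V := by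
  refine J.superset_covering (fun W h hh => ?_) (J.pullback_stable g hs)
  show IsOfFinAddOrder (F.obj.map h.op (F.obj.map g.op s))
  rw [← ConcreteCategory.comp_apply, ← F.obj.map_comp, ← op_comp]
  exact hh

/-- The torsion subpresheaf. -/
def torsPre (F : Sheaf J AddCommGrpCat.{u}) : Cᵒᵖ ⥤ AddCommGrpCat.{u} where
  obj U := AddCommGrpCat.of (torsSub F U.unop)
  map g := AddCommGrpCat.ofHom
    { toFun := fun s => ⟨F.obj.map g s.1, map_mem_torsSub F g.unop s.2⟩
      map_zero' := Subtype.ext (map_zero _)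
      map_add' := fun _ _ => Subtype.ext (map_add _ _ _) }
  map_id U := by
    ext ⟨s, hs⟩
    exact ConcreteCategory.congr_hom (F.obj.map_id U) s
  map_comp g h := by
    ext ⟨s, hs⟩
    exact ConcreteCategory.congr_hom (F.obj.map_comp g h) s

/-- The inclusion of the torsion subpresheaf. -/
def torsPreι (F : Sheaf J AddCommGrpCat.{u}) : torsPre F ⟶ F.obj where
  app _ := AddCommGrpCat.ofHom (AddSubgroup.subtype _)

theorem isSheaf_torsPre (F : Sheaf J AddCommGrpCat.{u}) : Presheaf.IsSheaf J (torsPre F) := by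
  rw [Presheaf.isSheaf_iff_isSheaf_forget J _ (forget AddCommGrpCat.{u}), isSheaf_iff_isSheaf_of_type]
  intro U S hS x hx
  have hF : Presieve.IsSheaf J (F.obj ⋙ forget AddCommGrpCat.{u}) := (isSheaf_iff_isSheaf_of_type _ _).1
    ((Presheaf.isSheaf_iff_isSheaf_forget J _ (forget AddCommGrpCat.{u})).1 F.property)
  let i := Functor.whiskerRight (torsPreι F) (forget AddCommGrpCat.{u})
  let s : F.obj.obj (op U) := (hF S hS).amalgamate (x.map i) (hx.map i)
  have hres : ∀ ⦃V : C⦄ (g : V ⟶ U) (hg : S g), F.obj.map g.op s = (x g hg).1 :=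
    fun V g hg => (hF S hS).valid_glue (hx.map i) g hg
  have hs : s ∈ torsSub F U := by
    refine J.transitive hS _ fun V g hg => ?_
    refine J.superset_covering (fun W h hh => ?_) (x g hg).2
    show IsOfFinAddOrder (F.obj.map (h ≫ g).op s)
    rw [op_comp, F.obj.map_comp, ConcreteCategory.comp_apply, hres g hg]
    exact hh
  refine ⟨⟨s, hs⟩, fun V g hg => Subtype.ext (hres g hg), fun t ht => Subtype.ext ?_⟩
  exact (hF S hS).isSeparatedFor (x.map i) _ _ (ht.map i) ((hF S hS).isAmalgamation (hx.map i))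

/-- The torsion subsheaf. -/
def tors (F : Sheaf J AddCommGrpCat.{u}) : Sheaf J AddCommGrpCat.{u} := ⟨torsPre F, isSheaf_torsPre F⟩

/-- Its inclusion. -/
def torsι (F : Sheaf J AddCommGrpCat.{u}) : tors F ⟶ F := ⟨torsPreι F⟩

theorem torsι_injective (F : Sheaf J AddCommGrpCat.{u}) (U : Cᵒᵖ) :
    Function.Injective ((torsι F).hom.app U) := fun _ _ h => Subtype.ext h

theorem isTorsion_tors (F : Sheaf J AddCommGrpCat.{u}) : SiteCmp.IsTorsionSh J (tors F) := by
  rintro U ⟨s, hs⟩
  refine ⟨_, hs, fun V g hg => ?_⟩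
  obtain ⟨n, hn, hn'⟩ := isOfFinAddOrder_iff_nsmul_eq_zero.1 hg
  exact isOfFinAddOrder_iff_nsmul_eq_zero.2 ⟨n, hn, Subtype.ext hn'⟩

theorem mem_torsSub_of_isTorsion {X F : Sheaf J AddCommGrpCat.{u}} (hX : SiteCmp.IsTorsionSh J X) (f : X ⟶ F)
    {U : C} (x : X.obj.obj (op U)) : f.hom.app (op U) x ∈ torsSub F U := by
  obtain ⟨S, hS, hS'⟩ := hX U x
  refine J.superset_covering (fun V g hg => ?_) hS
  show IsOfFinAddOrder (F.obj.map g.op (f.hom.app (op U) x))
  rw [← NatTrans.naturality_apply f.hom g.op x]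
  exact AddMonoidHom.isOfFinAddOrder (f.hom.app (op V)).hom (hS' g hg)

/-- The factorisation through the torsion subsheaf. -/
def torsLift {X F : Sheaf J AddCommGrpCat.{u}} (hX : SiteCmp.IsTorsionSh J X) (f : X ⟶ F) : X ⟶ tors F :=
  ⟨{ app := fun U => AddCommGrpCat.ofHom
        { toFun := fun x => ⟨f.hom.app U x, mem_torsSub_of_isTorsion hX f x⟩
          map_zero' := Subtype.ext (map_zero _)
          map_add' := fun _ _ => Subtype.ext (map_add _ _ _) }
     naturality := fun U V g => by
        ext x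
        exact Subtype.ext (NatTrans.naturality_apply f.hom g x) }⟩

theorem torsLift_ι {X F : Sheaf J AddCommGrpCat.{u}} (hX : SiteCmp.IsTorsionSh J X) (f : X ⟶ F) :
    torsLift hX f ≫ torsι F = f := rfl

/-- The torsion functor. -/
def torsFunctor (J : GrothendieckTopology C) :
    Sheaf J AddCommGrpCat.{u} ⥤ (SiteCmp.torsionSh J).FullSubcategory where
  obj F := ⟨tors F, isTorsion_tors F⟩
  map {F G} f := ObjectProperty.homMk (torsLift (isTorsion_tors F) (torsι F ≫ f))
  map_id F := by
    apply ObjectProperty.hom_ext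
    rfl
  map_comp f g := by
    apply ObjectProperty.hom_ext
    rfl

/-- It is right adjoint to the inclusion. -/
def torsAdj (J : GrothendieckTopology C) : (SiteCmp.torsionSh J).ι ⊣ torsFunctor J where
  unit :=
    { app := fun X => ObjectProperty.homMk (torsLift X.property (𝟙 X.obj))
      naturality := fun X Y f => by
        apply ObjectProperty.hom_ext
        rfl }
  counit := { app := fun F => torsι F }
  left_triangle_components _ := rfl
  right_triangle_components _ := by
    apply ObjectProperty.hom_ext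
    rfl

instance torsFunctor_additive (J : GrothendieckTopology C) : (torsFunctor J).Additive where
  map_add {F G f g} := by
    apply ObjectProperty.hom_ext
    rfl

theorem nsmul_free_injective (n : ℕ) (hn : n ≠ 0) (X : Type u) :
    Function.Injective (fun a : FreeAbelianGroup X => n • a) := fun a b h => by
  refine (FreeAbelianGroup.equivFinsupp X).injective (smul_right_injective _ hn ?_)
  show n • _ = n • _
  rw [← map_nsmul, ← map_nsmul]
  exact congrArg _ h

/-- Injective sheaves are divisible. -/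
theorem exists_nsmul_eq (I : Sheaf J AddCommGrpCat.{u}) [Injective I] (n : ℕ) (hn : n ≠ 0) (U : C)
    (s : I.obj.obj (op U)) : ∃ t : I.obj.obj (op U), n • t = s := by
  let P : Cᵒᵖ ⥤ AddCommGrpCat.{u} := yoneda.obj U ⋙ AddCommGrpCat.free
  let ψ : P ⟶ I.obj :=
    { app := fun V => AddCommGrpCat.ofHom (FreeAbelianGroup.lift fun g : V.unop ⟶ U => I.obj.map g.op s)
      naturality := fun V W h => by
        apply AddCommGrpCat.hom_ext
        refine FreeAbelianGroup.lift_ext _ _ fun g => ?_
        show FreeAbelianGroup.lift (fun g : W.unop ⟶ U => I.obj.map g.op s)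
            (FreeAbelianGroup.map _ (FreeAbelianGroup.of g)) =
          I.obj.map h (FreeAbelianGroup.lift (fun g : V.unop ⟶ U => I.obj.map g.op s) (FreeAbelianGroup.of g))
        rw [FreeAbelianGroup.map_of_apply, FreeAbelianGroup.lift_apply_of, FreeAbelianGroup.lift_apply_of]
        exact ConcreteCategory.congr_hom (I.obj.map_comp g.op h) s }
  let adj := sheafificationAdjunction J AddCommGrpCat.{u}
  haveI : Mono (n • 𝟙 P) := by
    haveI : ∀ V, Mono ((n • 𝟙 P).app V) := fun V => by
      rw [NatTrans.app_nsmul, AddCommGrpCat.mono_iff_injective]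
      exact nsmul_free_injective n hn _
    exact NatTrans.mono_of_mono_app _
  haveI : Mono ((presheafToSheaf J AddCommGrpCat.{u}).map (n • 𝟙 P)) := inferInstance
  obtain ⟨χ, hχ⟩ := Injective.factors ((adj.homEquiv P I).symm ψ) ((presheafToSheaf J AddCommGrpCat.{u}).map (n • 𝟙 P))
  let ψ' := adj.homEquiv P I χ
  have h : (n • 𝟙 P) ≫ ψ' = ψ := by
    rw [← adj.homEquiv_naturality_left, hχ, Equiv.apply_symm_apply]
  refine ⟨ψ'.app (op U) (FreeAbelianGroup.of (𝟙 U)), ?_⟩
  refine Eq.trans ?_ ((ConcreteCategory.congr_hom (NatTrans.congr_app h (op U)) (FreeAbelianGroup.of (𝟙 U))).trans ?_)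
  · show n • ψ'.app (op U) (FreeAbelianGroup.of (𝟙 U)) = ψ'.app (op U) ((n • 𝟙 P).app (op U) (FreeAbelianGroup.of (𝟙 U)))
    rw [NatTrans.app_nsmul]
    exact (map_nsmul (ψ'.app (op U)).hom n _).symm
  · show FreeAbelianGroup.lift (fun g : U ⟶ U => I.obj.map g.op s) (FreeAbelianGroup.of (𝟙 U)) = s
    rw [FreeAbelianGroup.lift_apply_of]
    exact ConcreteCategory.congr_hom (I.obj.map_id (op U)) s

theorem epi_nsmul (I : Sheaf J AddCommGrpCat.{u}) [Injective I] (n : ℕ) (hn : n ≠ 0) : Epi (n • 𝟙 I) := by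
  haveI : ∀ V, Epi ((n • 𝟙 I.obj).app V) := fun V => by
    rw [NatTrans.app_nsmul, AddCommGrpCat.epi_iff_surjective]
    intro s
    obtain ⟨t, ht⟩ := exists_nsmul_eq I n hn V.unop s
    exact ⟨t, ht⟩
  haveI : Epi (n • 𝟙 I.obj) := NatTrans.epi_of_epi_app _
  exact (sheafToPresheaf J AddCommGrpCat.{u}).epi_of_epi_map
    (show Epi ((sheafToPresheaf J AddCommGrpCat.{u}).map (n • 𝟙 I)) from
      (show (sheafToPresheaf J AddCommGrpCat.{u}).map (n • 𝟙 I) = n • 𝟙 I.obj from rfl) ▸ inferInstance)

theorem mono_nsmul_quotient (F : Sheaf J AddCommGrpCat.{u}) (n : ℕ) (hn : n ≠ 0) :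
    Mono (n • 𝟙 (cokernel (torsι F))) := by
  rw [Preadditive.mono_iff_cancel_zero]
  intro A x hx
  obtain ⟨A', π, _, y, hy⟩ := surjective_up_to_refinements_of_epi (cokernel.π (torsι F)) x
  have h1 : (n • y) ≫ cokernel.π (torsι F) = 0 := by
    rw [Preadditive.comp_nsmul, Category.comp_id] at hx
    rw [Preadditive.nsmul_comp, ← hy, ← Preadditive.comp_nsmul, hx, comp_zero]
  obtain ⟨A'', π', _, z, hz⟩ := (ShortComplex.exact_of_g_is_cokernel
    (ShortComplex.mk (torsι F) (cokernel.π (torsι F)) (cokernel.condition _))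
    (cokernelIsCokernel (torsι F))).exact_up_to_refinements (n • y) h1
  let y' := π' ≫ y
  have hy' : ∀ (U : C) (a : A''.obj.obj (op U)), y'.hom.app (op U) a ∈ torsSub F U := by
    intro U a
    refine J.superset_covering (fun V g hg => ?_) (z.hom.app (op U) a).2
    have e : (z.hom.app (op U) a).1 = n • y'.hom.app (op U) a := by
      refine (ConcreteCategory.congr_hom (NatTrans.congr_app (congrArg (fun t => t.hom) hz) (op U)) a).symm.trans ?_
      show (π' ≫ (n • y)).hom.app (op U) a = _
      rw [Preadditive.comp_nsmul]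
      rfl
    obtain ⟨m, hm, hm'⟩ := isOfFinAddOrder_iff_nsmul_eq_zero.1 hg
    refine isOfFinAddOrder_iff_nsmul_eq_zero.2 ⟨m * n, Nat.mul_pos hm (Nat.pos_of_ne_zero hn), ?_⟩
    rw [mul_nsmul', ← map_nsmul (F.obj.map g.op).hom n, ← e]
    exact hm'
  let w : A'' ⟶ tors F :=
    ⟨{ app := fun U => AddCommGrpCat.ofHom
          { toFun := fun a => ⟨y'.hom.app U a, hy' U.unop a⟩
            map_zero' := Subtype.ext (map_zero _)
            map_add' := fun _ _ => Subtype.ext (map_add _ _ _) }
       naturality := fun U V g => by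
          ext a
          exact Subtype.ext (NatTrans.naturality_apply y'.hom g a) }⟩
  have hw : w ≫ torsι F = π' ≫ y := rfl
  rw [← cancel_epi π, hy, comp_zero, ← cancel_epi π', ← Category.assoc, ← hw, Category.assoc, cokernel.condition,
    comp_zero, comp_zero]

theorem isIso_nsmul_quotient (I : Sheaf J AddCommGrpCat.{u}) [Injective I] (n : ℕ) (hn : n ≠ 0) :
    IsIso (n • 𝟙 (cokernel (torsι I))) := by
  haveI := mono_nsmul_quotient I n hn
  haveI := epi_nsmul I n hn
  haveI : Epi (n • 𝟙 (cokernel (torsι I))) := by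
    have e : (n • 𝟙 I) ≫ cokernel.π (torsι I) = cokernel.π (torsι I) ≫ (n • 𝟙 _) := by simp
    haveI : Epi (cokernel.π (torsι I) ≫ (n • 𝟙 (cokernel (torsι I)))) := by rw [← e]; exact epi_comp _ _
    exact epi_of_epi (cokernel.π (torsι I)) _
  exact isIso_of_mono_of_epi _

theorem isZero_of_isTorsion {H : Sheaf J AddCommGrpCat.{u}} (hH : SiteCmp.IsTorsionSh J H)
    (h : ∀ n : ℕ, n ≠ 0 → IsIso (n • 𝟙 H)) : IsZero H := by
  rw [IsZero.iff_id_eq_zero]
  apply Sheaf.hom_ext
  ext ⟨U⟩ s
  have hF : Presieve.IsSheaf J (H.obj ⋙ forget AddCommGrpCat.{u}) := (isSheaf_iff_isSheaf_of_type _ _).1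
    ((Presheaf.isSheaf_iff_isSheaf_forget J _ (forget AddCommGrpCat.{u})).1 H.property)
  obtain ⟨S, hS, hS'⟩ := hH U s
  show s = 0
  refine (hF S hS).isSeparatedFor.ext fun V g hg => ?_
  show H.obj.map g.op s = H.obj.map g.op 0
  rw [map_zero]
  obtain ⟨n, hn, hn'⟩ := isOfFinAddOrder_iff_nsmul_eq_zero.1 (hS' g hg)
  haveI := h n hn.ne'
  have hinv := ConcreteCategory.congr_hom (NatTrans.congr_app (congrArg (fun t => t.hom) (IsIso.hom_inv_id (n • 𝟙 H))) (op V))
    (H.obj.map g.op s)
  refine hinv.symm.trans ?_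
  show (inv (n • 𝟙 H)).hom.app (op V) (n • H.obj.map g.op s) = 0
  rw [show n • H.obj.map g.op s = 0 from hn', map_zero]

theorem quasiIso_torsι (I : CochainComplex (Sheaf J AddCommGrpCat.{u}) ℤ) [∀ i, Injective (I.X i)]
    [ObjectProperty.IsSerreClass (SiteCmp.torsionSh J)] (h : ∀ i, SiteCmp.torsionSh J (I.homology i)) :
    QuasiIso ((NatTrans.mapHomologicalComplex (torsAdj J).counit (ComplexShape.up ℤ)).app I) := by
  let ε := (NatTrans.mapHomologicalComplex (torsAdj J).counit (ComplexShape.up ℤ)).app I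
  haveI : ∀ i, Mono (ε.f i) := fun i => by
    show Mono (torsι (I.X i))
    haveI : ∀ U, Mono ((torsι (I.X i)).hom.app U) := fun U => by
      rw [AddCommGrpCat.mono_iff_injective]; exact torsι_injective _ U
    haveI : Mono (torsι (I.X i)).hom := NatTrans.mono_of_mono_app _
    exact (sheafToPresheaf J AddCommGrpCat.{u}).mono_of_mono_map
      (inferInstance : Mono (torsι (I.X i)).hom)
  haveI : Mono ε := HomologicalComplex.mono_of_mono_f _ inferInstance
  refine quasiIso_of_isZero_cokernel ε fun i => ?_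
  exact isZero_of_isTorsion (prop_homology_cokernel (SiteCmp.torsionSh J) ε (fun j => isTorsion_tors (I.X j)) h i)
    fun n hn => isIso_nsmul_homology_cokernel ε n (fun j => isIso_nsmul_quotient (I.X j) n hn) i

end Groth.Agent.SiteDer16.Torsion
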