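import Groth.Agent.SiteDer16.Devissage
import Groth.Agent.SiteDer16.TruncTower

/-! Unbounded equivalences from bounded below ones. -/

set_option autoImplicit false
set_option backward.isDefEq.respectTransparency false
set_option backward.defeqAttrib.useBackward true
set_option linter.style.haveILetI false

universe w w' v v' u u'

open CategoryTheory CategoryTheory.Limits CategoryTheory.Pretriangulated DerivedCategory
open Groth.Agent.DCat

namespace Groth.Agent.SiteDer16

variable {A : Type u} [Category.{v} A] [Abelian A] [HasDerivedCategory.{w} A]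
  {B : Type u'} [Category.{v'} B] [Abelian B] [HasDerivedCategory.{w'} B]

theorem isIso_homology_π (E : DerivedCategory A) (b q : ℤ) (hq : b ≤ q) :
    IsIso ((homologyFunctor A q).map ((DerivedCategory.TStructure.t.truncGEπ b).app E)) := by
  haveI := epi_homology_truncGEπ E b q
  haveI : Mono ((homologyFunctor A q).map ((DerivedCategory.TStructure.t.truncGEπ b).app E)) := by
    refine (HomologySequence.mono_homologyMap_mor₂_iff _ (DerivedCategory.TStructure.t.triangleLTGE_distinguished b E) q).2 ?_
    haveI : ((DerivedCategory.TStructure.t.truncLT b).obj E).IsLE (b - 1) :=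
      DerivedCategory.TStructure.t.isLE_truncLT_obj _ _ _ (by omega)
    exact (isZero_of_isLE _ (b - 1) q (by omega)).eq_of_src _ _
  exact isIso_of_mono_of_epi _

theorem isIso_homology_map {G : A ⥤ B} [G.Additive] [PreservesFiniteLimits G] [PreservesFiniteColimits G]
    {X Y : DerivedCategory A} (φ : X ⟶ Y) (j : ℤ)
    (h : ∀ q, j - 1 ≤ q → q ≤ j + 1 → IsIso ((homologyFunctor A q).map φ)) :
    IsIso ((homologyFunctor B j).map (G.mapDerivedCategory.map φ)) := by
  obtain ⟨Z, g, d, hT⟩ := distinguished_cocone_triangle φ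
  have hz : ∀ q, j - 1 ≤ q → q ≤ j → IsZero ((homologyFunctor B q).obj (G.mapDerivedCategory.obj Z)) := fun q h1 h2 => by
    haveI := h q h1 (by omega)
    haveI := h (q + 1) (by omega) (by omega)
    refine (G.map_isZero ?_).of_iso (homologyMapIso G Z q)
    refine (HomologySequence.exact₃ _ hT q (q + 1) rfl).isZero_of_both_zeros ?_ ?_
    · exact (HomologySequence.epi_homologyMap_mor₁_iff _ hT q).1 (inferInstanceAs (Epi ((homologyFunctor A q).map φ)))
    · exact (HomologySequence.mono_homologyMap_mor₁_iff _ hT q (q + 1) rfl).1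
        (inferInstanceAs (Mono ((homologyFunctor A (q + 1)).map φ)))
  exact WayOut.isIso_map_of_vanishing₃ G.mapDerivedCategory hT j (hz j (by omega) le_rfl) (hz (j - 1) le_rfl (by omega))

/-- The comparison of truncations under an exact functor. -/
theorem exists_isIso_comp_truncGEπ (G : A ⥤ B) [G.Additive] [PreservesFiniteLimits G] [PreservesFiniteColimits G]
    (Y : DerivedCategory A) (n : ℤ) :
    ∃ u : (DerivedCategory.TStructure.t.truncGE n).obj (G.mapDerivedCategory.obj Y) ⟶
        G.mapDerivedCategory.obj ((DerivedCategory.TStructure.t.truncGE n).obj Y),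
      IsIso u ∧ (DerivedCategory.TStructure.t.truncGEπ n).app (G.mapDerivedCategory.obj Y) ≫ u =
        G.mapDerivedCategory.map ((DerivedCategory.TStructure.t.truncGEπ n).app Y) := by
  haveI : (G.mapDerivedCategory.obj ((DerivedCategory.TStructure.t.truncGE n).obj Y)).IsGE n := isGE_map G
  let u := DerivedCategory.TStructure.t.descTruncGE
    (G.mapDerivedCategory.map ((DerivedCategory.TStructure.t.truncGEπ n).app Y)) n
  have hu := DerivedCategory.TStructure.t.π_descTruncGE
    (G.mapDerivedCategory.map ((DerivedCategory.TStructure.t.truncGEπ n).app Y)) n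
  refine ⟨u, ?_, hu⟩
  rw [DerivedCategory.isIso_iff]
  intro q
  rcases lt_or_ge q n with hq | hq
  · exact ⟨0, (isZero_of_isGE _ n q hq).eq_of_src _ _, (isZero_of_isGE _ n q hq).eq_of_src _ _⟩
  · haveI := isIso_homology_π (G.mapDerivedCategory.obj Y) n q hq
    haveI : IsIso ((homologyFunctor B q).map (G.mapDerivedCategory.map
        ((DerivedCategory.TStructure.t.truncGEπ n).app Y))) := by
      have hz : ∀ i, n ≤ i → IsZero ((homologyFunctor B i).obj
          (G.mapDerivedCategory.obj ((DerivedCategory.TStructure.t.truncLT n).obj Y))) := fun i hi => by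
        haveI : ((DerivedCategory.TStructure.t.truncLT n).obj Y).IsLE (n - 1) :=
          DerivedCategory.TStructure.t.isLE_truncLT_obj _ _ _ (by omega)
        exact (G.map_isZero (isZero_of_isLE _ (n - 1) i (by omega))).of_iso (homologyMapIso G _ i)
      exact WayOut.isIso_map_of_vanishing₁ G.mapDerivedCategory
        (DerivedCategory.TStructure.t.triangleLTGE_distinguished n Y) q (hz q hq) (hz (q + 1) (by omega))
    exact IsIso.of_isIso_fac_left (f := (homologyFunctor B q).map ((DerivedCategory.TStructure.t.truncGEπ n).app (G.mapDerivedCategory.obj Y)))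
      (h := (homologyFunctor B q).map (G.mapDerivedCategory.map ((DerivedCategory.TStructure.t.truncGEπ n).app Y)))
      (((homologyFunctor B q).map_comp _ _).symm.trans (congrArg _ hu))

/-- The equivalence of unbounded objects with cohomology in corresponding weak Serre classes. -/
theorem equivalence_cohIn {G : A ⥤ B} [G.Additive] [PreservesFiniteLimits G] [PreservesFiniteColimits G]
    {R : DerivedCategory B ⥤ DerivedCategory A} (adj : G.mapDerivedCategory ⊣ R)
    (P : ObjectProperty B) [WSerre.IsWeakSerre P] (P' : ObjectProperty A) [WSerre.IsWeakSerre P']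
    (h2a : ∀ F' : A, P' F' → P (G.obj F')) (h2c : ∀ F : B, P F → ∃ F' : A, P' F' ∧ Nonempty (G.obj F' ≅ F))
    (h3 : ∀ F' : A, P' F' → IsIso (adj.unit.app ((singleFunctor A 0).obj F')))
    (hR : ∀ X : DerivedCategory B, WSerre.cohIn P X → ∀ j : ℤ, ∃ n₀ : ℕ, ∀ n : ℕ, n₀ ≤ n →
      IsIso ((homologyFunctor A j).map (R.map ((DerivedCategory.TStructure.t.truncGEπ (-(n : ℤ))).app X)))) :
    (∀ Y : DerivedCategory A, WSerre.cohIn P' Y →
      WSerre.cohIn P (G.mapDerivedCategory.obj Y) ∧ IsIso (adj.unit.app Y)) ∧
    (∀ X : DerivedCategory B, WSerre.cohIn P X →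
      WSerre.cohIn P' (R.obj X) ∧ IsIso (adj.counit.app X)) := by
  obtain ⟨hplus, hplus'⟩ := equivalence_cohInPlus adj P P' h2a h2c h3
  have hP : ∀ Z : B, IsZero Z → P Z := fun Z hZ => by
    obtain ⟨Z', hZ', hPZ'⟩ := P.exists_prop_of_containsZero
    exact P.prop_of_iso (hZ'.iso hZ) hPZ'
  have hP' : ∀ Z : A, IsZero Z → P' Z := fun Z hZ => by
    obtain ⟨Z', hZ', hPZ'⟩ := P'.exists_prop_of_containsZero
    exact P'.prop_of_iso (hZ'.iso hZ) hPZ'
  constructor
  · intro Y hY
    have hGY : WSerre.cohIn P (G.mapDerivedCategory.obj Y) := cohIn_map G P' P h2a hY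
    refine ⟨hGY, ?_⟩
    rw [DerivedCategory.isIso_iff]
    intro j
    obtain ⟨n₀, hn₀⟩ := hR _ hGY j
    let n := max n₀ (-j).toNat
    haveI := hn₀ n (le_max_left _ _)
    let π : Y ⟶ (DerivedCategory.TStructure.t.truncGE (-(n : ℤ))).obj Y := (DerivedCategory.TStructure.t.truncGEπ (-(n : ℤ))).app Y
    obtain ⟨u, hu, hu'⟩ := exists_isIso_comp_truncGEπ G Y (-(n : ℤ))
    haveI := (hplus ((DerivedCategory.TStructure.t.truncGE (-(n : ℤ))).obj Y) ⟨WayOut.prop_homology_truncGE P' hP' Y _ hY, -(n : ℤ), inferInstance⟩).2
    haveI : IsIso ((homologyFunctor A j).map π) := isIso_homology_π Y (-(n : ℤ)) j (by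
      have := Int.self_le_toNat (-j)
      have : ((-j).toNat : ℤ) ≤ n := by exact_mod_cast le_max_right n₀ _
      omega)
    have e : (homologyFunctor A j).map (adj.unit.app Y) ≫ (homologyFunctor A j).map (R.map (G.mapDerivedCategory.map π)) =
        (homologyFunctor A j).map π ≫
          (homologyFunctor A j).map (adj.unit.app ((DerivedCategory.TStructure.t.truncGE (-(n : ℤ))).obj Y)) := by
      rw [← Functor.map_comp, ← Functor.map_comp]
      exact congrArg _ (adj.unit.naturality π).symm
    haveI : IsIso ((homologyFunctor A j).map (R.map (G.mapDerivedCategory.map π))) := by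
      rw [← hu', Functor.map_comp, Functor.map_comp]
      infer_instance
    exact IsIso.of_isIso_fac_right e
  · intro X hX
    choose n₀ hn₀ using hR X hX
    have hτ := fun n : ℕ => hplus' ((DerivedCategory.TStructure.t.truncGE (-(n : ℤ))).obj X) ⟨WayOut.prop_homology_truncGE P hP X (-(n : ℤ)) hX, -(n : ℤ), inferInstance⟩
    refine ⟨fun j => ?_, ?_⟩
    · haveI := hn₀ j (n₀ j) le_rfl
      exact P'.prop_of_iso (asIso ((homologyFunctor A j).map
        (R.map ((DerivedCategory.TStructure.t.truncGEπ (-(n₀ j : ℤ))).app X)))).symm ((hτ (n₀ j)).1.1 j)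
    rw [DerivedCategory.isIso_iff]
    intro j
    let n := max (max (n₀ (j - 1)) (max (n₀ j) (n₀ (j + 1)))) (-j).toNat
    let π := (DerivedCategory.TStructure.t.truncGEπ (-(n : ℤ))).app X
    haveI := (hτ n).2
    haveI := isIso_homology_π X (-(n : ℤ)) j (by
      have := Int.self_le_toNat (-j)
      have : ((-j).toNat : ℤ) ≤ n := by exact_mod_cast le_max_right _ _
      omega)
    haveI := isIso_homology_map (G := G) (R.map π) j fun q h1 h2 => by
      rcases (show q = j - 1 ∨ q = j ∨ q = j + 1 by omega) with rfl | rfl | rfl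
      · exact hn₀ _ n (le_trans (le_max_left _ _) (le_max_left _ _))
      · exact hn₀ _ n (le_trans (le_trans (le_max_left _ _) (le_max_right _ _)) (le_max_left _ _))
      · exact hn₀ _ n (le_trans (le_trans (le_max_right _ _) (le_max_right _ _)) (le_max_left _ _))
    have e : (homologyFunctor B j).map (adj.counit.app X) ≫ (homologyFunctor B j).map π =
        (homologyFunctor B j).map (G.mapDerivedCategory.map (R.map π)) ≫ (homologyFunctor B j).map (adj.counit.app _) := by
      rw [← Functor.map_comp, ← Functor.map_comp]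
      exact congrArg _ (adj.counit.naturality π).symm
    exact IsIso.of_isIso_fac_right e

end Groth.Agent.SiteDer16
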