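import Groth.Agent.SiteDer16.RpushBounded
import Groth.Agent.SiteDer16.UnboundedEquiv

/-! Derived equivalences for flat morphisms of bounded cohomological dimension. -/

set_option autoImplicit false
set_option backward.isDefEq.respectTransparency false
set_option backward.defeqAttrib.useBackward true
set_option linter.style.haveILetI false

universe u

open CategoryTheory CategoryTheory.Limits DerivedCategory
open Groth.Agent.DCat

attribute [local instance] HasDerivedCategory.standard

namespace Groth.Agent.SiteDer16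

variable {C : Type u} [SmallCategory C] {J : GrothendieckTopology C}
  {D : Type u} [SmallCategory D] {K : GrothendieckTopology D}
  {O_C : Sheaf J CommRingCat.{u}} {O_D : Sheaf K CommRingCat.{u}} (f : ModSite.RMor O_C O_D)
  [PreservesFiniteLimits f.pull] [HasInjectiveResolutions (ModSite.Mod O_C)] [SiteCmp.HasRpushD f]
  (adj : SiteCmp.pullD f ⊣ SiteCmp.RpushD f)
  (A : ObjectProperty (ModSite.Mod O_C)) [WSerre.IsWeakSerre A]
  (A' : ObjectProperty (ModSite.Mod O_D)) [WSerre.IsWeakSerre A']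
  (h2c : ∀ F : ModSite.Mod O_C, A F → ∃ F' : ModSite.Mod O_D, A' F' ∧ Nonempty (f.pull.obj F' ≅ F))
  (h3 : ∀ F' : ModSite.Mod O_D, A' F' → IsIso (adj.unit.app (SiteCmp.inD O_D F')))

include h2c h3 in
theorem rpush_of_equiv (F : ModSite.Mod O_C) (hF : A F) (p : ℕ) :
    A' ((f.Rpush p).obj F) ∧ ((0 : ℤ) < (p : ℤ) → IsZero ((f.Rpush p).obj F)) := by
  obtain ⟨F', hF', ⟨e⟩⟩ := h2c F hF
  haveI := h3 F' hF'
  obtain ⟨eP⟩ := nonempty_iso_homology_rpushD f F p
  let e' : (homologyFunctor (ModSite.Mod O_D) (p : ℤ)).obj (SiteCmp.inD O_D F') ≅ (f.Rpush p).obj F :=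
    (homologyFunctor _ (p : ℤ)).mapIso (asIso (adj.unit.app (SiteCmp.inD O_D F')) ≪≫
      (SiteCmp.RpushD f).mapIso ((f.pull.mapDerivedCategorySingleFunctor 0).app F' ≪≫
        (singleFunctor (ModSite.Mod O_C) 0).mapIso e)) ≪≫ eP
  exact ⟨A'.prop_of_iso e' (cohIn_single A' F' hF' _),
    fun hp => (isZero_of_isLE _ 0 (p : ℤ) hp).of_iso e'.symm⟩

end Groth.Agent.SiteDer16
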