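import Groth.Agent.SiteDer16.RpushEquiv
import Mathlib.CategoryTheory.Adjunction.FullyFaithful

/-! Comparison of two topologies on modules. -/

set_option autoImplicit false
set_option backward.isDefEq.respectTransparency false
set_option backward.defeqAttrib.useBackward true
set_option linter.style.haveILetI false

universe u

open CategoryTheory CategoryTheory.Limits DerivedCategory Opposite
open Groth.Agent.DCat

attribute [local instance] HasDerivedCategory.standard

namespace Groth.Agent.SiteDer16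

section

variable {C : Type u} [SmallCategory C] {J J' : GrothendieckTopology C} (h : J' ≤ J) (O : Sheaf J CommRingCat.{u})

theorem epsPush_full : (SiteCmp.eps h O).push.Full where
  map_surjective {M N} g := by
    let φ : M.val.presheaf ⟶ N.val.presheaf :=
      { app := fun U => ((PresheafOfModules.toPresheaf _).map g.val).app U
        naturality := fun U V i => ((PresheafOfModules.toPresheaf _).map g.val).naturality i }
    exact ⟨⟨PresheafOfModules.homMk φ fun U r m => (g.val.app U).hom.map_smul r m⟩, by ext U x; rfl⟩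

theorem epsPush_faithful : (SiteCmp.eps h O).push.Faithful where
  map_injective {M N f g} e := by
    ext U x
    exact congr($(e).val.app U x)

theorem isIso_eps_counit (F : ModSite.Mod O) : IsIso ((SiteCmp.eps h O).adj.counit.app F) := by
  haveI := epsPush_full h O
  haveI := epsPush_faithful h O
  exact inferInstance

end

variable {C : Type u} [SmallCategory C] {J : GrothendieckTopology C}
  {D : Type u} [SmallCategory D] {K : GrothendieckTopology D}
  {O_C : Sheaf J CommRingCat.{u}} {O_D : Sheaf K CommRingCat.{u}} (f : ModSite.RMor O_C O_D)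
  (B' : Set D)
  (hB' : ∀ U : D, ∃ (ι : Type u) (Y : ι → D) (g : ∀ i, Y i ⟶ U), Sieve.ofArrows Y g ∈ K U ∧ ∀ i, Y i ∈ B')

include hB' in
/-- Direct images of epimorphisms with locally acyclic kernel are epimorphisms. -/
theorem epi_push_map {S : ShortComplex (ModSite.Mod O_C)} (hS : S.ShortExact)
    (hv : ∀ V ∈ B', Subsingleton (ModSite.HU O_C S.X₁ 1 (f.fn.obj V))) : Epi (f.push.map S.g) := by
  haveI : HasExt.{u} (ModSite.Mod O_C) := inferInstance
  refine Preadditive.epi_of_cokernel_zero (((modSections O_D).isZero_of_cover B' hB' fun V hV x => ?_).eq_of_tgt _ _)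
  obtain ⟨T, hT, hl⟩ := (modSections O_D).lift (cokernel.π _) x
  refine (modSections O_D).sep x T hT fun W g hg => ?_
  obtain ⟨y, hy⟩ := hl g hg
  rw [← hy]
  obtain ⟨ι, Yc, k, hk, hY⟩ := hB' W
  refine (modSections O_D).sep _ _ hk ?_
  rintro W' a ⟨_, a', _, ⟨i⟩, rfl⟩
  rw [(modSections O_D).P.map_comp, Category.assoc]
  refine (congrArg ((modSections O_D).P.map a' ≫ ·) ?_).trans comp_zero
  -- lift the section
  let y' : (modFree O_D).obj (Yc i) ⟶ f.push.obj S.X₃ := (modSections O_D).P.map (k i) ≫ y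
  let s : (modFree O_C).obj (f.fn.obj (Yc i)) ⟶ S.X₃ :=
    (modHomEquiv O_C (f.fn.obj (Yc i)) S.X₃).symm (modHomEquiv O_D (Yc i) (f.push.obj S.X₃) y')
  obtain ⟨t, ht⟩ := SiteCoh.exists_comp_eq_of_subsingleton_ext hS
    (subsingleton_ext_modFree O_C (f.fn.obj (Yc i)) 1 _ (hv _ (hY i))) s
  let t' : (modFree O_D).obj (Yc i) ⟶ f.push.obj S.X₂ :=
    (modHomEquiv O_D (Yc i) (f.push.obj S.X₂)).symm (modHomEquiv O_C (f.fn.obj (Yc i)) S.X₂ t)
  have e : t' ≫ f.push.map S.g = y' := by
    apply (modHomEquiv O_D (Yc i) (f.push.obj S.X₃)).injective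
    show modHomEquiv₀ O_D _ _ (t' ≫ f.push.map S.g) = _
    rw [modHomEquiv₀_postcomp]
    refine (congrArg _ ((modHomEquiv O_D (Yc i) (f.push.obj S.X₂)).apply_symm_apply _)).trans ?_
    refine (modHomEquiv₀_postcomp O_C t S.g).symm.trans ?_
    rw [ht]
    exact (modHomEquiv O_C (f.fn.obj (Yc i)) S.X₃).apply_symm_apply _
  rw [← Category.assoc]
  show y' ≫ cokernel.π _ = 0
  rw [← e, Category.assoc, cokernel.condition, comp_zero]

variable [HasInjectiveResolutions (ModSite.Mod O_C)] [SiteCmp.HasRpushD f]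

include hB' in
/-- Higher derived direct images vanish under vanishing of cohomology on a covering family. -/
theorem isZero_rpush_of_cover (F : ModSite.Mod O_C) (p : ℕ)
    (hv : ∀ V ∈ B', Subsingleton (ModSite.HU O_C F p (f.fn.obj V))) : IsZero ((f.Rpush p).obj F) := by
  haveI : HasExt.{u + 1} (ModSite.Mod O_C) := hasExt_of_hasDerivedCategory _
  haveI : HasExt.{u} (ModSite.Mod O_C) := inferInstance
  obtain ⟨e⟩ := nonempty_iso_homology_rpushD f F p
  obtain ⟨_, _⟩ := exists_commShift_rpushD f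
  refine IsZero.of_iso ?_ e.symm
  let X := (SiteCmp.RpushD f).obj (SiteCmp.inD O_C F)
  refine ((modSections O_D).gen fun V x => ?_).of_iso
    ((Functor.shiftIso (homologyFunctor (ModSite.Mod O_D) 0) (p : ℤ) 0 p (add_zero _)).app X).symm
  obtain ⟨T, hT, hl⟩ := (modSections O_D).exists_local_lift x
  refine (modSections O_D).sep x T hT fun W g hg => ?_
  obtain ⟨y, hy⟩ := hl g hg
  rw [← hy]
  obtain ⟨ι, Yc, k, hk, hY⟩ := hB' W
  refine (modSections O_D).sep _ _ hk ?_
  rintro W' a ⟨_, a', _, ⟨i⟩, rfl⟩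
  rw [← (modSections O_D).θ_map, Functor.map_comp, Category.assoc]
  have h0 : (modSections O_D).pt.map (k i) ≫ y = 0 := by
    refine eq_zero_of_comp_shift_eq_zero (0 : X ⟶ X) (p : ℤ) (fun z _ => ?_) _ (by simp)
    obtain ⟨η, hη⟩ := exists_bijective_rpushD f (Yc i) (-(p : ℤ))
    obtain ⟨φ, rfl⟩ := (hη _).2 z
    have : φ = 0 := by
      refine (modSections O_C).eq_zero_of_boundedBelow (f.fn.obj (Yc i)) (p : ℤ) _ 0 (fun q d hd => ?_) φ
      by_cases hq : q = 0
      · subst hq
        obtain rfl : d = p := by omega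
        haveI : Subsingleton (Abelian.Ext.{u + 1} ((modSections O_C).P.obj (f.fn.obj (Yc i))) ((𝟭 (ModSite.Mod O_C)).obj F) d) :=
          subsingleton_ext_modFree'.{u + 1, u} O_C (f.fn.obj (Yc i)) d F (hv _ (hY i))
        exact subsingleton_ext_of_iso'.{u + 1} _ ((singleFunctorCompHomologyFunctorIso _ 0).app F) d
      · refine subsingleton_ext_of_isZero.{u + 1} _ ?_ d
        rcases lt_or_gt_of_ne hq with h | h
        · exact isZero_of_isGE (SiteCmp.inD O_C F) 0 q h
        · exact isZero_of_isLE (SiteCmp.inD O_C F) 0 q h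
    simp [this]
  rw [h0, comp_zero]
  simp [Sections.θ]

variable [PreservesFiniteLimits f.pull] (adj : SiteCmp.pullD f ⊣ SiteCmp.RpushD f)

/-- The derived unit at a direct image without higher direct images. -/
theorem isIso_unit_push (F : ModSite.Mod O_C) [IsIso (f.adj.counit.app F)]
    (hv : ∀ p : ℕ, 0 < p → IsZero ((f.Rpush p).obj F)) :
    IsIso (adj.unit.app (SiteCmp.inD O_D (f.push.obj F))) := by
  let X := (SiteCmp.RpushD f).obj (SiteCmp.inD O_C F)
  haveI : X.IsGE 0 := isGE_rpushD f _ 0 inferInstance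
  haveI : X.IsLE 0 := (DerivedCategory.isLE_iff _ _).2 fun i hi => by
    obtain ⟨p, rfl⟩ := Int.eq_ofNat_of_zero_le (le_of_lt hi)
    obtain ⟨e⟩ := nonempty_iso_homology_rpushD f F p
    exact (hv p (by exact_mod_cast hi)).of_iso e
  obtain ⟨M, ⟨eM⟩⟩ := exists_iso_singleFunctor_obj_of_isGE_of_isLE X 0
  let sD := singleFunctor (ModSite.Mod O_D) 0
  let sC := singleFunctor (ModSite.Mod O_C) 0
  let nat := f.pull.mapDerivedCategorySingleFunctor 0
  let θ : (SiteCmp.pullD f).obj (sD.obj (f.push.obj F)) ≅ sC.obj F :=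
    nat.app (f.push.obj F) ≪≫ sC.mapIso (asIso (f.adj.counit.app F))
  let φ : sD.obj (f.push.obj F) ⟶ X := adj.homEquiv _ _ θ.hom
  have hbij : ∀ G : ModSite.Mod O_D, Function.Bijective (fun g : G ⟶ f.push.obj F => sD.map g ≫ φ) := by
    intro G
    have key : ∀ g : G ⟶ f.push.obj F, sD.map g ≫ φ =
        adj.homEquiv _ _ (nat.hom.app G ≫ sC.map ((f.adj.homEquiv G F).symm g)) := fun g => by
      refine (adj.homEquiv_naturality_left _ _).symm.trans (congrArg _ ?_)
      have hn := nat.hom.naturality g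
      dsimp at hn
      rw [Adjunction.homEquiv_counit, Functor.map_comp]
      dsimp [θ]
      exact (Category.assoc _ _ _).symm.trans ((congrArg (· ≫ sC.map (f.adj.counit.app F)) hn).trans (Category.assoc _ _ _))
    have h1 : Function.Bijective (fun g : G ⟶ f.push.obj F => sC.map ((f.adj.homEquiv G F).symm g)) :=
      (Functor.FullyFaithful.ofFullyFaithful sC).map_bijective _ _ |>.comp (f.adj.homEquiv G F).symm.bijective
    have h2 := ((adj.homEquiv (sD.obj G) (sC.obj F)).bijective.comp
      (Iso.homFromEquiv (nat.app G).symm).bijective).comp h1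
    refine (iff_of_eq (congrArg Function.Bijective ?_)).1 h2
    funext g
    exact (key g).symm
  obtain ⟨φ₀, hφ₀⟩ : ∃ φ₀ : f.push.obj F ⟶ M, sD.map φ₀ = φ ≫ eM.hom :=
    (Functor.FullyFaithful.ofFullyFaithful sD).map_bijective _ _ |>.2 _
  haveI : IsIso φ₀ := by
    haveI : ∀ G : ModSite.Mod O_D, IsIso ((yoneda.map φ₀).app (op G)) := fun G => by
      rw [isIso_iff_bijective]
      refine ⟨fun g₁ g₂ e => (hbij G).1 ?_, fun m => ?_⟩
      · have e' := congrArg sD.map e
        dsimp at e'
        rw [sD.map_comp, sD.map_comp, hφ₀, ← Category.assoc, ← Category.assoc] at e'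
        exact (cancel_mono eM.hom).1 e'
      · obtain ⟨g, hg⟩ := (hbij G).2 (sD.map m ≫ eM.inv)
        refine ⟨g, sD.map_injective ?_⟩
        dsimp at hg ⊢
        rw [sD.map_comp, hφ₀, ← Category.assoc, hg, Category.assoc, Iso.inv_hom_id, Category.comp_id]
    haveI : IsIso (yoneda.map φ₀) := NatIso.isIso_of_isIso_app (G := yoneda.obj M) _
    exact isIso_of_fully_faithful yoneda φ₀
  haveI : IsIso φ := by
    haveI : IsIso (φ ≫ eM.hom) := hφ₀ ▸ (inferInstance : IsIso (sD.map φ₀))
    exact IsIso.of_isIso_comp_right φ eM.hom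
  have e : φ = adj.unit.app (sD.obj (f.push.obj F)) ≫ (SiteCmp.RpushD f).map θ.hom := adj.homEquiv_unit _ _ _
  haveI : IsIso (adj.unit.app (sD.obj (f.push.obj F)) ≫ (SiteCmp.RpushD f).map θ.hom) := e ▸ (inferInstance : IsIso φ)
  exact IsIso.of_isIso_comp_right _ ((SiteCmp.RpushD f).map θ.hom)

section Eps

variable {C : Type u} [SmallCategory C] {J J' : GrothendieckTopology C} (h : J' ≤ J) (O : Sheaf J CommRingCat.{u})
  [PreservesFiniteLimits (SiteCmp.eps h O).pull]
  (A : ObjectProperty (ModSite.Mod O)) [WSerre.IsWeakSerre A] (B : Set C)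
  (h3 : ∀ U : C, ∃ (ι : Type u) (Y : ι → C) (g : ∀ i, Y i ⟶ U), Sieve.ofArrows Y g ∈ J' U ∧ ∀ i, Y i ∈ B)
  (h4 : ∀ U ∈ B, ∀ F : ModSite.Mod O, A F → ∀ p : ℕ, 0 < p → Subsingleton (ModSite.HU O F p U))

include h3 h4 in
/-- The image of a locally acyclic weak Serre subcategory is weak Serre. -/
theorem isWeakSerre_map_eps : WSerre.IsWeakSerre (A.map (SiteCmp.eps h O).push) := by
  let f := SiteCmp.eps h O
  haveI : f.push.Full := epsPush_full h O
  haveI : f.push.Faithful := epsPush_faithful h O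
  haveI := fun F => isIso_eps_counit h O F
  haveI : f.push.IsRightAdjoint := ModSite.RMor.isRightAdjoint_push f
  have hepi : ∀ {S : ShortComplex (ModSite.Mod O)}, S.ShortExact → A S.X₁ → Epi (f.push.map S.g) := fun hS hA' =>
    epi_push_map f B h3 hS fun V hV => h4 V hV _ hA' 1 one_pos
  have hses : ∀ {S : ShortComplex (ModSite.Mod O)}, S.ShortExact → A S.X₁ → (S.map f.push).ShortExact := fun {S} hS hA' => by
    haveI := hS.mono_f
    haveI : Mono (S.map f.push).f := inferInstanceAs (Mono (f.push.map S.f))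
    haveI : Epi (S.map f.push).g := hepi hS hA'
    exact { exact := hS.exact.map_of_mono_of_preservesKernel _ hS.mono_f inferInstance }
  refine { exists_zero := ?_, kernels_le := ?_, cokernels_le := ?_, prop_X₂_of_shortExact := ?_ }
  · obtain ⟨Z, hZ, hAZ⟩ := A.exists_prop_of_containsZero
    exact ⟨f.push.obj Z, f.push.map_isZero hZ, ⟨Z, hAZ, ⟨Iso.refl _⟩⟩⟩
  · rintro _ ⟨g, k, hk, hg⟩
    obtain ⟨⟨X, hX, ⟨eX⟩⟩, ⟨Y, hY, ⟨eY⟩⟩⟩ := hg
    obtain ⟨g', hg'⟩ := f.push.map_surjective (eX.hom ≫ g ≫ eY.inv)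
    refine ⟨kernel g', A.prop_of_isLimit_kernelFork (k := KernelFork.ofι (kernel.ι g') (kernel.condition g'))
      (kernelIsKernel g') hX hY, ⟨PreservesKernel.iso f.push g' ≪≫
        kernel.mapIso (f.push.map g') g eX eY (by rw [hg']; simp) ≪≫
        (IsLimit.conePointUniqueUpToIso hk (kernelIsKernel g)).symm⟩⟩
  · rintro _ ⟨g, k, hk, hg⟩
    obtain ⟨⟨X, hX, ⟨eX⟩⟩, ⟨Y, hY, ⟨eY⟩⟩⟩ := hg
    obtain ⟨g', hg'⟩ := f.push.map_surjective (eX.hom ≫ g ≫ eY.inv)
    have hC : A (cokernel g') := A.prop_of_isColimit_cokernelCofork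
      (k := CokernelCofork.ofπ (cokernel.π g') (cokernel.condition g')) (cokernelIsCokernel g') hX hY
    have hK : A (kernel g') := A.prop_of_isLimit_kernelFork (k := KernelFork.ofι (kernel.ι g') (kernel.condition g'))
      (kernelIsKernel g') hX hY
    let I := Abelian.image g'
    have hI : A I := A.prop_of_isLimit_kernelFork (k := KernelFork.ofι (kernel.ι (cokernel.π g')) (kernel.condition _))
      (kernelIsKernel _) hY hC
    have h1 : (ShortComplex.mk (kernel.ι g') (Abelian.factorThruImage g') (by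
        rw [← cancel_mono (Abelian.image.ι g'), Category.assoc, Abelian.image.fac, kernel.condition, zero_comp])).ShortExact :=
      ShortComplex.ShortExact.mk' (ShortComplex.exact_of_f_is_kernel _ (KernelFork.IsLimit.ofι' _ _ fun {T} t ht =>
        ⟨kernel.lift g' t (by rw [← Abelian.image.fac g', reassoc_of% ht, zero_comp]), kernel.lift_ι _ _ _⟩))
        (inferInstance : Mono (kernel.ι g')) (inferInstance : Epi (Abelian.factorThruImage g'))
    have h2 : (ShortComplex.mk (Abelian.image.ι g') (cokernel.π g') (kernel.condition _)).ShortExact :=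
      ShortComplex.ShortExact.mk' (ShortComplex.exact_of_f_is_kernel _ (kernelIsKernel _))
        (inferInstance : Mono (Abelian.image.ι g')) (inferInstance : Epi (cokernel.π g'))
    haveI : Epi (f.push.map (Abelian.factorThruImage g')) := hepi h1 hK
    have h2' := hses h2 hI
    haveI : Epi (f.push.map (cokernel.π g')) := h2'.epi_g
    haveI := h2'.epi_g
    let k' := CokernelCofork.ofπ (f := f.push.map g') (f.push.map (cokernel.π g'))
      (by rw [← Functor.map_comp, cokernel.condition, Functor.map_zero])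
    have hk' : IsColimit k' := CokernelCofork.IsColimit.ofπ' _ _ fun {T} t ht => by
      refine ⟨h2'.exact.desc t ?_, h2'.exact.g_desc t _⟩
      show f.push.map (Abelian.image.ι g') ≫ t = 0
      rw [← cancel_epi (f.push.map (Abelian.factorThruImage g')), comp_zero, ← Category.assoc, ← Functor.map_comp,
        Abelian.image.fac, ht]
    exact ⟨cokernel g', hC, ⟨IsColimit.coconePointUniqueUpToIso hk' (cokernelIsCokernel _) ≪≫
      cokernel.mapIso (f.push.map g') g eX eY (by rw [hg']; simp) ≪≫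
      (IsColimit.coconePointUniqueUpToIso hk (cokernelIsCokernel g)).symm⟩⟩
  · intro S hS h₁ h₃
    obtain ⟨X, hX, ⟨eX⟩⟩ := h₁
    obtain ⟨Y, hY, ⟨eY⟩⟩ := h₃
    have hP : (S.map f.pull).ShortExact := hS.map_of_exact f.pull
    let u₁ : f.pull.obj S.X₁ ≅ X := f.pull.mapIso eX.symm ≪≫ asIso (f.adj.counit.app X)
    let u₃ : f.pull.obj S.X₃ ≅ Y := f.pull.mapIso eY.symm ≪≫ asIso (f.adj.counit.app Y)
    have hA₁ : A (S.map f.pull).X₁ := A.prop_of_iso u₁.symm hX
    have hM : A (f.pull.obj S.X₂) := A.prop_X₂_of_shortExact hP hA₁ (A.prop_of_iso u₃.symm hY)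
    have hF := hses hP hA₁
    let φ : S ⟶ (S.map f.pull).map f.push :=
      { τ₁ := f.adj.unit.app S.X₁
        τ₂ := f.adj.unit.app S.X₂
        τ₃ := f.adj.unit.app S.X₃
        comm₁₂ := (f.adj.unit.naturality S.f).symm
        comm₂₃ := (f.adj.unit.naturality S.g).symm }
    have hu : ∀ (Z : ModSite.Mod (SiteCmp.epsRing h O)) (W : ModSite.Mod O), (f.push.obj W ≅ Z) →
        IsIso (f.adj.unit.app Z) := fun Z W e => by
      haveI : IsIso (f.adj.unit.app (f.push.obj W)) := by
        haveI : IsIso (f.adj.unit.app (f.push.obj W) ≫ f.push.map (f.adj.counit.app W)) := by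
          refine Eq.symm (f.adj.right_triangle_components W) ▸ ?_
          exact ⟨𝟙 _, Category.id_comp _, Category.id_comp _⟩
        exact IsIso.of_isIso_comp_right _ (f.push.map (f.adj.counit.app W))
      exact (NatTrans.isIso_app_iff_of_iso f.adj.unit e).1 this
    haveI : IsIso φ.τ₁ := hu _ X eX
    haveI : IsIso φ.τ₃ := hu _ Y eY
    haveI : IsIso φ.τ₂ := ShortComplex.isIso₂_of_shortExact_of_isIso₁₃ φ hS hF
    exact ⟨_, hM, ⟨(asIso φ.τ₂).symm⟩⟩

end Eps

end Groth.Agent.SiteDer16
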