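import Mathlib.Algebra.Homology.ShortComplex.Ab
import Mathlib.Algebra.Category.Grp.Abelian
import Mathlib.Algebra.Homology.HomologicalComplex
import Groth.Prelude.Def_CohCx

/-! Cycles in inverse systems of complexes of abelian groups. -/

set_option autoImplicit false
set_option backward.isDefEq.respectTransparency false
set_option linter.style.haveILetI false

universe u

open CategoryTheory CategoryTheory.Limits HomologicalComplex

namespace Groth.Agent.SiteDer16.AbTower

variable {E E' : CochainComplex AddCommGrpCat.{u} ℤ}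

theorem map_d (φ : E ⟶ E') (i j : ℤ) (x : E.X i) : φ.f j (E.d i j x) = E'.d i j (φ.f i x) :=
  (ConcreteCategory.congr_hom (φ.comm i j) x).symm

theorem d_d (i j k : ℤ) (x : E.X i) : E.d j k (E.d i j x) = 0 :=
  ConcreteCategory.congr_hom (E.d_comp_d i j k) x

theorem cycles_d (m : ℤ) (c : E.cycles m) : E.d m (m + 1) (E.iCycles m c) = 0 :=
  ConcreteCategory.congr_hom (E.iCycles_d m (m + 1)) c

theorem exists_cycle (m : ℤ) (z : E.X m) (hz : E.d m (m + 1) z = 0) : ∃ c : E.cycles m, E.iCycles m c = z :=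
  (ShortComplex.ab_exact_iff _).1
    (ShortComplex.exact_of_f_is_kernel (ShortComplex.mk _ _ (E.iCycles_d m (m + 1)))
      (E.cyclesIsKernel m (m + 1) (by simp))) z hz

theorem exists_class (m : ℤ) (h : E.homology m) : ∃ c : E.cycles m, E.homologyπ m c = h :=
  (AddCommGrpCat.epi_iff_surjective _).1 inferInstance h

theorem class_eq_zero_iff (m : ℤ) (c : E.cycles m) :
    E.homologyπ m c = 0 ↔ ∃ b : E.X (m - 1), E.d (m - 1) m b = E.iCycles m c := by
  constructor
  · intro h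
    obtain ⟨b, hb⟩ := (ShortComplex.ab_exact_iff _).1
      (ShortComplex.exact_of_g_is_cokernel (ShortComplex.mk (E.toCycles (m - 1) m) (E.homologyπ m) (by simp))
        (E.homologyIsCokernel (m - 1) m (by simp))) c h
    refine ⟨b, ?_⟩
    rw [← hb]
    exact (ConcreteCategory.congr_hom (E.toCycles_i (m - 1) m) b).symm
  · rintro ⟨b, hb⟩
    have : E.toCycles (m - 1) m b = c := (AddCommGrpCat.mono_iff_injective (E.iCycles m)).1 inferInstance
      ((ConcreteCategory.congr_hom (E.toCycles_i (m - 1) m) b).trans hb)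
    rw [← this]
    exact ConcreteCategory.congr_hom (E.toCycles_comp_homologyπ (m - 1) m) b

theorem map_class (φ : E ⟶ E') (m : ℤ) (c : E.cycles m) :
    HomologicalComplex.homologyMap φ m (E.homologyπ m c) = E'.homologyπ m (cyclesMap φ m c) :=
  ConcreteCategory.congr_hom (homologyπ_naturality φ m) c

theorem map_cycle (φ : E ⟶ E') (m : ℤ) (c : E.cycles m) :
    E'.iCycles m (cyclesMap φ m c) = φ.f m (E.iCycles m c) :=
  ConcreteCategory.congr_hom (cyclesMap_i φ m) c

theorem boundary_of_injective (φ : E ⟶ E') (m : ℤ) (hφ : Function.Injective (HomologicalComplex.homologyMap φ m))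
    (z : E.X m) (hz : E.d m (m + 1) z = 0) (b' : E'.X (m - 1)) (hb : E'.d (m - 1) m b' = φ.f m z) :
    ∃ b : E.X (m - 1), E.d (m - 1) m b = z := by
  obtain ⟨c, rfl⟩ := exists_cycle m z hz
  refine (class_eq_zero_iff m c).1 (hφ ?_)
  rw [map_class, map_zero]
  exact (class_eq_zero_iff m _).2 ⟨b', hb.trans (map_cycle φ m c).symm⟩

theorem exists_preimage_of_surjective (φ : E ⟶ E') (m : ℤ)
    (hφ : Function.Surjective (HomologicalComplex.homologyMap φ m)) (w : E'.X m) (hw : E'.d m (m + 1) w = 0) :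
    ∃ z : E.X m, E.d m (m + 1) z = 0 ∧ ∃ b : E'.X (m - 1), φ.f m z = w + E'.d (m - 1) m b := by
  obtain ⟨c', rfl⟩ := exists_cycle m w hw
  obtain ⟨h, hh⟩ := hφ (E'.homologyπ m c')
  obtain ⟨c, rfl⟩ := exists_class m h
  rw [map_class, ← sub_eq_zero, ← map_sub] at hh
  obtain ⟨b, hb⟩ := (class_eq_zero_iff m _).1 hh
  refine ⟨E.iCycles m c, cycles_d m c, b, ?_⟩
  rw [hb, map_sub, map_cycle]
  abel

theorem isIso_homologyMap (φ : E ⟶ E') (m : ℤ)
    (h1 : ∀ z : E.X m, E.d m (m + 1) z = 0 → ∀ b' : E'.X (m - 1), E'.d (m - 1) m b' = φ.f m z →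
      ∃ b : E.X (m - 1), E.d (m - 1) m b = z)
    (h2 : ∀ w : E'.X m, E'.d m (m + 1) w = 0 →
      ∃ z : E.X m, E.d m (m + 1) z = 0 ∧ ∃ b : E'.X (m - 1), φ.f m z = w + E'.d (m - 1) m b) :
    IsIso (HomologicalComplex.homologyMap φ m) := by
  refine (ConcreteCategory.isIso_iff_bijective _).2 ⟨(injective_iff_map_eq_zero _).2 fun h hh => ?_, fun h' => ?_⟩
  · obtain ⟨c, rfl⟩ := exists_class m h
    rw [map_class, class_eq_zero_iff] at hh
    obtain ⟨b', hb'⟩ := hh
    exact (class_eq_zero_iff m c).2 (h1 _ (cycles_d m c) b' (hb'.trans (map_cycle φ m c)))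
  · obtain ⟨c', rfl⟩ := exists_class m h'
    obtain ⟨z, hz, b, hb⟩ := h2 _ (cycles_d m c')
    obtain ⟨c, rfl⟩ := exists_cycle m z hz
    refine ⟨E.homologyπ m c, ?_⟩
    rw [map_class, ← sub_eq_zero, ← map_sub, class_eq_zero_iff]
    exact ⟨b, by rw [map_sub, map_cycle, hb]; abel⟩

section Tower

variable (G : ℕ → CochainComplex AddCommGrpCat.{u} ℤ) (s : ∀ k, G (k + 1) ⟶ G k) (T : ∀ k, G k ⟶ G 0)
  (hT0 : T 0 = 𝟙 _) (hT : ∀ k, s k ≫ T k = T (k + 1)) (m : ℤ)

include hT0 hT in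
theorem T_compatible (z : ∀ k, (G k).X m) (hs : ∀ k, (s k).f m (z (k + 1)) = z k) (k : ℕ) : (T k).f m (z k) = z 0 := by
  induction k with
  | zero => rw [hT0]; rfl
  | succ k ih =>
    rw [← hT, ← ih, ← hs k]
    rfl

include hT0 hT in
/-- Compatible cycles with vanishing class at the bottom are compatible boundaries. -/
theorem exists_compatible_boundary
    (l2 : CohCx.LimOneIsZero (fun k => (G k).X (m - 2)) (fun k => ((s k).f (m - 2)).hom))
    (l1 : CohCx.LimOneIsZero (fun k => (G k).homology (m - 1))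
      (fun k => (HomologicalComplex.homologyMap (s k) (m - 1)).hom))
    (hinj : ∀ k, Function.Injective (HomologicalComplex.homologyMap (T k) m))
    (z : ∀ k, (G k).X m) (hz : ∀ k, (G k).d m (m + 1) (z k) = 0) (hs : ∀ k, (s k).f m (z (k + 1)) = z k)
    (b₀ : (G 0).X (m - 1)) (hb₀ : (G 0).d (m - 1) m b₀ = z 0) :
    ∃ b : ∀ k, (G k).X (m - 1), (∀ k, (s k).f (m - 1) (b (k + 1)) = b k) ∧ ∀ k, (G k).d (m - 1) m (b k) = z k := by
  choose b hb using fun k => boundary_of_injective (T k) m (hinj k) (z k) (hz k) b₀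
    (hb₀.trans (T_compatible G s T hT0 hT m z hs k).symm)
  have he : ∀ k, (G k).d (m - 1) (m - 1 + 1) (b k - (s k).f (m - 1) (b (k + 1))) = 0 := fun k => by
    rw [show m - 1 + 1 = m from by omega, map_sub, hb, ← map_d, hb, hs, sub_self]
  choose e he' using fun k => exists_cycle (m - 1) _ (he k)
  obtain ⟨h, hh⟩ := l1 fun k => (G k).homologyπ (m - 1) (e k)
  choose c hc using fun k => exists_class (m - 1) (h k)
  have hg : ∀ k, ∃ g : (G k).X (m - 1 - 1), (G k).d (m - 1 - 1) (m - 1) g =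
      (G k).iCycles (m - 1) (e k - (c k - cyclesMap (s k) (m - 1) (c (k + 1)))) := fun k => by
    refine (class_eq_zero_iff (m - 1) _).1 ?_
    rw [map_sub, map_sub, ← map_class, hc, hc, sub_eq_zero]
    exact (congrFun hh k).symm
  choose g hg using hg
  obtain ⟨g', hg'⟩ := l2 fun k => ((G k).XIsoOfEq (show m - 1 - 1 = m - 2 by omega)).hom (g k)
  have key : ∀ {M : Type u} [AddCommGroup M] (x₀ x₁ y₀ y₁ z₀ z₁ : M),
      z₀ - z₁ = x₀ - x₁ - (y₀ - y₁) → x₁ - y₁ - z₁ = x₀ - y₀ - z₀ := fun x₀ x₁ y₀ y₁ z₀ z₁ h => by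
    apply eq_of_sub_eq_zero
    rw [← sub_eq_zero.2 h]
    abel
  refine ⟨fun k => b k - (G k).iCycles (m - 1) (c k) - (G k).d (m - 2) (m - 1) (g' k), fun k => ?_, fun k => ?_⟩
  · have h1 : (G k).d (m - 2) (m - 1) (g' k - (s k).f (m - 2) (g' (k + 1))) = (G k).d (m - 1 - 1) (m - 1) (g k) := by
      refine (congrArg ((G k).d (m - 2) (m - 1)) (congrFun hg' k)).trans ?_
      exact ConcreteCategory.congr_hom ((G k).XIsoOfEq_hom_comp_d (show m - 1 - 1 = m - 2 by omega) (m - 1)) (g k)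
    rw [hg, map_sub, map_sub, map_sub, he', map_cycle, ← map_d] at h1
    rw [map_sub, map_sub]
    exact key _ _ _ _ _ _ h1
  · rw [map_sub, map_sub, hb, d_d, sub_zero]
    have := cycles_d (m - 1) (c k)
    rw [show m - 1 + 1 = m from by omega] at this
    rw [this, sub_zero]

include hT0 hT in
/-- Classes at the bottom lift to compatible cycles. -/
theorem exists_compatible_cycle
    (l1 : CohCx.LimOneIsZero (fun k => (G k).X (m - 1)) (fun k => ((s k).f (m - 1)).hom))
    (hbij : ∀ k, Function.Bijective (HomologicalComplex.homologyMap (T k) m))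
    (w : (G 0).X m) (hw : (G 0).d m (m + 1) w = 0) :
    ∃ z : ∀ k, (G k).X m, (∀ k, (s k).f m (z (k + 1)) = z k) ∧ (∀ k, (G k).d m (m + 1) (z k) = 0) ∧
      ∃ b : (G 0).X (m - 1), z 0 = w + (G 0).d (m - 1) m b := by
  choose v hv bv hbv using fun k => exists_preimage_of_surjective (T k) m (hbij k).2 w hw
  have hd : ∀ k, ∃ b : (G k).X (m - 1), (G k).d (m - 1) m b = v k - (s k).f m (v (k + 1)) := fun k => by
    refine boundary_of_injective (T k) m (hbij k).1 _ ?_ (bv k - bv (k + 1)) ?_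
    · rw [map_sub, hv, ← map_d, hv, map_zero, sub_zero]
    · have h2 : (T k).f m ((s k).f m (v (k + 1))) = (T (k + 1)).f m (v (k + 1)) := by rw [← hT]; rfl
      rw [map_sub, map_sub, h2, hbv, hbv]
      abel
  choose b hb using hd
  obtain ⟨h, hh⟩ := l1 b
  refine ⟨fun k => v k - (G k).d (m - 1) m (h k), fun k => ?_, fun k => ?_, bv 0 - h 0, ?_⟩
  · have h1 : (G k).d (m - 1) m (h k - (s k).f (m - 1) (h (k + 1))) = _ :=
      (congrArg ((G k).d (m - 1) m) (congrFun hh k)).trans (hb k)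
    rw [map_sub, ← map_d] at h1
    rw [map_sub]
    rw [sub_eq_sub_iff_add_eq_add] at h1 ⊢
    rw [add_comm, h1]
  · rw [map_sub, hv, d_d, sub_zero]
  · have h0 : v 0 = w + (G 0).d (m - 1) m (bv 0) := by
      rw [← hbv 0, hT0]; rfl
    dsimp only
    rw [map_sub, h0, add_sub_assoc]

end Tower

section Extend

theorem exists_extension_le (N : ℕ) : ∀ (G : ℕ → AddCommGrpCat.{u}) (s : ∀ n, G (n + 1) ⟶ G n) (v : ∀ n, N ≤ n → G n)
    (_ : ∀ n (h : N ≤ n), s n (v (n + 1) (Nat.le_succ_of_le h)) = v n h),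
    ∃ w : ∀ n, G n, (∀ n, s n (w (n + 1)) = w n) ∧ ∀ n (h : N ≤ n), w n = v n h := by
  induction N with
  | zero => exact fun G s v hv => ⟨fun n => v n (Nat.zero_le n), fun n => hv n _, fun n h => rfl⟩
  | succ N ih =>
    intro G s v hv
    obtain ⟨w, hw, hwv⟩ := ih (fun n => G (n + 1)) (fun n => s (n + 1)) (fun n h => v (n + 1) (Nat.succ_le_succ h))
      (fun n h => hv (n + 1) (Nat.succ_le_succ h))
    refine ⟨fun n => Nat.casesOn (motive := fun n => G n) n (s 0 (w 0)) w, fun n => ?_, fun n h => ?_⟩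
    · rcases n with _ | n
      · rfl
      · exact hw n
    · rcases n with _ | n
      · omega
      · exact hwv n (Nat.le_of_succ_le_succ h)

/-- Compatible families extend from a tail. -/
theorem exists_extension (G : ℕ → AddCommGrpCat.{u}) (s : ∀ n, G (n + 1) ⟶ G n) (N : ℕ) (v : ∀ k, G (N + k))
    (hv : ∀ k, s (N + k) (v (k + 1)) = v k) :
    ∃ w : ∀ n, G n, (∀ n, s n (w (n + 1)) = w n) ∧ ∀ k, w (N + k) = v k := by
  have hy : ∀ n, N ≤ n → ∃ y : G n, ∀ k (h : N + k = n), y = h ▸ v k := fun n h => by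
    obtain ⟨k, rfl⟩ := Nat.exists_eq_add_of_le h
    exact ⟨v k, fun k' h' => by
      obtain rfl : k' = k := by omega
      rfl⟩
  choose y hy using hy
  obtain ⟨w, hw, hwy⟩ := exists_extension_le N G s y fun n h => by
    obtain ⟨k, rfl⟩ := Nat.exists_eq_add_of_le h
    exact (congrArg (s (N + k)) (hy (N + k + 1) _ (k + 1) rfl)).trans ((hv k).trans (hy _ h k rfl).symm)
  exact ⟨w, hw, fun k => (hwy _ (Nat.le_add_right N k)).trans (hy _ _ k rfl)⟩

end Extend

end Groth.Agent.SiteDer16.AbTower
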