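import Groth.Agent.SiteDer16.TruncTower
import Groth.Agent.SiteDer16.Devissage

/-! Derived limits of systems with eventually constant cohomology. -/

set_option autoImplicit false
set_option backward.isDefEq.respectTransparency false
set_option backward.defeqAttrib.useBackward true
set_option linter.style.haveILetI false

universe w v u w'

open CategoryTheory CategoryTheory.Limits CategoryTheory.Pretriangulated DerivedCategory
open Groth.Agent.DCat

namespace Groth.Agent.SiteDer16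

/-- Vanishing is tested on any family of objects covering everything. -/
theorem Sections.isZero_of_cover' {C : Type w'} [SmallCategory C] {J : GrothendieckTopology C}
    {A : Type u} [Category.{v} A] [Abelian A] (S : Sections J A) (B : Set C)
    (hB : ∀ U : C, ∃ (ι : Type w') (Y : ι → C) (f : ∀ i, Y i ⟶ U), Sieve.ofArrows Y f ∈ J U ∧ ∀ i, Y i ∈ B)
    {F : A} (h : ∀ V ∈ B, ∀ x : S.P.obj V ⟶ F, x = 0) : IsZero F := by
  refine S.gen fun V x => ?_
  obtain ⟨ι, Y, f, hf, hY⟩ := hB V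
  refine S.sep x _ hf ?_
  rintro W g ⟨_, a, _, ⟨i⟩, rfl⟩
  rw [Functor.map_comp, Category.assoc, h _ (hY i) (S.P.map (f i) ≫ x), comp_zero]

variable {C : Type w'} [SmallCategory C] {J : GrothendieckTopology C}
  {A : Type (u + 1)} [Category.{u} A] [Abelian A] [HasDerivedCategory.{w} A] (S : Sections J A)

/-- The cohomology of a derived limit of a system with eventually constant cohomology. -/
theorem isIso_homology_of_local (hA : EnoughKInj A) {L : DerivedCategory A} {K : ℕ → DerivedCategory A}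
    (t : ∀ n, K (n + 1) ⟶ K n) [HasProduct K] {a : ∀ n, L ⟶ K n} (hL : CohCx.IsRlimVia K t L a)
    (B : Set C)
    (hB : ∀ U : C, ∃ (ι : Type w') (Y : ι → C) (f : ∀ i, Y i ⟶ U), Sieve.ofArrows Y f ∈ J U ∧ ∀ i, Y i ∈ B)
    (j : ℤ) (N₀ : ℕ) (hiso : ∀ n, N₀ ≤ n → IsIso ((homologyFunctor A j).map (t n)))
    (h : ∀ V ∈ B, ∃ N, N₀ ≤ N ∧ ∀ T ∈ J V, ∃ (ι : Type w') (W : ι → C) (f : ∀ i, W i ⟶ V),
      (∀ i, T.arrows (f i)) ∧ Sieve.ofArrows W f ∈ J V ∧ ∀ i n, N ≤ n → ∀ (Z : DerivedCategory A)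
        (g : K n ⟶ Z) (d : Z ⟶ (K (n + 1))⟦(1 : ℤ)⟧), Triangle.mk (t n) g d ∈ distTriang _ →
          ∀ k, (k = j ∨ k = j - 1) → ∀ y : (S.pt.obj (W i))⟦-k⟧ ⟶ Z, y = 0) :
    ∀ n, N₀ ≤ n → IsIso ((homologyFunctor A j).map (a n)) := by
  choose N hN hcov using h
  let G : ∀ (V : C) (hV : V ∈ B) ⦃W : C⦄, (W ⟶ V) → Prop := fun V hV W _ =>
    ∀ n, N V hV ≤ n → ∀ (Z : DerivedCategory A)
      (g : K n ⟶ Z) (d : Z ⟶ (K (n + 1))⟦(1 : ℤ)⟧), Triangle.mk (t n) g d ∈ distTriang _ →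
        ∀ k, (k = j ∨ k = j - 1) → ∀ y : (S.pt.obj W)⟦-k⟧ ⟶ Z, y = 0
  have hbij : ∀ (V : C) (hV : V ∈ B) ⦃W : C⦄ (f : W ⟶ V), G V hV f →
      (∀ n, N V hV ≤ n → Function.Bijective (fun y : (S.pt.obj W)⟦-j⟧ ⟶ K (n + 1) => y ≫ t n)) ∧
      (∀ n, N V hV ≤ n → Function.Surjective (fun y : ((S.pt.obj W)⟦-j⟧)⟦(1 : ℤ)⟧ ⟶ K (n + 1) => y ≫ t n)) := by
    intro V hV W f hW
    let e1 : ((S.pt.obj W)⟦-(j - 1)⟧) ≅ ((S.pt.obj W)⟦-j⟧)⟦(1 : ℤ)⟧ :=
      (shiftFunctorAdd' (DerivedCategory A) (-j) 1 (-(j - 1)) (by omega)).app _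
    refine ⟨fun n hn => ?_, fun n hn => ?_⟩ <;>
      obtain ⟨Z, g, d, hT⟩ := distinguished_cocone_triangle (t n)
    · refine ⟨injective_comp_of_triangle hT _ fun u => ?_,
        surjective_comp_of_triangle hT _ fun u => hW n hn Z g d hT j (Or.inl rfl) u⟩
      rw [← cancel_epi e1.hom, comp_zero]
      exact hW n hn Z g d hT (j - 1) (Or.inr rfl) _
    · refine surjective_comp_of_triangle hT _ fun u => ?_
      rw [← cancel_epi e1.hom, comp_zero]
      exact hW n hn Z g d hT (j - 1) (Or.inr rfl) _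
  haveI hmono : Mono ((homologyFunctor A j).map (a N₀)) := by
    refine mono_homology_of_local S hA t hL B (fun hz => S.isZero_of_cover' B hB hz) j N₀
      (fun n hn => by haveI := hiso n hn; infer_instance) fun V hV => ?_
    refine ⟨PUnit, fun _ => N V hV, fun _ => G V hV, fun T hT => ?_, fun _ => ⟨hN V hV, hbij V hV⟩⟩
    obtain ⟨ι, W, f, h1, h2, h3⟩ := hcov V hV (T ⟨⟩) (hT _)
    exact ⟨ι, W, f, h2, fun i => ⟨⟨⟩, h1 i, h3 i⟩⟩
  have hcomp := comp_eq_of_isRlimVia K t hL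
  haveI hepi : Epi ((homologyFunctor A j).map (a N₀)) := by
    refine Preadditive.epi_of_cokernel_zero ((S.isZero_of_cover' B hB fun V hV x => ?_).eq_of_tgt _ _)
    obtain ⟨T, hT, hl⟩ := S.lift (cokernel.π _) x
    refine S.sep x T hT fun W g hg => ?_
    obtain ⟨y, hy⟩ := hl g hg
    rw [← hy]
    obtain ⟨ι, Yc, f, hf, hY⟩ := hB W
    refine S.sep _ _ hf ?_
    rintro W' k ⟨_, k', _, ⟨i⟩, rfl⟩
    rw [S.P.map_comp, Category.assoc]
    refine (congrArg (S.P.map k' ≫ ·) ?_).trans comp_zero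
    -- move the class to a large stage
    have hM : ∀ n, N₀ ≤ n → ∃ z : S.P.obj (Yc i) ⟶ (homologyFunctor A j).obj (K n),
        (homologyFunctor A j).map (a n) ≫ 𝟙 _ = (homologyFunctor A j).map (a n) ∧
        ∀ {F : A} (q : (homologyFunctor A j).obj (K N₀) ⟶ F), (homologyFunctor A j).map (a N₀) ≫ q = 0 →
          ∃ q' : (homologyFunctor A j).obj (K n) ⟶ F,
            (homologyFunctor A j).map (a n) ≫ q' = 0 ∧ z ≫ q' = S.P.map (f i) ≫ y ≫ q := by
      intro n hn
      induction n, hn using Nat.le_induction with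
      | base => exact ⟨S.P.map (f i) ≫ y, Category.comp_id _, fun q hq => ⟨q, hq, Category.assoc _ _ _⟩⟩
      | succ n hn ih =>
        obtain ⟨z, -, hz⟩ := ih
        haveI := hiso n hn
        refine ⟨z ≫ inv ((homologyFunctor A j).map (t n)), Category.comp_id _, fun q hq => ?_⟩
        obtain ⟨q', hq', hzq'⟩ := hz q hq
        refine ⟨(homologyFunctor A j).map (t n) ≫ q', ?_, by simp [hzq']⟩
        rw [← Category.assoc, ← Functor.map_comp, hcomp, hq']
    obtain ⟨z, -, hz⟩ := hM (N (Yc i) (hY i)) (hN _ (hY i))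
    obtain ⟨q', hq', hzq'⟩ := hz (cokernel.π _) (cokernel.condition _)
    rw [← hzq']
    let n := N (Yc i) (hY i)
    let σ := Functor.shiftIso (homologyFunctor A 0) j 0 j (add_zero j)
    obtain ⟨T', hT', hl'⟩ := S.exists_local_preimage ((a n)⟦j⟧') (G (Yc i) (hY i)) (hcov _ (hY i))
      (fun W f' hW' => surjective_comp_shift (a n) j
        (bijective_comp_of_isRlimVia K t _ n hL (hbij _ (hY i) f' hW').1 (hbij _ (hY i) f' hW').2).2)
      (z ≫ σ.inv.app (K n))
    refine S.sep _ T' hT' fun W₂ g₂ hg₂ => ?_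
    obtain ⟨w, hw⟩ := hl' g₂ hg₂
    have hn : σ.hom.app L ≫ (homologyFunctor A j).map (a n) =
        (homologyFunctor A 0).map ((a n)⟦j⟧') ≫ σ.hom.app (K n) := (σ.hom.naturality (a n)).symm
    have hz2 : S.P.map g₂ ≫ z = w ≫ (homologyFunctor A 0).map ((a n)⟦j⟧') ≫ σ.hom.app (K n) := by
      rw [← Category.assoc w, hw, Category.assoc, Category.assoc, ← NatTrans.comp_app, Iso.inv_hom_id, NatTrans.id_app]
      exact (congrArg (S.P.map g₂ ≫ ·) (Category.comp_id z)).symm
    rw [← Category.assoc, hz2, ← hn, Category.assoc, Category.assoc, hq', comp_zero, comp_zero]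
  intro n hn
  induction n, hn using Nat.le_induction with
  | base => exact isIso_of_mono_of_epi _
  | succ n hn ih =>
    haveI := hiso n hn
    haveI := ih
    exact IsIso.of_isIso_fac_right (h := (homologyFunctor A j).map (a n))
      (((homologyFunctor A j).map_comp _ _).symm.trans (congrArg _ (hcomp n)))

/-- Maps from shifted sections to the cone of a map inducing isomorphisms in a range. -/
theorem eq_zero_cone [HasExt.{w} A] (P : ObjectProperty A) [WSerre.IsWeakSerre P] {K' K : DerivedCategory A}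
    (t : K' ⟶ K) (hK' : WSerre.cohInPlus P K') (hK : WSerre.cohInPlus P K) (W : C) (k : ℤ) (d : ℕ)
    (hiso : ∀ q, k - d ≤ q → q ≤ k + 1 → IsIso ((homologyFunctor A q).map t))
    (hW : ∀ F : A, P F → ∀ e : ℕ, d < e → Subsingleton (Abelian.Ext.{w} (S.P.obj W) F e))
    (Z : DerivedCategory A) (g : K ⟶ Z) (δ : Z ⟶ K'⟦(1 : ℤ)⟧) (hT : Triangle.mk t g δ ∈ distTriang _)
    (y : (S.pt.obj W)⟦-k⟧ ⟶ Z) : y = 0 := by
  obtain ⟨hP', a', ha'⟩ := hK'
  obtain ⟨hP₁, a, ha⟩ := hK
  have hge : Z.IsGE (min a' a - 1) := (DerivedCategory.isGE_iff _ _).2 fun q hq =>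
    (HomologySequence.exact₃ _ hT q (q + 1) rfl).isZero_of_both_zeros
      ((isZero_of_isGE K a q (by omega) (hX := ha)).eq_of_src _ _)
      ((isZero_of_isGE K' a' (q + 1) (by omega) (hX := ha')).eq_of_tgt _ _)
  refine S.eq_zero_of_boundedBelow W k Z (min a' a - 1) (fun q e he => ?_) y
  by_cases hq : d < e
  · refine hW _ ?_ e hq
    exact prop_fiveTerm P _ _ _ _ _ _ _ (HomologySequence.exact₂ _ hT q)
      (HomologySequence.exact₃ _ hT q (q + 1) rfl) (HomologySequence.exact₁ _ hT q (q + 1) rfl)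
      (hP' q) (hP₁ q) (hP' (q + 1)) (hP₁ (q + 1))
  · haveI := hiso q (by omega) (by omega)
    haveI := hiso (q + 1) (by omega) (by omega)
    refine subsingleton_ext_of_isZero _ ?_ e
    refine (HomologySequence.exact₃ _ hT q (q + 1) rfl).isZero_of_both_zeros ?_ ?_
    · exact (HomologySequence.epi_homologyMap_mor₁_iff _ hT q).1
        (inferInstanceAs (Epi ((homologyFunctor A q).map t)))
    · exact (HomologySequence.mono_homologyMap_mor₁_iff _ hT q (q + 1) rfl).1
        (inferInstanceAs (Mono ((homologyFunctor A (q + 1)).map t)))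

end Groth.Agent.SiteDer16
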