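import Groth.Agent.DCat.Amplitude
import Groth.Agent.DCat.RDUnbounded
import Mathlib.CategoryTheory.Sites.Grothendieck
import Mathlib.Algebra.Homology.SingleHomology
import Mathlib.CategoryTheory.Abelian.Refinements

/-! Cohomology objects are the sheafification of the presheaves of morphisms in the derived category. -/

set_option autoImplicit false
set_option backward.isDefEq.respectTransparency false
set_option backward.defeqAttrib.useBackward true

universe w v u w'

open CategoryTheory CategoryTheory.Limits HomologicalComplex DerivedCategory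
open Groth.Agent.DCat

namespace Groth.Agent.SiteDer16

variable {C : Type w'} [SmallCategory C] (J : GrothendieckTopology C)
  {A : Type u} [Category.{v} A] [Abelian A]

/-- Objects `P V` whose morphisms behave like sections over `V`. -/
structure Sections (A : Type u) [Category.{v} A] [Abelian A] where
  P : C ⥤ A
  sep : ∀ {V : C} {F : A} (x : P.obj V ⟶ F) (T : Sieve V), T ∈ J V →
    (∀ ⦃W : C⦄ (g : W ⟶ V), T g → P.map g ≫ x = 0) → x = 0
  lift : ∀ {V : C} {F G : A} (p : F ⟶ G) [Epi p] (x : P.obj V ⟶ G),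
    ∃ T ∈ J V, ∀ ⦃W : C⦄ (g : W ⟶ V), T g → ∃ y : P.obj W ⟶ F, y ≫ p = P.map g ≫ x
  gen : ∀ {F : A}, (∀ (V : C) (x : P.obj V ⟶ F), x = 0) → IsZero F

variable {J} (S : Sections J A) [HasDerivedCategory.{w} A]

/-- The object in degree zero. -/
noncomputable abbrev Sections.pt : C ⥤ DerivedCategory A :=
  S.P ⋙ single A (ComplexShape.up ℤ) 0 ⋙ Q

/-- The class of a morphism in degree zero cohomology. -/
noncomputable def Sections.θ {V : C} {X : DerivedCategory A} (y : S.pt.obj V ⟶ X) :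
    S.P.obj V ⟶ (homologyFunctor A 0).obj X :=
  (singleObjHomologySelfIso (ComplexShape.up ℤ) 0 (S.P.obj V)).inv ≫
    (homologyFunctorFactors A 0).inv.app _ ≫ (homologyFunctor A 0).map y

theorem Sections.θ_comp {V : C} {X Y : DerivedCategory A} (y : S.pt.obj V ⟶ X) (f : X ⟶ Y) :
    S.θ (y ≫ f) = S.θ y ≫ (homologyFunctor A 0).map f := by
  simp [Sections.θ]

theorem Sections.θ_map {W V : C} (g : W ⟶ V) {X : DerivedCategory A} (y : S.pt.obj V ⟶ X) :
    S.θ (S.pt.map g ≫ y) = S.P.map g ≫ S.θ y := by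
  have h1 := (homologyFunctorFactors A 0).inv.naturality ((single A (ComplexShape.up ℤ) 0).map (S.P.map g))
  have h2 := singleObjHomologySelfIso_inv_naturality (ComplexShape.up ℤ) 0 (S.P.map g)
  dsimp at h1
  simp only [Sections.θ, Functor.map_comp]
  rw [← reassoc_of% h2, ← Category.assoc (HomologicalComplex.homologyMap _ _)]
  erw [h1]
  simp [Sections.pt]

theorem Sections.θ_Q {V : C} {M : CochainComplex A ℤ} (g : (single A (ComplexShape.up ℤ) 0).obj (S.P.obj V) ⟶ M) :
    S.θ (Q.map g) ≫ (homologyFunctorFactors A 0).hom.app M =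
      (singleObjCyclesSelfIso (ComplexShape.up ℤ) 0 (S.P.obj V)).inv ≫ cyclesMap g 0 ≫ M.homologyπ 0 := by
  have h1 := (homologyFunctorFactors A 0).hom.naturality g
  dsimp at h1
  simp only [Sections.θ, Category.assoc]
  erw [h1]
  rw [Iso.inv_hom_id_app_assoc, ← homologyπ_naturality, ← Category.assoc _ (HomologicalComplex.homologyπ _ _)]
  congr 1

/-- Classes in cohomology come from morphisms, locally. -/
theorem Sections.exists_local_lift {V : C} {X : DerivedCategory A} (x : S.P.obj V ⟶ (homologyFunctor A 0).obj X) :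
    ∃ T ∈ J V, ∀ ⦃W : C⦄ (g : W ⟶ V), T g → ∃ y : S.pt.obj W ⟶ X, S.θ y = S.P.map g ≫ x := by
  let M := Q.objPreimage X
  let e := Q.objObjPreimageIso X
  let x' := x ≫ (homologyFunctor A 0).map e.inv ≫ (homologyFunctorFactors A 0).hom.app M
  obtain ⟨T, hT, hl⟩ := S.lift (M.homologyπ 0) x'
  refine ⟨T, hT, fun W g hg => ?_⟩
  obtain ⟨z, hz⟩ := hl g hg
  let gz : (single A (ComplexShape.up ℤ) 0).obj (S.P.obj W) ⟶ M := mkHomFromSingle (z ≫ M.iCycles 0) (by simp)
  refine ⟨Q.map gz ≫ e.hom, ?_⟩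
  have hc : (singleObjCyclesSelfIso (ComplexShape.up ℤ) 0 (S.P.obj W)).inv ≫ cyclesMap gz 0 = z := by
    rw [← cancel_mono (M.iCycles 0), Category.assoc, cyclesMap_i]
    simp [gz]
  have h := S.θ_Q gz
  rw [← Category.assoc _ (cyclesMap gz 0), hc, hz] at h
  rw [S.θ_comp, ← cancel_mono ((homologyFunctor A 0).map e.inv), Category.assoc, ← Functor.map_comp,
    Iso.hom_inv_id, CategoryTheory.Functor.map_id, Category.comp_id,
    ← cancel_mono ((homologyFunctorFactors A 0).hom.app M), h]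
  simp [x', Category.assoc]

/-- Morphisms with vanishing class are locally zero. -/
theorem Sections.exists_local_zero (hA : EnoughKInj A) {V : C} {X : DerivedCategory A} (y : S.pt.obj V ⟶ X)
    (hy : S.θ y = 0) : ∃ T ∈ J V, ∀ ⦃W : C⦄ (g : W ⟶ V), T g → S.pt.map g ≫ y = 0 := by
  obtain ⟨I, f, hI, hf⟩ := hA (Q.objPreimage X)
  let e : Q.obj I ≅ X := (asIso (Q.map f)).symm ≪≫ Q.objObjPreimageIso X
  haveI := hI
  obtain ⟨g₀, hg₀⟩ := Amplitude.exists_Q_map_eq (CochainComplex.IsKInjective.Qh_map_bijective _ I) (y ≫ e.inv)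
  let c := (singleObjCyclesSelfIso (ComplexShape.up ℤ) 0 (S.P.obj V)).inv ≫ cyclesMap g₀ 0
  have hc : c ≫ I.homologyπ 0 = 0 := by
    have h := S.θ_Q g₀
    rw [hg₀, S.θ_comp, hy, zero_comp, zero_comp] at h
    exact (Category.assoc _ _ _).trans h.symm
  have hex : (ShortComplex.mk (I.toCycles (-1) 0) (I.homologyπ 0) (by simp)).Exact :=
    ShortComplex.exact_of_g_is_cokernel _ (I.homologyIsCokernel (-1) 0 (by simp))
  obtain ⟨A', π, _, b, hb⟩ := hex.exact_up_to_refinements c hc
  let P' := pullback c (I.toCycles (-1) 0)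
  haveI : Epi (pullback.fst c (I.toCycles (-1) 0)) :=
    epi_of_epi_fac (pullback.lift_fst π b hb)
  obtain ⟨T, hT, hl⟩ := S.lift (pullback.fst c (I.toCycles (-1) 0)) (𝟙 (S.P.obj V))
  refine ⟨T, hT, fun W g hg => ?_⟩
  obtain ⟨q, hq⟩ := hl g hg
  rw [Category.comp_id] at hq
  let k : S.P.obj W ⟶ I.X (-1) := q ≫ pullback.snd c (I.toCycles (-1) 0)
  let gW := (single A (ComplexShape.up ℤ) 0).map (S.P.map g) ≫ g₀
  have hk : k ≫ I.d (-1) 0 =
      (singleObjXSelf (ComplexShape.up ℤ) 0 (S.P.obj W)).inv ≫ gW.f 0 := by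
    rw [← I.toCycles_i (-1) 0, ← Category.assoc]
    dsimp only [k]
    rw [Category.assoc q, ← pullback.condition, ← Category.assoc q, hq, Category.assoc, Category.assoc]
    rw [cyclesMap_i, ← Category.assoc _ (iCycles _ _), singleObjCyclesSelfIso_inv_iCycles]
    simp [gW, single_map_f_self]
  have hzero : Q.map gW = 0 := by
    let Pz := (single A (ComplexShape.up ℤ) (0 : ℤ)).obj (S.P.obj W)
    let hmap : ∀ a b, (ComplexShape.up ℤ).Rel b a → (Pz.X a ⟶ I.X b) := fun a b _ =>
      if h : a = 0 ∧ b = -1 then (Pz.XIsoOfEq h.1).hom ≫ (singleObjXSelf (ComplexShape.up ℤ) 0 _).hom ≫ k ≫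
        (I.XIsoOfEq h.2.symm).hom else 0
    refine Amplitude.Q_map_eq_zero_of_homotopy ((Homotopy.ofEq ?_).trans (Homotopy.nullHomotopy' hmap))
    apply from_single_hom_ext
    rw [Homotopy.nullHomotopicMap'_f (show (ComplexShape.up ℤ).Rel (-1) 0 by simp)
      (show (ComplexShape.up ℤ).Rel 0 (0 + 1) by simp),
      show Pz.d 0 (0 + 1) = 0 by simp [Pz], zero_comp, zero_add]
    simp only [hmap, and_self, dite_true, XIsoOfEq_rfl, Iso.refl_hom, Category.id_comp, Category.comp_id,
      Category.assoc]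
    rw [hk]
    simp
  rw [← cancel_mono e.inv, Category.assoc, ← hg₀, zero_comp]
  exact (Q.map_comp _ _).symm.trans hzero

end Groth.Agent.SiteDer16
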