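import Groth.Agent.DCat.RDUnbounded
import Groth.Agent.DCat.DerivedAdj
import Groth.Agent.DCat.LeftRes
import Groth.Agent.SiteCoh.ExtAcyclic
import Mathlib.Algebra.Homology.DerivedCategory.Fractions
import Mathlib.Algebra.Homology.HomotopyCofiber

/-! Morphisms into direct images of K-injective complexes in the derived category. -/

set_option autoImplicit false
set_option backward.isDefEq.respectTransparency false
set_option backward.defeqAttrib.useBackward true
set_option linter.style.haveILetI false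

universe w w' v v' u u' t

open CategoryTheory CategoryTheory.Limits CategoryTheory.Pretriangulated DerivedCategory Abelian
open Groth.Agent.DCat HomologicalComplex

namespace Groth.Agent.SiteDer16

variable {A : Type u} [Category.{v} A] [Abelian A] {B : Type u'} [Category.{v'} B] [Abelian B]

section Orth

variable [HasExt.{w'} B] (F : A ⥤ B)

/-- Objects with no higher extensions into images of injective objects. -/
def pushOrth : ObjectProperty B := fun Y =>
  ∀ (I : A), Injective I → ∀ q : ℕ, Subsingleton (Ext.{w'} Y (F.obj I) (q + 1))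

theorem pushOrth_of_isZero {Y : B} (hY : IsZero Y) : pushOrth F Y := fun I _ q =>
  subsingleton_of_forall_eq 0 fun x => by
    rw [← Ext.mk₀_id_comp x, hY.eq_of_src (𝟙 Y) 0, Ext.mk₀_zero, Ext.zero_comp]

theorem pushOrth_of_iso {Y Y' : B} (e : Y ≅ Y') (h : pushOrth F Y) : pushOrth F Y' := fun I hI q =>
  haveI := h I hI q
  SiteCoh.subsingleton_ext_of_iso e.symm (q + 1)

theorem pushOrth_biprod {Y₁ Y₂ : B} (h₁ : pushOrth F Y₁) (h₂ : pushOrth F Y₂) : pushOrth F (Y₁ ⊞ Y₂) :=
  fun I hI q => subsingleton_of_forall_eq 0 fun x => by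
    haveI := h₁ I hI q
    haveI := h₂ I hI q
    rw [← Ext.mk₀_id_comp x, ← biprod.total, Ext.mk₀_add, Ext.add_comp, ← Ext.mk₀_comp_mk₀,
      ← Ext.mk₀_comp_mk₀, Ext.comp_assoc_of_second_deg_zero, Ext.comp_assoc_of_second_deg_zero,
      Subsingleton.elim ((Ext.mk₀ (biprod.inl : Y₁ ⟶ Y₁ ⊞ Y₂)).comp x _) 0,
      Subsingleton.elim ((Ext.mk₀ (biprod.inr : Y₂ ⟶ Y₁ ⊞ Y₂)).comp x _) 0, Ext.comp_zero, Ext.comp_zero,
      add_zero]

theorem subsingleton_ext_sigma [EnoughInjectives B] {ι : Type t} (Y : ι → B) [HasCoproduct Y] (q : ℕ) :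
    ∀ (M : B), (∀ i, Subsingleton (Ext.{w'} (Y i) M (q + 1))) → Subsingleton (Ext.{w'} (∐ Y) M (q + 1)) := by
  induction q with
  | zero =>
    intro M h
    refine SiteCoh.subsingleton_ext_one (SiteCoh.injEmbed_shortExact M)
      (haveI : Injective (SiteCoh.injEmbed M).X₂ := inferInstanceAs (Injective (Injective.under M))
       Ext.subsingleton_of_injective _ _ 0) fun f => ?_
    choose g hg using fun i => SiteCoh.exists_comp_eq_of_subsingleton_ext (SiteCoh.injEmbed_shortExact M) (h i)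
      (Sigma.ι Y i ≫ f)
    exact ⟨Sigma.desc g, Sigma.hom_ext _ _ fun i => by rw [Sigma.ι_desc_assoc, hg]⟩
  | succ q ih =>
    intro M h
    haveI : Injective (SiteCoh.injEmbed M).X₂ := inferInstanceAs (Injective (Injective.under M))
    exact SiteCoh.subsingleton_ext_X₁ (SiteCoh.injEmbed_shortExact M) _
      (ih _ fun i => SiteCoh.subsingleton_ext_X₃ (SiteCoh.injEmbed_shortExact M) _
        (Ext.subsingleton_of_injective _ _ q) (h i))
      (Ext.subsingleton_of_injective _ _ _)

theorem pushOrth_sigma [EnoughInjectives B] {ι : Type t} (Y : ι → B) [HasCoproduct Y] (h : ∀ i, pushOrth F (Y i)) :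
    pushOrth F (∐ Y) := fun I hI q => subsingleton_ext_sigma Y q _ fun i => h i I hI q

end Orth

variable {G : B ⥤ A} {F : A ⥤ B} [F.Additive] [G.Additive]

section Exact

variable [HasExt.{w'} B] [EnoughInjectives A] (adj : G ⊣ F)
  (X : CochainComplex B ℤ) (b : ℤ) [X.IsStrictlyLE b] (hX : ∀ n, pushOrth F (X.X n))

include hX b in
theorem subsingleton_ext_cycles (hac : X.Acyclic) (I : A) [hI : Injective I] (m : ℤ) :
    ∀ q : ℕ, Subsingleton (Ext.{w'} (X.cycles m) (F.obj I) (q + 1)) := by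
  suffices ∀ (k : ℕ) (m : ℤ), b + 1 ≤ m + k → ∀ q : ℕ, Subsingleton (Ext.{w'} (X.cycles m) (F.obj I) (q + 1)) from
    this (b + 1 - m).toNat m (by omega)
  intro k
  induction k with
  | zero =>
    intro m hm q
    exact pushOrth_of_isZero F (IsZero.of_mono (X.iCycles m) (X.isZero_of_isStrictlyLE b m (by omega))) I hI q
  | succ k ih =>
    intro m hm q
    have hS : (ShortComplex.mk (X.iCycles m) (X.toCycles m (m + 1)) (by
        rw [← cancel_mono (X.iCycles (m + 1)), Category.assoc, toCycles_i, iCycles_d, zero_comp])).ShortExact := by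
      haveI : Epi (X.toCycles m (m + 1)) := Preadditive.epi_of_isZero_cokernel' _
        (X.homologyIsCokernel m (m + 1) (by simp)) ((hac (m + 1)).isZero_homology)
      refine { exact := ShortComplex.exact_of_f_is_kernel _ ?_ }
      exact KernelFork.IsLimit.ofι' _ _ fun {T} g hg => ⟨X.liftCycles g (m + 1) (by simp) (by
        rw [← X.toCycles_i m (m + 1), reassoc_of% hg, zero_comp]), X.liftCycles_i _ _ _ _⟩
    refine subsingleton_of_forall_eq 0 fun x => ?_
    haveI : Subsingleton (Ext.{w'} (ShortComplex.mk (X.iCycles m) (X.toCycles m (m + 1)) (by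
        rw [← cancel_mono (X.iCycles (m + 1)), Category.assoc, toCycles_i, iCycles_d, zero_comp])).X₃
        (F.obj I) (q + 2)) := ih (m + 1) (by omega) (q + 1)
    haveI := hX m I hI q
    obtain ⟨y, rfl⟩ := Ext.contravariant_sequence_exact₁ hS (F.obj I) x
      (show 1 + (q + 1) = q + 2 by omega) (Subsingleton.elim _ _)
    rw [Subsingleton.elim y 0, Ext.comp_zero]

include hX adj b in
/-- The inverse image of an acyclic bounded above complex of orthogonal objects is acyclic. -/
theorem acyclic_map (hac : X.Acyclic) : ((G.mapHomologicalComplex (ComplexShape.up ℤ)).obj X).Acyclic := by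
  intro n
  rw [HomologicalComplex.exactAt_iff' _ (n - 1) n (n + 1) (by simp) (by simp)]
  have hw : G.map (X.d (n - 1) n) ≫ G.map (X.d n (n + 1)) = 0 := by rw [← G.map_comp, X.d_comp_d, G.map_zero]
  show (ShortComplex.mk (G.map (X.d (n - 1) n)) (G.map (X.d n (n + 1))) hw).Exact
  rw [ShortComplex.exact_iff_mono_cokernel_desc]
  let φ := cokernel.π (G.map (X.d (n - 1) n)) ≫ Injective.ι _
  suffices ∃ ξ, G.map (X.d n (n + 1)) ≫ ξ = φ by
    obtain ⟨ξ, hξ⟩ := this
    haveI : Mono (cokernel.desc _ _ hw ≫ ξ) := by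
      have e : cokernel.desc _ _ hw ≫ ξ = Injective.ι _ := by
        rw [← cancel_epi (cokernel.π (G.map (X.d (n - 1) n))), cokernel.π_desc_assoc]
        exact hξ
      rw [e]; infer_instance
    exact mono_of_mono _ ξ
  let I := Injective.under (cokernel (G.map (X.d (n - 1) n)))
  let ψ : X.X n ⟶ F.obj I := adj.homEquiv _ _ φ
  have hψ : X.d (n - 1) n ≫ ψ = 0 := by
    rw [← adj.homEquiv_naturality_left, show G.map (X.d (n - 1) n) ≫ φ = 0 by simp [φ]]
    simp [Adjunction.homEquiv_unit]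
  haveI : Epi (X.toCycles n (n + 1)) := Preadditive.epi_of_isZero_cokernel' _
    (X.homologyIsCokernel n (n + 1) (by simp)) ((hac (n + 1)).isZero_homology)
  have hS : (ShortComplex.mk (X.d (n - 1) n) (X.toCycles n (n + 1)) (by
      rw [← cancel_mono (X.iCycles (n + 1)), Category.assoc, toCycles_i, X.d_comp_d, zero_comp])).Exact := by
    have h := hac n
    rw [HomologicalComplex.exactAt_iff' _ (n - 1) n (n + 1) (by simp) (by simp)] at h
    let a : ShortComplex.mk (X.d (n - 1) n) (X.toCycles n (n + 1)) (by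
      rw [← cancel_mono (X.iCycles (n + 1)), Category.assoc, toCycles_i, X.d_comp_d, zero_comp]) ⟶
        X.sc' (n - 1) n (n + 1) := { τ₁ := 𝟙 _, τ₂ := 𝟙 _, τ₃ := X.iCycles (n + 1) }
    haveI : Epi a.τ₁ := (inferInstance : Epi (𝟙 (X.X (n - 1))))
    haveI : IsIso a.τ₂ := (inferInstance : IsIso (𝟙 (X.X n)))
    haveI : Mono a.τ₃ := (inferInstance : Mono (X.iCycles (n + 1)))
    exact (ShortComplex.exact_iff_of_epi_of_isIso_of_mono a).2 h
  let χ := hS.desc ψ hψ
  have hχ : X.toCycles n (n + 1) ≫ χ = ψ := hS.g_desc ψ hψ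
  have hC : (ShortComplex.mk (X.iCycles (n + 1)) (X.toCycles (n + 1) (n + 2)) (by
      rw [← cancel_mono (X.iCycles (n + 2)), Category.assoc, toCycles_i, iCycles_d, zero_comp])).ShortExact := by
    haveI : Epi (X.toCycles (n + 1) (n + 2)) := Preadditive.epi_of_isZero_cokernel' _
      (X.homologyIsCokernel (n + 1) (n + 2) (by simp; omega)) ((hac (n + 2)).isZero_homology)
    refine { exact := ShortComplex.exact_of_f_is_kernel _ ?_ }
    exact KernelFork.IsLimit.ofι' _ _ fun {T} g hg => ⟨X.liftCycles g (n + 2) (by simp; omega) (by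
      rw [← X.toCycles_i (n + 1) (n + 2), reassoc_of% hg, zero_comp]), X.liftCycles_i _ _ _ _⟩
  haveI := subsingleton_ext_cycles X b hX hac I (n + 2) 0
  obtain ⟨y, hy⟩ := Ext.contravariant_sequence_exact₁ hC (F.obj I) (Ext.mk₀ χ) (show 1 + 0 = 1 from rfl)
    (Subsingleton.elim _ _)
  obtain ⟨g, rfl⟩ := (Ext.mk₀_bijective _ _).2 y
  have hg : X.iCycles (n + 1) ≫ g = χ := (Ext.mk₀_bijective _ _).1 ((Ext.mk₀_comp_mk₀ _ _).symm.trans hy)
  refine ⟨(adj.homEquiv _ _).symm g, (adj.homEquiv _ _).injective ?_⟩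
  rw [adj.homEquiv_naturality_left, Equiv.apply_symm_apply, ← X.toCycles_i n (n + 1), Category.assoc, hg, hχ]

include hX adj b in
/-- No maps from acyclic complexes of orthogonal objects to direct images of K-injective complexes. -/
theorem hom_eq_zero (hac : X.Acyclic) (I : CochainComplex A ℤ) [I.IsKInjective]
    (g : (HomotopyCategory.quotient B (ComplexShape.up ℤ)).obj X ⟶
      (F.mapHomotopyCategory (ComplexShape.up ℤ)).obj ((HomotopyCategory.quotient A (ComplexShape.up ℤ)).obj I)) :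
    g = 0 := by
  let e := (adjHot (ComplexShape.up ℤ) adj).homEquiv ((HomotopyCategory.quotient B _).obj X)
    ((HomotopyCategory.quotient A _).obj I)
  have h : e.symm g = 0 := by
    obtain ⟨k, hk⟩ : ∃ k : (G.mapHomologicalComplex (ComplexShape.up ℤ)).obj X ⟶ I,
        (HomotopyCategory.quotient A _).map k = e.symm g :=
      (HomotopyCategory.quotient A _).map_surjective _
    rw [← hk]
    exact HomotopyCategory.eq_of_homotopy k 0 (CochainComplex.IsKInjective.homotopyZero k
      (acyclic_map adj X b hX hac)) |>.trans (Functor.map_zero _ _ _)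
  rw [← e.apply_symm_apply g, h]
  dsimp only [e]
  rw [Adjunction.homEquiv_unit, Functor.map_zero, comp_zero]

end Exact

section Derived

variable [HasExt.{w'} B] [EnoughInjectives A] [HasDerivedCategory.{w} B] (adj : G ⊣ F)

include adj in
/-- Precomposition with quasi-isomorphisms between bounded above complexes of orthogonal objects. -/
theorem bijective_precomp {X' X : CochainComplex B ℤ} (v : X' ⟶ X) [QuasiIso v] (b : ℤ)
    [X'.IsStrictlyLE b] [X.IsStrictlyLE b] (hX' : ∀ n, pushOrth F (X'.X n)) (hX : ∀ n, pushOrth F (X.X n))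
    (I : CochainComplex A ℤ) [I.IsKInjective] :
    Function.Bijective (fun g : (HomotopyCategory.quotient B (ComplexShape.up ℤ)).obj X ⟶
      (F.mapHomotopyCategory (ComplexShape.up ℤ)).obj ((HomotopyCategory.quotient A (ComplexShape.up ℤ)).obj I) =>
        (HomotopyCategory.quotient B (ComplexShape.up ℤ)).map v ≫ g) := by
  let T := CochainComplex.mappingCone.triangleh v
  have hT : T ∈ distTriang _ := HomotopyCategory.mappingCone_triangleh_distinguished v
  let Z := CochainComplex.mappingCone v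
  haveI : Z.IsStrictlyLE b := by
    rw [CochainComplex.isStrictlyLE_iff]
    intro i hi
    refine IsZero.of_iso ?_ (HomologicalComplex.homotopyCofiber.XIsoBiprod v i (i + 1) rfl)
    exact (biprod_isZero_iff _ _).2 ⟨X'.isZero_of_isStrictlyLE b _ (by omega), X.isZero_of_isStrictlyLE b _ hi⟩
  have hZ : ∀ n, pushOrth F (Z.X n) := fun n =>
    pushOrth_of_iso F (HomologicalComplex.homotopyCofiber.XIsoBiprod v n (n + 1) rfl).symm
      (pushOrth_biprod F (hX' _) (hX _))
  have hac : Z.Acyclic := by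
    rw [← HomotopyCategory.quotient_obj_mem_subcategoryAcyclic_iff_acyclic]
    refine ((HomotopyCategory.subcategoryAcyclic B).trW_iff_of_distinguished T hT).1 ?_
    rw [← HomotopyCategory.quasiIso_eq_trW_subcategoryAcyclic]
    exact (HomotopyCategory.quotient_map_mem_quasiIso_iff v).2 ((HomologicalComplex.mem_quasiIso_iff _).2 ‹_›)
  haveI : (Z⟦(-1 : ℤ)⟧).IsStrictlyLE (b + 1) := Z.isStrictlyLE_shift b (-1) (b + 1) (by omega)
  have hac' : (Z⟦(-1 : ℤ)⟧).Acyclic := fun n => by
    rw [HomologicalComplex.exactAt_iff_isZero_homology]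
    exact ((hac (n - 1)).isZero_homology).of_iso
      ((Functor.shiftIso (HomologicalComplex.homologyFunctor B (ComplexShape.up ℤ) 0) (-1) n (n - 1) (by omega)).app Z)
  constructor
  · intro g₁ g₂ h
    have hd : T.mor₁ ≫ (g₁ - g₂) = 0 := by
      rw [Preadditive.comp_sub]
      exact sub_eq_zero.2 h
    obtain ⟨k, hk⟩ := T.yoneda_exact₂ hT _ hd
    rw [show k = 0 from hom_eq_zero adj Z b hZ hac I k, comp_zero] at hk
    exact sub_eq_zero.1 hk
  · intro g
    obtain ⟨k, hk⟩ := T.invRotate.yoneda_exact₂ (inv_rot_of_distTriang _ hT) g (by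
      let e := ((HomotopyCategory.quotient B (ComplexShape.up ℤ)).commShiftIso (-1 : ℤ)).app Z
      rw [← cancel_epi e.hom, comp_zero]
      exact hom_eq_zero adj (Z⟦(-1 : ℤ)⟧) (b + 1) (fun n => hZ (n + (-1))) hac' I _)
    exact ⟨k, hk.symm⟩

include adj in
/-- Morphisms from orthogonal complexes into direct images of K-injectives are computed up to homotopy. -/
theorem bijective_Qh_map (hP : ∀ M : B, ∃ (Y : B) (π : Y ⟶ M), pushOrth F Y ∧ Epi π)
    (X : CochainComplex B ℤ) (b : ℤ) [X.IsStrictlyLE b] (hX : ∀ n, pushOrth F (X.X n))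
    (I : CochainComplex A ℤ) [I.IsKInjective] :
    Function.Bijective (Qh.map : ((HomotopyCategory.quotient B (ComplexShape.up ℤ)).obj X ⟶
      (HomotopyCategory.quotient B (ComplexShape.up ℤ)).obj ((F.mapHomologicalComplex (ComplexShape.up ℤ)).obj I)) → _) := by
  have hres : ∀ {Z : CochainComplex B ℤ} (s : Z ⟶ X) [Z.IsStrictlyLE b] [QuasiIso s],
      ∃ (X' : CochainComplex B ℤ) (t : X' ⟶ Z), QuasiIso t ∧ Function.Bijective
        (fun g : (HomotopyCategory.quotient B (ComplexShape.up ℤ)).obj X ⟶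
          (HomotopyCategory.quotient B (ComplexShape.up ℤ)).obj ((F.mapHomologicalComplex (ComplexShape.up ℤ)).obj I) =>
            (HomotopyCategory.quotient B (ComplexShape.up ℤ)).map (t ≫ s) ≫ g) := by
    intro Z s _ _
    obtain ⟨X', t, _, hX', _, ht⟩ := LeftRes.exists_resolution (pushOrth F)
      ⟨Limits.kernel (𝟙 X.X b), isZero_kernel_of_mono _, pushOrth_of_isZero F (isZero_kernel_of_mono _)⟩ hP Z b
    exact ⟨X', t, ht, bijective_precomp adj (t ≫ s) b hX' hX I⟩
  constructor
  · intro g₁ g₂ hg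
    obtain ⟨Z, s, hs, hsg⟩ := (MorphismProperty.map_eq_iff_precomp Qh
      (HomotopyCategory.quasiIso B (ComplexShape.up ℤ)) g₁ g₂).1 hg
    obtain ⟨Z, rfl⟩ := HomotopyCategory.quotient_obj_surjective Z
    obtain ⟨s, rfl⟩ := (HomotopyCategory.quotient _ _).map_surjective s
    haveI : QuasiIso s := (HomologicalComplex.mem_quasiIso_iff _).1 ((HomotopyCategory.quotient_map_mem_quasiIso_iff s).1 hs)
    haveI : QuasiIso (CochainComplex.truncLEMap s b) := by
      rw [CochainComplex.quasiIso_truncLEMap_iff]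
      intro i _
      infer_instance
    let s' : CochainComplex.truncLE Z b ⟶ X := CochainComplex.truncLEMap s b ≫ CochainComplex.ιTruncLE X b
    obtain ⟨X', t, _, hbij⟩ := hres s'
    refine hbij.1 ?_
    have e : t ≫ s' = (t ≫ CochainComplex.ιTruncLE Z b) ≫ s := by
      simp only [s', CochainComplex.ιTruncLE_naturality, Category.assoc]
    show (HomotopyCategory.quotient _ _).map (t ≫ s') ≫ g₁ = (HomotopyCategory.quotient _ _).map (t ≫ s') ≫ g₂
    rw [e, Functor.map_comp, Category.assoc, Category.assoc, hsg]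
  · intro φ
    let i := quotientCompQhIso B
    obtain ⟨Z, _, s, hs, g, hg⟩ := right_fac_of_isStrictlyLE
      (i.inv.app X ≫ φ ≫ i.hom.app ((F.mapHomologicalComplex (ComplexShape.up ℤ)).obj I)) b
    haveI : QuasiIso s := (isIso_Q_map_iff_quasiIso _ s).1 hs
    obtain ⟨X', t, ht, hbij⟩ := hres s
    obtain ⟨k, hk⟩ := hbij.2 ((HomotopyCategory.quotient _ _).map (t ≫ g))
    refine ⟨k, ?_⟩
    rw [← cancel_epi (i.inv.app X), ← cancel_mono (i.hom.app ((F.mapHomologicalComplex (ComplexShape.up ℤ)).obj I))]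
    simp only [Category.assoc]
    rw [hg]
    haveI : IsIso (Q.map (t ≫ s)) := (isIso_Q_map_iff_quasiIso _ (t ≫ s)).2 inferInstance
    rw [← cancel_epi (Q.map (t ≫ s))]
    have n1 := i.inv.naturality (t ≫ s)
    dsimp at n1
    rw [reassoc_of% n1, ← Qh.map_comp_assoc]
    rw [show (HomotopyCategory.quotient B (ComplexShape.up ℤ)).map (t ≫ s) ≫ k = _ from hk]
    have n2 := i.inv.naturality (t ≫ g)
    dsimp at n2
    erw [← reassoc_of% n2]
    simp [Functor.map_comp]

variable [HasDerivedCategory.{t} A]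
  [(F.mapHomotopyCategory (ComplexShape.up ℤ) ⋙ Qh).HasRightDerivedFunctor
    (HomotopyCategory.quasiIso A (ComplexShape.up ℤ))]

include adj in
/-- A right derived functor represents morphisms out of orthogonal complexes. -/
theorem exists_bijective_rf (hA : EnoughKInj A) (hP : ∀ M : B, ∃ (Y : B) (π : Y ⟶ M), pushOrth F Y ∧ Epi π)
    (X : CochainComplex B ℤ) (b : ℤ) [X.IsStrictlyLE b] (hX : ∀ n, pushOrth F (X.X n)) :
    ∃ η : Qh.obj ((HomotopyCategory.quotient B (ComplexShape.up ℤ)).obj X) ⟶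
      ((F.mapHomotopyCategory (ComplexShape.up ℤ) ⋙ Qh).totalRightDerived Qh (HomotopyCategory.quasiIso A (ComplexShape.up ℤ))).obj
        (Qh.obj ((G.mapHomotopyCategory (ComplexShape.up ℤ)).obj ((HomotopyCategory.quotient B (ComplexShape.up ℤ)).obj X))),
      ∀ K : DerivedCategory A, Function.Bijective (fun φ : Qh.obj ((G.mapHomotopyCategory (ComplexShape.up ℤ)).obj
          ((HomotopyCategory.quotient B (ComplexShape.up ℤ)).obj X)) ⟶ K =>
        η ≫ ((F.mapHomotopyCategory (ComplexShape.up ℤ) ⋙ Qh).totalRightDerived Qh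
          (HomotopyCategory.quasiIso A (ComplexShape.up ℤ))).map φ) := by
  let R := (F.mapHomotopyCategory (ComplexShape.up ℤ) ⋙ Qh).totalRightDerived Qh
    (HomotopyCategory.quasiIso A (ComplexShape.up ℤ))
  let α := (F.mapHomotopyCategory (ComplexShape.up ℤ) ⋙ Qh).totalRightDerivedUnit Qh
    (HomotopyCategory.quasiIso A (ComplexShape.up ℤ))
  let qX := (HomotopyCategory.quotient B (ComplexShape.up ℤ)).obj X
  let aH := adjHot (ComplexShape.up ℤ) adj
  refine ⟨Qh.map (aH.unit.app qX) ≫ α.app _, fun K => ?_⟩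
  obtain ⟨I, f, hI, hf⟩ := hA (Q.objPreimage K)
  haveI := hI
  haveI := hf
  haveI : IsIso (Q.map f) := (isIso_Q_map_iff_quasiIso _ f).2 hf
  let qI := (HomotopyCategory.quotient A (ComplexShape.up ℤ)).obj I
  let e : Qh.obj qI ≅ K := (quotientCompQhIso A).app I ≪≫ (asIso (Q.map f)).symm ≪≫ Q.objObjPreimageIso K
  haveI : IsIso (α.app qI) := isIso_unit_of_kInj hA _ I hI
  let Φ₀ : ((G.mapHomotopyCategory (ComplexShape.up ℤ)).obj qX ⟶ qI) → (Qh.obj qX ⟶ R.obj (Qh.obj qI)) :=
    fun g => Qh.map (aH.homEquiv qX qI g) ≫ α.app qI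
  have h₀ : Function.Bijective Φ₀ :=
    (Iso.homToEquiv (asIso (α.app qI))).bijective.comp
      ((bijective_Qh_map adj hP X b hX I).comp (aH.homEquiv qX qI).bijective)
  have hQh : Function.Bijective (Qh.map : ((G.mapHomotopyCategory (ComplexShape.up ℤ)).obj qX ⟶ qI) → _) :=
    CochainComplex.IsKInjective.Qh_map_bijective _ I
  have hΦ : ∀ g, (Qh.map (aH.unit.app qX) ≫ α.app _) ≫ R.map (Qh.map g) = Φ₀ g := fun g => by
    have hn : (F.mapHomotopyCategory (ComplexShape.up ℤ) ⋙ Qh).map g ≫ α.app qI =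
        α.app _ ≫ R.map (Qh.map g) := α.naturality g
    rw [Category.assoc, ← hn, Functor.comp_map, ← Category.assoc, ← Qh.map_comp]
    simp only [Φ₀, Adjunction.homEquiv_unit]
  have hI' : Function.Bijective (fun φ : Qh.obj ((G.mapHomotopyCategory (ComplexShape.up ℤ)).obj qX) ⟶ Qh.obj qI =>
      (Qh.map (aH.unit.app qX) ≫ α.app _) ≫ R.map φ) := by
    refine ⟨fun φ₁ φ₂ h => ?_, fun ψ => ?_⟩
    · obtain ⟨g₁, rfl⟩ := hQh.2 φ₁
      obtain ⟨g₂, rfl⟩ := hQh.2 φ₂
      exact congrArg _ (h₀.1 (by rw [← hΦ, ← hΦ]; exact h))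
    · obtain ⟨g, rfl⟩ := h₀.2 ψ
      exact ⟨_, hΦ g⟩
  refine ⟨fun φ₁ φ₂ h => (cancel_mono e.inv).1 (hI'.1 ?_), fun ψ => ?_⟩
  · simp only [Functor.map_comp, ← Category.assoc]
    exact congrArg (· ≫ R.map e.inv) h
  · obtain ⟨φ, hφ⟩ := hI'.2 (ψ ≫ R.map e.inv)
    refine ⟨φ ≫ e.hom, ?_⟩
    show _ ≫ R.map (φ ≫ e.hom) = ψ
    rw [R.map_comp, ← Category.assoc]
    exact (congrArg (· ≫ R.map e.hom) hφ).trans (by rw [Category.assoc, ← R.map_comp, e.inv_hom_id, R.map_id, Category.comp_id])

end Derived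

end Groth.Agent.SiteDer16
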