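import Groth.Agent.SiteDer16.PartialAdj
import Groth.Agent.SiteDer16.PushAcyclic
import Groth.Agent.SiteDer16.Adjunction
import Groth.Agent.DCat.WayOut
import Groth.Prelude.Def_SiteCmp

/-! Hypercohomology of derived direct images. -/

set_option autoImplicit false
set_option backward.isDefEq.respectTransparency false
set_option backward.defeqAttrib.useBackward true
set_option linter.style.haveILetI false

universe w v u u'

open CategoryTheory CategoryTheory.Limits Opposite DerivedCategory
open Groth.Agent.DCat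

attribute [local instance] HasDerivedCategory.standard

namespace Groth.Agent.SiteDer16

/-- Objects with sections generate through coproducts. -/
theorem Sections.exists_epi {C : Type u'} [SmallCategory C] {J : GrothendieckTopology C}
    {A : Type u} [Category.{v} A] [Abelian A] [HasCoproducts.{max u' v} A] (S : Sections J A) (M : A) :
    ∃ (ι : Type (max u' v)) (V : ι → C) (π : ∐ (fun i => S.P.obj (V i)) ⟶ M), Epi π := by
  let κ := Σ V : C, (S.P.obj V ⟶ M)
  let π : ∐ (fun i : κ => S.P.obj i.1) ⟶ M := Sigma.desc fun i => i.2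
  refine ⟨κ, fun i => i.1, π, Preadditive.epi_of_cokernel_zero ?_⟩
  refine (S.gen fun V x => ?_).eq_of_tgt _ _
  obtain ⟨T, hT, hl⟩ := S.lift (cokernel.π π) x
  refine S.sep x T hT fun W g hg => ?_
  obtain ⟨y, hy⟩ := hl g hg
  rw [← hy, show y = Sigma.ι (fun i : κ => S.P.obj i.1) ⟨W, y⟩ ≫ π by simp [π],
    Category.assoc, cokernel.condition, comp_zero]

variable {C : Type u} [SmallCategory C] {J : GrothendieckTopology C}
  {D : Type u} [SmallCategory D] {K : GrothendieckTopology D}
  {O_C : Sheaf J CommRingCat.{u}} {O_D : Sheaf K CommRingCat.{u}} (f : ModSite.RMor O_C O_D)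

/-- Inverse images of free modules are free. -/
noncomputable def pullFreeIso (W : D) : f.pull.obj ((modFree O_D).obj W) ≅ (modFree O_C).obj (f.fn.obj W) :=
  let adj : f.pull ⊣ f.push := f.adj
  Iso.unop (Coyoneda.fullyFaithful.preimageIso (X := op ((modFree O_C).obj (f.fn.obj W)))
    (Y := op (f.pull.obj ((modFree O_D).obj W)))
    (NatIso.ofComponents
      (fun F => (((modHomEquiv O_C (f.fn.obj W) F).toEquiv.trans
        ((modHomEquiv O_D W (f.push.obj F)).symm.toEquiv.trans (adj.homEquiv _ F).symm))).toIso)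
      (fun {F F'} g => by
        ext x
        show (adj.homEquiv _ F').symm ((modHomEquiv O_D W (f.push.obj F')).symm
            (modHomEquiv O_C (f.fn.obj W) F' (x ≫ g))) =
          (adj.homEquiv _ F).symm ((modHomEquiv O_D W (f.push.obj F)).symm (modHomEquiv O_C (f.fn.obj W) F x)) ≫ g
        rw [← adj.homEquiv_naturality_right_symm]
        refine congrArg _ ((modHomEquiv O_D W (f.push.obj F')).injective ?_)
        rw [AddEquiv.apply_symm_apply]
        show modHomEquiv₀ O_C (f.fn.obj W) F' (x ≫ g) = modHomEquiv₀ O_D W (f.push.obj F') (_ ≫ f.push.map g)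
        rw [modHomEquiv₀_postcomp, modHomEquiv₀_postcomp]
        exact congrArg _ ((modHomEquiv O_D W (f.push.obj F)).apply_symm_apply _).symm)))

/-- Hypercohomology of a derived direct image is that upstairs. -/
theorem exists_bijective_rpushD [SiteCmp.HasRpushD f] (W : D) (k : ℤ) :
    ∃ η : ((modSections O_D).pt.obj W)⟦k⟧ ⟶
        (SiteCmp.RpushD f).obj (((modSections O_C).pt.obj (f.fn.obj W))⟦k⟧),
      ∀ L : DerivedCategory (ModSite.Mod O_C), Function.Bijective
        (fun φ : ((modSections O_C).pt.obj (f.fn.obj W))⟦k⟧ ⟶ L => η ≫ (SiteCmp.RpushD f).map φ) := by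
  haveI : HasExt.{u} (ModSite.Mod O_D) := inferInstance
  haveI : EnoughInjectives (ModSite.Mod O_D) := inferInstance
  have hW : ∀ V : D, pushOrth.{u} f.push ((modFree O_D).obj V) := fun V I hI q =>
    subsingleton_ext_modFree_push f I V q
  have hP : ∀ M : ModSite.Mod O_D, ∃ (Y : ModSite.Mod O_D) (π : Y ⟶ M), pushOrth.{u} f.push Y ∧ Epi π :=
    fun M => by
      obtain ⟨ι, V, π, hπ⟩ := (modSections O_D).exists_epi M
      exact ⟨_, π, pushOrth_sigma f.push _ fun i => hW _, hπ⟩
  let X := (HomologicalComplex.single (ModSite.Mod O_D) (ComplexShape.up ℤ) (-k)).obj ((modFree O_D).obj W)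
  obtain ⟨η, hη⟩ := exists_bijective_rf (f.adj) (enoughKInj_sheafOfModules _) hP X (-k) fun n => by
    by_cases hn : n = -k
    · subst hn
      exact pushOrth_of_iso _ (HomologicalComplex.singleObjXSelf _ _ _).symm (hW W)
    · exact pushOrth_of_isZero _ (HomologicalComplex.isZero_single_obj_X _ _ _ _ hn)
  let eD : ∀ {C' : Type u} [SmallCategory C'] {J' : GrothendieckTopology C'} (O : Sheaf J' CommRingCat.{u}) (M : ModSite.Mod O),
      Qh.obj ((HomotopyCategory.quotient _ (ComplexShape.up ℤ)).obj
        ((HomologicalComplex.single (ModSite.Mod O) (ComplexShape.up ℤ) (-k)).obj M)) ≅ ((HomologicalComplex.single _ (ComplexShape.up ℤ) 0 ⋙ Q).obj M)⟦k⟧ :=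
    fun O M => (quotientCompQhIso _).app _ ≪≫ ((singleFunctorIsoCompQ _ (-k)).app M).symm ≪≫
      WayOut.singleIso M (-k) ≪≫ (shiftFunctor _ (-(-k))).mapIso ((singleFunctorIsoCompQ _ 0).app M) ≪≫
      eqToIso (congrArg (fun i : ℤ => ((HomologicalComplex.single (ModSite.Mod O) (ComplexShape.up ℤ) 0 ⋙ Q).obj M)⟦i⟧) (neg_neg k))
  let eC : Qh.obj ((f.pull.mapHomotopyCategory (ComplexShape.up ℤ)).obj ((HomotopyCategory.quotient _ (ComplexShape.up ℤ)).obj X)) ≅
      ((modSections O_C).pt.obj (f.fn.obj W))⟦k⟧ :=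
    Qh.mapIso ((f.pull.mapHomotopyCategoryFactors (ComplexShape.up ℤ)).app X ≪≫
      (HomotopyCategory.quotient _ (ComplexShape.up ℤ)).mapIso
        ((HomologicalComplex.singleMapHomologicalComplex f.pull (ComplexShape.up ℤ) (-k)).app _ ≪≫
          (HomologicalComplex.single (ModSite.Mod O_C) (ComplexShape.up ℤ) (-k)).mapIso (pullFreeIso f W))) ≪≫ eD O_C _
  refine ⟨(eD O_D _).inv ≫ η ≫ (SiteCmp.RpushD f).map eC.hom, fun L => ?_⟩
  have h := ((Iso.homFromEquiv (eD O_D ((modFree O_D).obj W))).bijective.comp (hη L)).comp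
    (Iso.homFromEquiv eC.symm).bijective
  refine (iff_of_eq (congrArg Function.Bijective ?_)).1 h
  funext φ
  simp only [Function.comp_apply, Category.assoc, ← Functor.map_comp]
  rfl

end Groth.Agent.SiteDer16
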